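import Groth.Agent.H21Split.Red0.IsoBase
import Groth.Agent.H21Diag.SplitSubtori
import Groth.Agent.H21Split.Family
import Groth.Agent.H21Split.R2.ChevExist

/-!
The splitting of a geometric fibre of a split group.
-/

open CategoryTheory MonoidalCategory CartesianMonoidalCategory MonObj GrpObj AlgebraicGeometry
open CategoryTheory.Limits

universe u

set_option backward.isDefEq.respectTransparency false
set_option linter.style.haveILetI false
set_option linter.unusedSectionVars false
set_option synthInstance.maxHeartbeats 400000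
set_option maxHeartbeats 1000000

noncomputable section

namespace Groth.Agent.H21Red0

section Bc

variable {S T : Scheme.{u}} (g : T ⟶ S)

theorem bcEquiv_symm_comp {X Y : Over S} (v : X ⟶ Y) {W : Over T} (a : W ⟶ Red.bc g X) :
    (H21Diag.bcEquiv g Y W).symm (a ≫ (Over.pullback g).map v) = (H21Diag.bcEquiv g X W).symm a ≫ v :=
  (Over.mapPullbackAdj g).homEquiv_naturality_right_symm a v

theorem DSmap_id' {S : Scheme.{u}} (M : Type) [AddCommGroup M] : Red.DSmap S (AddMonoidHom.id M) = 𝟙 _ := by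
  refine H21Split.hom_ext_pt fun R _ g j => ?_
  obtain ⟨χ, rfl⟩ := H21Split.ds_surjective g j
  rw [H21Split.ds_DSmap, Category.comp_id]
  congr 1

/-- an isomorphism of groups from an isomorphism of the underlying objects -/
def grpIso {S : Scheme.{u}} {A B : Over S} [GrpObj A] [GrpObj B] (e : A ≅ B) (h : IsMonHom e.hom) :
    Grp.mk A ≅ Grp.mk B :=
  haveI := h
  Grp.mkIso e (IsMonHom.one_hom e.hom) (IsMonHom.mul_hom e.hom)

/-- isomorphic lattices give isomorphic schemes -/
def dsObjIso (S : Scheme.{u}) {M N : Type} [AddCommGroup M] [AddCommGroup N] (e : M ≃+ N) :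
    Red.DS S N ≅ Red.DS S M where
  hom := Red.DSmap S e.toAddMonoidHom
  inv := Red.DSmap S e.symm.toAddMonoidHom
  hom_inv_id := by
    rw [H21Split.R2.DSmap_comp, show e.toAddMonoidHom.comp e.symm.toAddMonoidHom = AddMonoidHom.id N from
      AddMonoidHom.ext fun x => e.apply_symm_apply x, DSmap_id']
  inv_hom_id := by
    rw [H21Split.R2.DSmap_comp, show e.symm.toAddMonoidHom.comp e.toAddMonoidHom = AddMonoidHom.id M from
      AddMonoidHom.ext fun x => e.symm_apply_apply x, DSmap_id']

/-- equal diagonalisable groups for isomorphic lattices -/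
def dsMapIso {M N : Type} [AddCommGroup M] [AddCommGroup N] (e : M ≃+ N) :
    Grp.mk (Red.DS S N) ≅ Grp.mk (Red.DS S M) :=
  grpIso (dsObjIso S e) (H21Diag.isMonHom_DSmap S e.toAddMonoidHom)

/-- the trivialisation of the torus after base change -/
def splitBc {G : Over S} [GrpObj G] (D : Red.SplitRed G) : Grp.mk (Red.bc g D.T) ≅ Grp.mk (Red.DS T D.M) :=
  haveI : IsMonHom (dsIso g D.M).hom := inferInstance
  H21Diag.bcMapIso g D.split ≪≫ Grp.mkIso (dsIso g D.M) (IsMonHom.one_hom _) (IsMonHom.mul_hom _)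

theorem splitBc_hom {G : Over S} [GrpObj G] (D : Red.SplitRed G) :
    (splitBc g D).hom.hom.hom = (Over.pullback g).map D.split.hom.hom.hom ≫ (dsIso g D.M).hom := rfl

theorem splitBc_chi {G : Over S} [GrpObj G] (D : Red.SplitRed G) (m : D.M) :
    (splitBc g D).hom.hom.hom ≫ Red.chi T m =
      (Over.pullback g).map (D.split.hom.hom.hom ≫ Red.chi S m) ≫ (dsIso g ℤ).hom := by
  rw [splitBc_hom, Category.assoc, ← dsIso_chi, Functor.map_comp, Category.assoc]

theorem isRootHom_bc {G T₀ : Over S} [GrpObj G] [GrpObj T₀] {i : T₀ ⟶ G} [IsMonHom i] {α : T₀ ⟶ Red.Gm S}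
    {v : Red.Ga S ⟶ G} (h : Red.IsRootHom i α v) :
    Red.IsRootHom ((Over.pullback g).map i) ((Over.pullback g).map α ≫ (dsIso g ℤ).hom)
      ((gaIso g).inv ≫ (Over.pullback g).map v) := by
  obtain ⟨hv, hcl, hact⟩ := h
  haveI := hv
  haveI := hcl
  haveI : IsMonHom ((Over.pullback g).map v) := H21Diag.isMonHom_bcMap g v
  haveI : IsMonHom (gaIso g).inv := inferInstance
  haveI := isClosedImmersion_bcMap g v
  haveI : IsIso (gaIso g).inv.left := inferInstanceAs (IsIso ((Over.forget _).map (gaIso g).inv))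
  refine ⟨inferInstanceAs (IsMonHom ((gaIso g).inv ≫ (Over.pullback g).map v)), by rw [Over.comp_left]; infer_instance,
    fun W t x => ?_⟩
  let E := H21Diag.bcEquiv g (Red.Ga S) W
  obtain ⟨y, hy, hy2⟩ := hact _ ((H21Diag.bcEquiv g T₀ W).symm t) (E.symm (x ≫ (gaIso g).inv))
  refine ⟨E y ≫ (gaIso g).hom, ?_, ?_⟩
  · apply (H21Diag.bcEquiv g G W).symm.injective
    let φ := H21Diag.bcHom g G W
    change φ _ = φ _
    rw [map_mul, map_mul, map_inv]
    simp only [φ, H21Diag.bcHom, MonoidHom.mk'_apply, Category.assoc, Iso.hom_inv_id_assoc]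
    rw [bcEquiv_symm_comp, bcEquiv_symm_comp, ← Category.assoc x, bcEquiv_symm_comp, Equiv.symm_apply_apply]
    exact hy
  · have hx : Red.gaFn x = Red.gaFn (E.symm (x ≫ (gaIso g).inv)) := by
      rw [← gaFn_gaIso, Category.assoc, Iso.inv_hom_id, Category.comp_id]
    rw [gaFn_gaIso, Equiv.symm_apply_apply, hy2, hx, ← Category.assoc t, gmFn_dsIso, bcEquiv_symm_comp]

theorem refl_bc {G : Over S} [GrpObj G] (D : Red.SplitRed G) (a : D.idx) :
    ∃ n : 𝟙_ (Over T) ⟶ Red.bc g G, ∀ (X : Over T) (t : X ⟶ Red.bc g D.T),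
      (toUnit X ≫ n) * (t ≫ (Over.pullback g).map D.i) * (toUnit X ≫ n)⁻¹ =
        t ≫ (splitBc g D).hom.hom.hom ≫ Red.DSmap T (D.P.reflection a).toLinearMap.toAddMonoidHom ≫
          (splitBc g D).inv.hom.hom ≫ (Over.pullback g).map D.i := by
  obtain ⟨n, hn⟩ := D.refl a
  refine ⟨H21Diag.bcEquiv g G _ (toUnit _ ≫ n), fun X t => ?_⟩
  set φ := D.split.hom.hom.hom ≫ Red.DSmap S (D.P.reflection a).toLinearMap.toAddMonoidHom ≫ D.split.inv.hom.hom ≫ D.i
  have hR : (splitBc g D).hom.hom.hom ≫ Red.DSmap T (D.P.reflection a).toLinearMap.toAddMonoidHom ≫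
      (splitBc g D).inv.hom.hom ≫ (Over.pullback g).map D.i = (Over.pullback g).map φ := by
    have hinv : (splitBc g D).inv.hom.hom = (dsIso g D.M).inv ≫ (Over.pullback g).map D.split.inv.hom.hom := rfl
    rw [splitBc_hom, hinv, Category.assoc, Category.assoc, ← Category.assoc (dsIso g D.M).hom (Red.DSmap T _),
      ← dsIso_natural, Category.assoc, Iso.hom_inv_id_assoc]
    simp only [φ, Functor.map_comp]
  apply (H21Diag.bcEquiv g G X).symm.injective
  let Φ := H21Diag.bcHom g G X
  change Φ _ = Φ _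
  rw [hR, map_mul, map_mul, map_inv]
  simp only [Φ, H21Diag.bcHom, MonoidHom.mk'_apply]
  rw [bcEquiv_symm_comp, bcEquiv_symm_comp]
  have hu : (H21Diag.bcEquiv g G X).symm (toUnit X ≫ H21Diag.bcEquiv g G _ (toUnit _ ≫ n)) =
      toUnit ((Over.map g).obj X) ≫ n := by
    refine ((Over.mapPullbackAdj g).homEquiv_naturality_left_symm _ _).trans ?_
    rw [show ((Over.mapPullbackAdj g).homEquiv _ _).symm (H21Diag.bcEquiv g G _ (toUnit _ ≫ n)) = toUnit _ ≫ n from
      Equiv.symm_apply_apply _ _, ← Category.assoc]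
    congr 1
  rw [hu]
  exact hn _ _

end Bc

variable {S : Scheme.{u}} {G : Over S} [GrpObj G] (D : Red.SplitRed G) (s : S)

theorem isTorus_split {S : Scheme.{u}} {T : Over S} [GrpObj T] {M : Type} [AddCommGroup M] [Module.Free ℤ M]
    [Module.Finite ℤ M] (e : Grp.mk T ≅ Grp.mk (Red.DS S M)) : Red.IsTorus T := by
  let b := Module.finBasis ℤ M
  exact H21Diag.isTorus_of_lSplit (H21Diag.lSplit_of_split (r := Module.finrank ℤ M)
    ⟨e ≪≫ dsMapIso b.equivFun.toAddEquiv.symm⟩)

/-- the splitting of a geometric fibre -/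
def geomSplit : Red.SplitRed (Red.geomFibre s G) where
  T := Red.geomFibre s D.T
  i := (Over.pullback (Red.geomPt s)).map D.i
  M := D.M
  idx := D.idx
  P := D.P
  pairing_eq := D.pairing_eq
  u a := (gaIso (Red.geomPt s)).inv ≫ (Over.pullback (Red.geomPt s)).map (D.u a)
  reductive := isReductive_of_isReductiveOver (D.reductive.2.2 s)
  maximalTorus :=
    haveI := D.maximalTorus.1
    haveI := D.maximalTorus.2.1
    haveI : IsMonHom ((Over.pullback (Red.geomPt s)).map D.i) := H21Diag.isMonHom_bcMap _ D.i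
    haveI := D.finiteM
    haveI := D.freeM
    isMaximalTorus_of_maximal _ (isTorus_split (splitBc (Red.geomPt s) D))
      (fun T' _ j _ _ f hT' hf => D.maximalTorus.2.2.2 s T' j f hT' hf)
  split := splitBc (Red.geomPt s) D
  rootHom a := by
    haveI := D.maximalTorus.1
    rw [splitBc_chi]
    exact isRootHom_bc _ (D.rootHom a)
  refl a := refl_bc _ D a
  dim_fibre t := by
    haveI := H20Conj.isIso_geomPt t
    rw [← D.dim_fibre s]
    exact IsHomeomorph.topologicalKrullDim_eq _
      (Scheme.Hom.homeomorph (pullback.fst (Red.geomFibre s G).hom (Red.geomPt t))).isHomeomorph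

end Groth.Agent.H21Red0
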