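import Groth.Agent.H21Split.Red0.Kill
import Groth.Agent.H21Root.Length
import Groth.Agent.H21Root.Transfer
import Groth.Agent.H21Root.Chamber
import Groth.Agent.H21Root.Inversions

/-!
Bases of positive systems over any domain of characteristic zero; existence of a base of the root datum of a
split reductive group over a nonempty base.
-/

open Function Set RootPairing

noncomputable section

set_option linter.style.haveILetI false

namespace Groth.Agent.H21Red0

open Groth.Agent.H21Root (simples simpleZ_simples linearIndepOn_of_int)

variable {ι R M N : Type*} [CommRing R] [AddCommGroup M] [Module R M] [AddCommGroup N] [Module R N]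
  [CharZero R] [IsDomain R] [Finite ι] (P : RootPairing ι R M N) [P.IsCrystallographic] [P.IsReduced]

/-- the simple coroots are the coroots of the simple roots -/
theorem simples_flip {S : Set ι} (hS : RootD.IsPosSys P S) : simples P S = simples P.flip S := by
  classical
  have := Fintype.ofFinite ι
  have := H21Root.tf_left P.flip
  have : Module.IsReflexive R N := .of_isPerfPair P.flip.toLinearMap
  have : Module.IsReflexive R M := .of_isPerfPair P.toLinearMap
  haveI : P.flip.IsReduced := inferInstance
  have hF := H21Root.isPosSys_flip P hS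
  refine H21Root.eq_simples_of_cone hF (fun a _ j hj => P.flip.nsmul_notMem_range_root (n := 2) (i := j) ⟨a, by
    rw [← hj, ← Nat.cast_smul_eq_nsmul R]; simp⟩) (H21Root.simples_subset P S)
    (H21Root.linearIndepOn_of_obtuse hF (H21Root.simples_subset P S) fun a ha b hb hne => by
      rw [show P.flip.pairingIn ℤ a b = P.pairingIn ℤ b a from
        FaithfulSMul.algebraMap_injective ℤ R (by rw [algebraMap_pairingIn, algebraMap_pairingIn]; rfl)]
      exact H21Root.simples_pairingIn_nonpos hS hb ha hne.symm) ?_
  intro d hd
  obtain ⟨m, hm, he⟩ := H21Root.exists_simples_sum hS (H21Root.simples_subset P.flip S hd)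
  have h := H21Root.coroot_rel P (c := 1) (k := d) (m := m) (by rw [one_smul, he])
  have hnn : ∀ a, ((H21Root.lg P a : ℤ) : R) = (((H21Root.lg P a).toNat : ℕ) : R) := fun a => by
    conv_lhs => rw [← Int.toNat_of_nonneg (H21Root.lg_pos P a).le]
    rw [Int.cast_natCast]
  simp only [Nat.cast_one, one_mul, hnn, Nat.cast_smul_eq_nsmul] at h
  refine ⟨(H21Root.lg P d).toNat, by have := H21Root.lg_pos P d; omega, ?_⟩
  change (H21Root.lg P d).toNat • P.coroot d ∈ RootD.natSpan P.flip (simples P S)
  rw [h]
  refine AddSubmonoid.multiset_sum_mem _ _ fun x hx => ?_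
  obtain ⟨a, ha, rfl⟩ := Multiset.mem_map.mp hx
  exact AddSubmonoid.nsmul_mem _ (H21Root.root_mem_natSpan P.flip (hm a ha)) _

/-- the base of a positive system -/
theorem exists_base_of_isPosSys {S : Set ι} (hS : RootD.IsPosSys P S) :
    ∃ b : P.Base, (b.support : Set ι) = simples P S ∧ RootD.posOf P (b.support : Set ι) = S := by
  classical
  have := Fintype.ofFinite ι
  have := H21Root.tf_left P.flip
  have : Module.IsReflexive R N := .of_isPerfPair P.flip.toLinearMap
  have : Module.IsReflexive R M := .of_isPerfPair P.toLinearMap
  haveI : P.flip.IsReduced := inferInstance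
  have h := simpleZ_simples hS
  have h' := simpleZ_simples (H21Root.isPosSys_flip P hS)
  rw [← simples_flip P hS] at h'
  let b : P.Base :=
    { support := (Set.toFinite (simples P S)).toFinset
      linearIndepOn_root := by rw [Set.Finite.coe_toFinset]; exact linearIndepOn_of_int h.li
      linearIndepOn_coroot := by
        rw [Set.Finite.coe_toFinset]
        exact linearIndepOn_of_int (P := P.flip) h'.li
      root_mem_or_neg_mem := fun i => by rw [Set.Finite.coe_toFinset]; exact h.cover i
      coroot_mem_or_neg_mem := fun i => by rw [Set.Finite.coe_toFinset]; exact h'.cover i }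
  have hs : (b.support : Set ι) = simples P S := Set.Finite.coe_toFinset _
  exact ⟨b, hs, by rw [hs, H21Root.posOf_simples hS]⟩

universe u

variable {S : AlgebraicGeometry.Scheme.{u}} [Nonempty S] {G : CategoryTheory.Over S} [CategoryTheory.GrpObj G]
  (D : Red.SplitRed G)

/-- **A set of roots lying in an open half space of a split group is in the positive roots of a base.** -/
theorem exists_base_of_isPosSet {Ψ : Set D.idx} (hΨ : H21Split.IsPosSet D.P Ψ) :
    ∃ b : D.P.Base, Ψ ⊆ RedSub.posRoots D.P b := by
  haveI := D.fintypeIdx
  haveI : Finite D.idx := Finite.of_fintype _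
  haveI := isReduced_of_nonempty D
  obtain ⟨f, hf⟩ := hΨ.exists_functional
  obtain ⟨T, hT, hTf⟩ := H21Root.exists_posSys_nonneg (P := D.P) f
  obtain ⟨b, -, hb⟩ := exists_base_of_isPosSys D.P hT
  refine ⟨b, fun c hc => ?_⟩
  refine (H21Root.mem_posRoots (P := D.P) b c).mpr (hb ▸ ?_)
  refine (hT.cover c).resolve_right fun h => ?_
  have h1 := hTf _ h
  rw [show D.P.root (H21Root.opp D.P c) = -D.P.root c from H21Root.root_opp D.P c, map_neg] at h1
  have := hf c hc
  omega

/-- the root datum of a split group over a nonempty base has a base -/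
theorem nonempty_base : Nonempty D.P.Base :=
  let ⟨b, _⟩ := exists_base_of_isPosSet D (Ψ := ∅) ⟨fun _ _ _ h => h.elim, fun _ _ h => h.elim⟩
  ⟨b⟩

end Groth.Agent.H21Red0
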