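import Groth.Agent.H21Split.Red0.Ext
import Groth.Agent.H20Borel.FlagSolv

/-!
Elements acting trivially on all simple representations act unipotently on every representation.
-/

universe u v

set_option linter.unusedSectionVars false
set_option linter.style.haveILetI false

noncomputable section

open scoped Matrix
open H20Conj (GLk Mat Vec Flag Stab)

namespace Groth.Agent.H21Red0

variable {K : Type u} [Field K] {M : Type} [AddCommGroup M] {Γ : Type v} [Group Γ] {ι : Type}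

namespace Data

variable (Δ : Data K M Γ ι)

/-- elements acting trivially on all simple representations -/
def Core : Subgroup Γ where
  carrier := {z | ∀ (N : ℕ) (φ : Γ →* GLk K N), Δ.IsRep φ → IsSimple φ → φ z = 1}
  one_mem' _ φ _ _ := map_one φ
  mul_mem' hx hy N φ h h' := by rw [map_mul, hx N φ h h', hy N φ h h', mul_one]
  inv_mem' hx N φ h h' := by rw [map_inv, hx N φ h h', inv_one]

theorem conj_mem_Core {x : Γ} (hx : x ∈ Δ.Core) (z : Γ) : z * x * z⁻¹ ∈ Δ.Core := fun N φ h h' => by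
  rw [map_mul, map_mul, hx N φ h h', mul_one, ← map_mul, mul_inv_cancel, map_one]

variable {N : ℕ} {φ : Γ →* GLk K N}

theorem core_step (hφ : Δ.IsRep φ) {A B : Submodule K (Vec K N)} (hAB : A ≤ B) (hA : ∀ g, Stab A (φ g))
    (hB : ∀ g, Stab B (φ g))
    (hmax : ∀ C : Submodule K (Vec K N), A ≤ C → C ≤ B → (∀ g, Stab C (φ g)) → C = A ∨ C = B)
    {z : Γ} (hz : z ∈ Δ.Core) {x : Vec K N} (hx : x ∈ B) : (φ z : Mat K N) *ᵥ x - x ∈ A := by
  classical
  let A' : Submodule K B := A.comap B.subtype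
  let bq := Module.finBasis K (B ⧸ A')
  set d := Module.finrank K (B ⧸ A')
  obtain ⟨Pr, hPr⟩ := LinearMap.exists_extend (bq.equivFun.toLinearMap.comp A'.mkQ)
  obtain ⟨σ₀, hσ₀⟩ := (bq.equivFun.toLinearMap.comp A'.mkQ).exists_rightInverse_of_surjective
    (LinearMap.range_eq_top.mpr (bq.equivFun.surjective.comp (Submodule.mkQ_surjective A')))
  let P : Matrix (Fin d) (Fin N) K := LinearMap.toMatrix' Pr
  let T : Matrix (Fin N) (Fin d) K := LinearMap.toMatrix' (B.subtype.comp σ₀)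
  have hP : ∀ b : B, P *ᵥ (b : Vec K N) = bq.equivFun (A'.mkQ b) := fun b => by
    rw [LinearMap.toMatrix'_mulVec]
    exact LinearMap.congr_fun hPr b
  have hP0 : ∀ b ∈ B, (P *ᵥ b = 0 ↔ b ∈ A) := fun b hb => by
    rw [hP ⟨b, hb⟩, LinearEquiv.map_eq_zero_iff, Submodule.mkQ_apply, Submodule.Quotient.mk_eq_zero]
    rfl
  have hT : ∀ y, T *ᵥ y ∈ B := fun y => by
    rw [LinearMap.toMatrix'_mulVec]
    exact (σ₀ y).2
  have hPT : ∀ y, P *ᵥ (T *ᵥ y) = y := fun y => by
    rw [LinearMap.toMatrix'_mulVec (B.subtype.comp σ₀)]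
    exact (hP (σ₀ y)).trans (LinearMap.congr_fun hσ₀ y)
  have hg : ∀ (g : Γ) (b : Vec K N), b ∈ B → P *ᵥ ((φ g : Mat K N) *ᵥ (T *ᵥ (P *ᵥ b))) = P *ᵥ ((φ g : Mat K N) *ᵥ b) :=
    fun g b hb => by
      rw [← sub_eq_zero, ← Matrix.mulVec_sub, ← Matrix.mulVec_sub, hP0 _ (hB g _ (sub_mem (hT _) hb))]
      refine hA g _ ((hP0 _ (sub_mem (hT _) hb)).mp ?_)
      rw [Matrix.mulVec_sub, hPT, sub_self]
  let R : Γ →* Mat K d :=
    { toFun := fun g => P * (φ g : Mat K N) * T
      map_one' := Matrix.ext_iff_mulVec.mpr fun y => by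
        rw [map_one, Units.val_one, Matrix.mul_one, ← Matrix.mulVec_mulVec, hPT, Matrix.one_mulVec]
      map_mul' := fun g h => Matrix.ext_iff_mulVec.mpr fun y => by
        simp only [map_mul, Units.val_mul, ← Matrix.mulVec_mulVec]
        exact (hg g _ (hB h _ (hT y))).symm }
  let φ' := R.toHomUnits
  have hval : ∀ g, (φ' g : Mat K d) = P * (φ g : Mat K N) * T := fun g => rfl
  have hrep : Δ.IsRep φ' := fun p q => by
    let ψ : Mat K N →ₗ[K] K :=
      { toFun := fun X => (P * X * T) p q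
        map_add' := fun X Y => by simp [Matrix.mul_add, Matrix.add_mul]
        map_smul' := fun c X => by simp }
    exact hφ.lin_mem Δ ψ
  have hsimple : IsSimple φ' := by
    intro X hX
    let C : Submodule K (Vec K N) := X.comap P.mulVecLin ⊓ B
    have hC : ∀ g, Stab C (φ g) := fun g c hc => by
      refine ⟨?_, hB g c hc.2⟩
      show P *ᵥ ((φ g : Mat K N) *ᵥ c) ∈ X
      rw [← hg g c hc.2]
      have := hX g _ hc.1
      rwa [hval, Matrix.mulVecLin_apply, ← Matrix.mulVec_mulVec, ← Matrix.mulVec_mulVec] at this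
    have hAC : A ≤ C := fun a ha => ⟨by
      show P *ᵥ a ∈ X
      rw [(hP0 a (hAB ha)).mpr ha]
      exact X.zero_mem, hAB ha⟩
    rcases hmax C hAC inf_le_right hC with h | h
    · refine Or.inl ((Submodule.eq_bot_iff _).mpr fun y hy => ?_)
      have h1 : T *ᵥ y ∈ C := ⟨by show P *ᵥ (T *ᵥ y) ∈ X; rwa [hPT], hT y⟩
      rw [h, ← hP0 _ (hT y), hPT] at h1
      exact h1
    · refine Or.inr (Submodule.eq_top_iff'.mpr fun y => ?_)
      have h1 : T *ᵥ y ∈ C := h.symm ▸ hT y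
      have h2 : P *ᵥ (T *ᵥ y) ∈ X := h1.1
      rwa [hPT] at h2
  have hfix := congrArg (fun e : GLk K d => (e : Mat K d) *ᵥ (P *ᵥ x)) (hz d φ' hrep hsimple)
  simp only [hval, Units.val_one, Matrix.one_mulVec, ← Matrix.mulVec_mulVec] at hfix
  rw [hg z x hx] at hfix
  rw [← hP0 _ (sub_mem (hB z x hx) hx), Matrix.mulVec_sub, hfix, sub_self]

/-- the unipotent flag of the core -/
theorem exists_flag (hφ : Δ.IsRep φ) : ∃ F : Flag (Δ.Core.map φ),
    ∀ z ∈ Δ.Core, ∀ i, ∀ x ∈ F.W (i + 1), (φ z : Mat K N) *ᵥ x - x ∈ F.W i := by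
  classical
  suffices key : ∀ B : Submodule K (Vec K N), (∀ g, Stab B (φ g)) → ∃ (W : ℕ → Submodule K (Vec K N)) (n : ℕ),
      Monotone W ∧ W 0 = ⊥ ∧ (∀ i, n ≤ i → W i = B) ∧
      ∀ z ∈ Δ.Core, ∀ i, ∀ x ∈ W (i + 1), (φ z : Mat K N) *ᵥ x - x ∈ W i by
    obtain ⟨W, n, hW, h0, htop, hu⟩ := key ⊤ fun _ _ _ => Submodule.mem_top
    refine ⟨⟨W, n, hW, h0, htop n le_rfl, ?_⟩, hu⟩
    rintro _ ⟨z, hz, rfl⟩ i
    exact ⟨1, fun x hx => by rw [one_smul]; exact hu z hz i x hx⟩
  intro B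
  induction B using WellFoundedLT.induction with
  | ind B ih =>
  intro hB
  by_cases hB0 : B = ⊥
  · refine ⟨fun _ => ⊥, 0, monotone_const, rfl, fun _ _ => hB0.symm, fun z _ i x hx => ?_⟩
    rw [Submodule.mem_bot] at hx ⊢
    simp [hx]
  obtain ⟨A, ⟨hA, hAlt⟩, hAmax⟩ := (wellFounded_gt (α := Submodule K (Vec K N))).has_min {A : Submodule K (Vec K N) | (∀ g, Stab A (φ g)) ∧ A < B}
    ⟨⊥, fun g x hx => by rw [Submodule.mem_bot] at hx ⊢; simp [hx], bot_lt_iff_ne_bot.mpr hB0⟩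
  obtain ⟨W, n, hW, h0, htop, hu⟩ := ih A hAlt hA
  have hWle : ∀ i, W i ≤ A := fun i => by
    rw [← htop (max i n) (le_max_right _ _)]
    exact hW (le_max_left _ _)
  refine ⟨fun i => if i ≤ n then W i else B, n + 1, fun i j hij => ?_, by simp [h0],
    fun i hi => by simp [show ¬ i ≤ n by omega], fun z hz i x hx => ?_⟩
  · dsimp only
    split_ifs with hi hj hj
    · exact hW hij
    · exact (hWle i).trans hAlt.le
    · omega
    · exact le_rfl
  · dsimp only at hx ⊢
    split_ifs at hx with hi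
    · rw [if_pos (by omega : i ≤ n)]
      exact hu z hz i x hx
    · split_ifs with hi'
      · rw [htop i (by omega)]
        refine Δ.core_step hφ hAlt.le hA hB (fun C hAC hCB hC => ?_) hz hx
        by_contra h
        push Not at h
        exact hAmax C ⟨hC, lt_of_le_of_ne hCB h.2⟩ (lt_of_le_of_ne hAC (Ne.symm h.1))
      · exact sub_mem (hB z x hx) hx

/-- the core is solvable -/
theorem isSolvable_Core : Group.IsSolvable Δ.Core := by
  obtain ⟨F, -⟩ := Δ.exists_flag Δ.isRep_φ₀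
  haveI := H20Borel.isSolvable_of_flag F
  exact Group.isSolvable_of_isSolvable_injective (f := Δ.φ₀.subgroupMap Δ.Core) fun x y h =>
    Subtype.ext (Δ.inj (congrArg Subtype.val h))

/-- a vector eigen for an element of the core is fixed -/
theorem core_eigen (hφ : Δ.IsRep φ) {z : Γ} (hz : z ∈ Δ.Core) {v : Vec K N} (hv : v ≠ 0) {a : K}
    (h : (φ z : Mat K N) *ᵥ v = a • v) : a = 1 := by
  obtain ⟨F, hF⟩ := Δ.exists_flag hφ
  have hex : ∃ i, v ∈ F.W i := ⟨F.len, F.top ▸ Submodule.mem_top⟩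
  classical
  have hm := Nat.find_spec hex
  have hpos : Nat.find hex ≠ 0 := fun e => hv (by
    rw [e, F.zero, Submodule.mem_bot] at hm
    exact hm)
  obtain ⟨i, hi⟩ := Nat.exists_eq_succ_of_ne_zero hpos
  rw [hi] at hm
  have h1 := hF z hz i v hm
  rw [h, show a • v - v = (a - 1) • v by rw [sub_smul, one_smul]] at h1
  by_contra hne
  refine Nat.find_min hex (show i < Nat.find hex by omega) ?_
  have := (F.W i).smul_mem (a - 1)⁻¹ h1
  rwa [smul_smul, inv_mul_cancel₀ (sub_ne_zero.mpr hne), one_smul] at this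

end Data

end Groth.Agent.H21Red0
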