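import Groth.Agent.H21Split.Red0.Model
import Groth.Agent.H21Split.Red0.Simples
import Groth.Agent.H20Conj.Factor
import Groth.Agent.H13AlgSp.EtaleLocally

/-!
The root datum of a split reductive group over a nonempty base is reduced.
-/

open CategoryTheory MonoidalCategory CartesianMonoidalCategory MonObj GrpObj AlgebraicGeometry
open CategoryTheory.Limits
open Groth.Agent.H21Split Groth.Agent.H27Witt H20Mu
open H20Conj (GLk Mat Vec IsLaurent ofParHom ofPar_par)
open H20Borel (vanish mem_vanish clo mem_clo lg comp_lg comp_rg)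
open scoped Matrix

universe u

set_option backward.isDefEq.respectTransparency false
set_option linter.style.haveILetI false
set_option linter.unusedSectionVars false
set_option synthInstance.maxHeartbeats 400000

noncomputable section

namespace Groth.Agent.H21Red0

namespace Data.Pair

variable {K : Type u} [Field K] {M : Type} [AddCommGroup M] {Γ : Type*} [Group Γ] {I : Type} {Δ : Data K M Γ I}
  (Q : Δ.Pair) (p : K × K)

/-- a translated scaled curve in the two root groups -/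
def Xc (zc : Γ × K) (s : K) : Γ := zc.1 * Q.U (zc.2 • scale s p) * zc.1⁻¹

theorem U_inv (q : K × K) : (Q.U q)⁻¹ = Q.U (-q) :=
  (eq_inv_of_mul_eq_one_left (by rw [← Q.U_add, neg_add_cancel, Q.U_zero])).symm

theorem Xc_eq (z : Γ) (c s : K) :
    Q.Xc p (z, c) s = z * (Δ.u Q.a (c * p.1 * s) * Δ.u Q.b (c * p.2 * (s * s))) * z⁻¹ := by
  simp only [Xc, U, scale, Prod.smul_fst, Prod.smul_snd, smul_eq_mul]
  rw [show c * (s * p.1) = c * p.1 * s by ring, show c * (s * s * p.2) = c * p.2 * (s * s) by ring]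

theorem Xc_zero (zc : Γ × K) : Q.Xc p zc 0 = 1 := by
  simp only [Xc, scale, zero_mul, show ((0 : K), (0 : K)) = 0 from rfl, smul_zero, Q.U_zero, _root_.mul_one,
    mul_inv_cancel]

theorem Xc_inv (zc : Γ × K) (h : zc.2 = 1 ∨ zc.2 = -1) :
    ∃ a' : {zc : Γ × K // zc.2 = 1 ∨ zc.2 = -1}, ∀ s, (Q.Xc p zc s)⁻¹ = Q.Xc p a'.1 s :=
  ⟨⟨(zc.1, -zc.2), by rcases h with e | e <;> simp [e]⟩, fun s => by
    simp only [Xc, _root_.mul_inv_rev, _root_.inv_inv, U_inv, neg_smul, _root_.mul_assoc]⟩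

theorem Xc_conj (z : Γ) (zc : Γ × K) (h : zc.2 = 1 ∨ zc.2 = -1) :
    ∃ a' : {zc : Γ × K // zc.2 = 1 ∨ zc.2 = -1}, ∀ s, z * Q.Xc p zc s * z⁻¹ = Q.Xc p a'.1 s :=
  ⟨⟨(z * zc.1, zc.2), h⟩, fun s => by simp only [Xc]; group⟩

theorem Xc_core (hcurve : ∀ s, Q.U (scale s p) ∈ Δ.Core) (zc : Γ × K) (h : zc.2 = 1 ∨ zc.2 = -1) (s : K) :
    Q.Xc p zc s ∈ Δ.Core := by
  refine Δ.conj_mem_Core ?_ _
  rcases h with e | e
  · rw [e, one_smul]; exact hcurve s
  · rw [e, neg_one_smul, ← U_inv]; exact inv_mem (hcurve s)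

theorem Xc_one : Q.Xc p (1, 1) 1 = Q.U p := by simp [Xc, scale]

end Data.Pair

/-- a unipotent valued Laurent homomorphism is trivial -/
theorem laurent_unipotent {K : Type u} [Field K] [IsAlgClosed K] {N : ℕ} {e : Kˣ →* GLk K N} (he : IsLaurent e)
    (h : ∀ t (v : Vec K N) (a : K), v ≠ 0 → (e t : Mat K N) *ᵥ v = a • v → a = 1) (t : Kˣ) : e t = 1 := by
  classical
  obtain ⟨s, P, hP, hone, heig, -⟩ := H20Conj.exists_weights he
  have hz : ∀ i ∈ s, i ≠ 0 → P i = 0 := fun i hi hi0 => by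
    refine Matrix.ext_iff_mulVec.mpr fun x => ?_
    rw [Matrix.zero_mulVec]
    by_contra hx
    refine hi0 (H20Mu.eq_of_forall_zpow (k := K) fun u => ?_)
    rw [zpow_zero]
    exact Units.ext (h u _ _ hx (by rw [Matrix.mulVec_mulVec, heig u i hi, Matrix.smul_mulVec]))
  refine Units.ext ((hP t).trans ?_)
  rw [Units.val_one, ← hone]
  refine Finset.sum_congr rfl fun i hi => ?_
  by_cases hi0 : i = 0
  · rw [hi0, zpow_zero, Units.val_one, one_smul]
  · rw [hz i hi hi0, smul_zero]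

variable {S : Scheme.{u}} {K : Type u} [Field K] [IsAlgClosed K] (g : Spec (CommRingCat.of K) ⟶ S) {G : Over S}
  [GrpObj G] (D : Red.SplitRed G)

local notation "Γp" => (𝟙_ (Over (Sk K)) ⟶ Red.bc g G)

/-- values along a curve in two root groups are polynomial -/
theorem curve_poly (a b : D.idx) (c₁ c₂ : K) (F : Fn (Red.bc g G)) :
    ∃ P : Polynomial K, ∀ s, val (uFun g D a (c₁ * s) * uFun g D b (c₂ * (s * s))) F = P.eval s :=
  ⟨fn g (uPt g D a (Polynomial.C c₁ * Polynomial.X) * uPt g D b (Polynomial.C c₂ * (Polynomial.X * Polynomial.X))) F,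
    fun s => by
      rw [← fn_theta, map_mul, theta_u, theta_u, ← Polynomial.coe_aeval_eq_eval]
      have e : pmap g (Polynomial.aeval (R := K) s) ≫ (uPt g D a (Polynomial.C c₁ * Polynomial.X) *
          uPt g D b (Polynomial.C c₂ * (Polynomial.X * Polynomial.X))) = uPt g D a (c₁ * s) * uPt g D b (c₂ * (s * s)) := by
        rw [MonObj.comp_mul, pmap_uPt, pmap_uPt]
        simp
      rw [← e, fn_pmap]
      rfl⟩


theorem isPrime_vanish_curve {Y : Over (Sk K)} [GrpObj Y] (X : K → (𝟙_ (Over (Sk K)) ⟶ Y))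
    (hpoly : ∀ F, ∃ P : Polynomial K, ∀ s, val (X s) F = P.eval s) : (vanish (Set.range X)).IsPrime := by
  refine ⟨fun htop => ?_, fun {F F'} hFF => ?_⟩
  · have := mem_vanish.mp (htop ▸ Submodule.mem_top : (1 : Fn Y) ∈ vanish (Set.range X)) _ ⟨0, rfl⟩
    simp at this
  obtain ⟨P, hP⟩ := hpoly F
  obtain ⟨P', hP'⟩ := hpoly F'
  have h0 : P * P' = 0 := Polynomial.funext fun s => by
    rw [Polynomial.eval_mul, ← hP, ← hP', ← map_mul, Polynomial.eval_zero]
    exact mem_vanish.mp hFF _ ⟨s, rfl⟩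
  refine (mul_eq_zero.mp h0).imp (fun h => ?_) fun h => ?_
  all_goals
    refine mem_vanish.mpr ?_
    rintro _ ⟨s, rfl⟩
    simp [hP, hP', h]

/-- the group generated by a normalised family of curves through the unit is connected and normal -/
theorem exists_curve_group {Y : Over (Sk K)} [GrpObj Y] {α : Type*} (X : α → K → (𝟙_ (Over (Sk K)) ⟶ Y))
    (h0 : ∀ a, X a 0 = 1) (hinv : ∀ a, ∃ a', ∀ s, (X a s)⁻¹ = X a' s)
    (hconj : ∀ (z : 𝟙_ (Over (Sk K)) ⟶ Y) a, ∃ a', ∀ s, z * X a s * z⁻¹ = X a' s)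
    (hprime : ∀ a, (vanish (Set.range (X a))).IsPrime) (C : Subgroup (𝟙_ (Over (Sk K)) ⟶ Y)) (hC : ∀ a s, X a s ∈ C) :
    ∃ R : Subgroup (𝟙_ (Over (Sk K)) ⟶ Y), (vanish (R : Set (𝟙_ (Over (Sk K)) ⟶ Y))).IsPrime ∧ R ≤ C ∧
      (∀ z x, x ∈ R → z * x * z⁻¹ ∈ R) ∧ ∀ a s, X a s ∈ R := by
  classical
  let W : List α → Set (𝟙_ (Over (Sk K)) ⟶ Y) :=
    fun l => l.foldr (fun a A => Set.image2 (· * ·) (Set.range (X a)) A) {1}
  have hWone : ∀ l, (1 : 𝟙_ (Over (Sk K)) ⟶ Y) ∈ W l := fun l => by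
    induction l with
    | nil => rfl
    | cons x l ih => exact ⟨1, ⟨0, h0 x⟩, 1, ih, _root_.mul_one _⟩
  have hWprime : ∀ l, (vanish (W l)).IsPrime := fun l => by
    induction l with
    | nil =>
      have : vanish (W []) = RingHom.ker (val (1 : 𝟙_ (Over (Sk K)) ⟶ Y)) := by simp [W, vanish]
      rw [this]
      exact RingHom.ker_isPrime _
    | cons x l ih => exact H20Borel.isPrime_mul (hprime x) ih ⟨1, 0, h0 x⟩ ⟨1, hWone l⟩
  have hWapp : ∀ l l', ∀ x ∈ W l, ∀ y ∈ W l', x * y ∈ W (l ++ l') := fun l l' => by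
    induction l with
    | nil =>
      intro x hx y hy
      rw [Set.eq_of_mem_singleton (hx : x ∈ ({1} : Set (𝟙_ (Over (Sk K)) ⟶ Y))), _root_.one_mul]
      exact hy
    | cons z l ih =>
      rintro _ ⟨x₁, hx₁, x₂, hx₂, rfl⟩ y hy
      exact ⟨x₁, hx₁, x₂ * y, ih x₂ hx₂ y hy, (_root_.mul_assoc _ _ _).symm⟩
  let R : Subgroup (𝟙_ (Over (Sk K)) ⟶ Y) :=
    { carrier := {x | ∃ l, x ∈ W l}
      one_mem' := ⟨[], rfl⟩
      mul_mem' := fun ⟨l, hl⟩ ⟨l', hl'⟩ => ⟨l ++ l', hWapp l l' _ hl _ hl'⟩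
      inv_mem' := by
        rintro x ⟨l, hl⟩
        induction l generalizing x with
        | nil =>
          exact ⟨[], by rw [Set.eq_of_mem_singleton (hl : x ∈ ({1} : Set (𝟙_ (Over (Sk K)) ⟶ Y))), inv_one]; rfl⟩
        | cons z l ih =>
          obtain ⟨_, ⟨s, rfl⟩, y, hy, rfl⟩ := hl
          obtain ⟨l', hl'⟩ := ih hy
          obtain ⟨z', hz'⟩ := hinv z
          refine ⟨l' ++ [z'], ?_⟩
          rw [_root_.mul_inv_rev]
          exact hWapp _ _ _ hl' _ ⟨_, ⟨s, rfl⟩, 1, rfl, by rw [hz']; exact _root_.mul_one _⟩ }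
  have hmem : ∀ a s, X a s ∈ R := fun a s => ⟨[a], _, ⟨s, rfl⟩, 1, rfl, _root_.mul_one _⟩
  refine ⟨R, ?_, ?_, ?_, hmem⟩
  · refine ⟨fun htop => ?_, fun {F F'} hFF => ?_⟩
    · have := mem_vanish.mp (htop ▸ Submodule.mem_top :
        (1 : Fn Y) ∈ vanish (R : Set (𝟙_ (Over (Sk K)) ⟶ Y))) _ R.one_mem
      simp at this
    by_contra hcon
    rw [not_or, mem_vanish, mem_vanish] at hcon
    push Not at hcon
    obtain ⟨⟨x, ⟨l, hl⟩, hx⟩, y, ⟨l', hl'⟩, hy⟩ := hcon
    rcases (hWprime (l ++ l')).mem_or_mem (mem_vanish.mpr fun z hz => mem_vanish.mp hFF z ⟨_, hz⟩) with h | h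
    · exact hx (mem_vanish.mp h x (by simpa using hWapp l l' x hl 1 (hWone l')))
    · exact hy (mem_vanish.mp h y (by simpa using hWapp l l' 1 (hWone l) y hl'))
  · rintro x ⟨l, hl⟩
    induction l generalizing x with
    | nil => rw [Set.eq_of_mem_singleton (hl : x ∈ ({1} : Set (𝟙_ (Over (Sk K)) ⟶ Y)))]; exact one_mem _
    | cons z l ih =>
      obtain ⟨_, ⟨s, rfl⟩, y, hy, rfl⟩ := hl
      exact mul_mem (hC z s) (ih hy)
  · rintro z x ⟨l, hl⟩
    induction l generalizing x with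
    | nil =>
      rw [Set.eq_of_mem_singleton (hl : x ∈ ({1} : Set (𝟙_ (Over (Sk K)) ⟶ Y))), _root_.mul_one, mul_inv_cancel]
      exact one_mem _
    | cons w l ih =>
      obtain ⟨_, ⟨s, rfl⟩, y, hy, rfl⟩ := hl
      obtain ⟨w', hw'⟩ := hconj z w
      rw [show z * (X w s * y) * z⁻¹ = z * X w s * z⁻¹ * (z * y * z⁻¹) by group, hw']
      exact mul_mem (hmem _ _) (ih y hy)

/-- a group scheme with unipotent points contains no subtorus -/
theorem hasNoSubtorus_of_core {M I : Type} [AddCommGroup M] {Y : Over (Sk K)} [GrpObj Y]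
    (Δ : Data K M (𝟙_ (Over (Sk K)) ⟶ Y) I) (hR : ∀ f ∈ Δ.R, ∃ F : Fn Y, ∀ z, f z = val z F) [IsAffine Y.left]
    {H : Over (Sk K)} [GrpObj H] (i : H ⟶ Y) [IsMonHom i] [Mono i]
    (hpts : ∀ h : 𝟙_ (Over (Sk K)) ⟶ H, h ≫ i ∈ Δ.Core) : Red.HasNoSubtorus K H := by
  intro T _ j _ _ hT
  obtain ⟨r, e, co, he, -, hprod, -⟩ := H20Conj.exists_cochars T hT
  have hone : ∀ l, e l = 1 := fun l => by
    haveI := he l
    let c : Red.Gm (Sk K) ⟶ Y := e l ≫ j ≫ i
    have hc1 : ∀ t : 𝟙_ (Over (Sk K)) ⟶ Red.Gm (Sk K), t ≫ c = 1 := by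
      let c' : Kˣ →* GLk K Δ.N₀ := Δ.φ₀.comp ((MonoidHom.mk' (fun t : 𝟙_ (Over (Sk K)) ⟶ Red.Gm (Sk K) => t ≫ c)
        fun x y => MonObj.mul_comp x y c).comp ofParHom)
      have hc' : ∀ t, c' t = Δ.φ₀ (ofPar t ≫ c) := fun t => rfl
      choose F hF using fun pq : Fin Δ.N₀ × Fin Δ.N₀ => hR _ (Δ.coord_mem pq.1 pq.2)
      have hlau : IsLaurent c' := by
        classical
        choose s cc hsc using fun pq : Fin Δ.N₀ × Fin Δ.N₀ => exists_laurent (Fn.pull c (F pq))
        refine ⟨Finset.univ.biUnion s, fun n => Matrix.of fun p q => if n ∈ s (p, q) then cc (p, q) n else 0,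
          fun t => ?_⟩
        ext p q
        rw [hc']
        refine (hF (p, q) _).trans ?_
        rw [← val_pull, hsc (p, q), map_sum, Matrix.sum_apply,
          ← Finset.sum_subset (Finset.subset_biUnion_of_mem s (Finset.mem_univ (p, q))) (fun n _ hn => by simp [hn])]
        refine Finset.sum_congr rfl fun n hn => ?_
        simp [hn, val_zFn_zpow, par_ofPar, mul_comm]
      intro t
      have ht := laurent_unipotent hlau (fun u v a hv hva => Δ.core_eigen Δ.isRep_φ₀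
        (z := ofPar u ≫ c) (by
          show ofPar u ≫ e l ≫ j ≫ i ∈ Δ.Core
          rw [← Category.assoc, ← Category.assoc]
          exact hpts _) hv hva) (par t)
      rw [hc', ofPar_par] at ht
      exact Δ.inj (ht.trans (map_one Δ.φ₀).symm)
    have hc : c = 1 := Fn.hom_ext (AlgHom.ext fun F => gm_ext fun t => by
      rw [val_pull, val_pull, hc1, MonObj.comp_one])
    rw [← cancel_mono j, MonObj.one_comp, ← cancel_mono i, Category.assoc, MonObj.one_comp]
    exact hc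
  have hid : 𝟙 T = 1 := by
    rw [← hprod]
    refine List.prod_eq_one fun x hx => ?_
    obtain ⟨l, rfl⟩ := List.mem_ofFn.mp hx
    rw [hone, MonObj.comp_one]
  refine ⟨⟨η[T].left, ?_, Over.w η[T]⟩⟩
  rw [Hom.one_def] at hid
  exact (congrArg CategoryTheory.CommaMorphism.left hid).symm

/-- connected normal groups of points in the core are trivial in a reductive group -/
theorem eq_one_of_core {M I : Type} [AddCommGroup M] {Y : Over (Sk K)} [GrpObj Y] [IsAffine Y.left] [Smooth Y.hom]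
    (Δ : Data K M (𝟙_ (Over (Sk K)) ⟶ Y) I) (hR : ∀ f ∈ Δ.R, ∃ F : Fn Y, ∀ z, f z = val z F)
    (hred : Red.IsReductiveOver K Y) {R : Subgroup (𝟙_ (Over (Sk K)) ⟶ Y)}
    (hprime : (vanish (R : Set (𝟙_ (Over (Sk K)) ⟶ Y))).IsPrime) (hRcore : R ≤ Δ.Core)
    (hnormR : ∀ z x, x ∈ R → z * x * z⁻¹ ∈ R) {x : 𝟙_ (Over (Sk K)) ⟶ Y} (hx : x ∈ R) : x = 1 := by
  haveI : LocallyOfFiniteType Y.hom := inferInstance
  have hclo : clo R ≤ Δ.Core := fun z hz N φ hφ hs => Units.ext (Matrix.ext fun i j => by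
    obtain ⟨F, hF⟩ := hR _ (hφ i j)
    have h := hz (F - algebraMap K (Fn Y) ((1 : Mat K N) i j)) (mem_vanish.mpr fun y hy => by
      rw [map_sub, AlgHom.commutes, ← hF, hRcore hy N φ hφ hs]
      exact sub_self _)
    rw [map_sub, AlgHom.commutes, ← hF, sub_eq_zero] at h
    exact h)
  have hsol : Group.IsSolvable (clo R) := by
    haveI := Δ.isSolvable_Core
    exact Group.isSolvable_of_isSolvable_injective (Subgroup.inclusion_injective hclo)
  have hnorm : ∀ z x, x ∈ clo R → z * x * z⁻¹ ∈ clo R := fun z x hx F hF => by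
    have h := hx (Fn.pull (lg Y z) (Fn.pull (H20Conj.rg Y z⁻¹) F)) (mem_vanish.mpr fun y hy => by
      rw [val_pull, val_pull, comp_lg, comp_rg]
      exact mem_vanish.mp hF _ (hnormR z y hy))
    rwa [val_pull, val_pull, comp_lg, comp_rg] at h
  obtain ⟨H, gH, i, hi, hicl, hHaff, hHsm, hHconn, -, hpts, hlift⟩ := H20Borel.exists_subgroup_scheme R hprime hsol
  letI := gH
  haveI := hi; haveI := hicl; haveI := hHaff; haveI := hHsm; haveI := hHconn
  haveI : Mono i := Over.mono_of_mono_left _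
  have hnormal : AlgGrp.IsNormalHom i := by
    haveI : IsAffine (Y ⊗ H).left := inferInstanceAs (IsAffine (pullback Y.hom H.hom))
    haveI : Smooth (Y ⊗ H).hom := by
      show Smooth (pullback.fst Y.hom H.hom ≫ Y.hom)
      infer_instance
    haveI : AlgebraicGeometry.IsReduced (Y ⊗ H).left := Groth.Agent.H13AlgSp.isReduced_of_smooth_mor (Y ⊗ H).hom
    obtain ⟨f, hf⟩ := hlift (fst Y H * (snd Y H ≫ i) * (fst Y H)⁻¹) fun y => by
      rw [MonObj.comp_mul, MonObj.comp_mul, GrpObj.comp_inv, ← Category.assoc]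
      exact hnorm _ _ (hpts _)
    intro T x n
    refine ⟨lift x n ≫ f, ?_⟩
    rw [Category.assoc, hf, MonObj.comp_mul, MonObj.comp_mul, GrpObj.comp_inv, lift_fst, lift_snd_assoc]
  have htriv : IsIso H.hom :=
    hred.2.2.2 H i hicl hHsm hHconn hnormal (hasNoSubtorus_of_core Δ hR i fun h => hclo (hpts h))
  haveI : IsAffine (𝟙_ (Over (Sk K))).left := inferInstanceAs (IsAffine (Spec (CommRingCat.of K)))
  haveI : LocallyOfFiniteType (𝟙_ (Over (Sk K))).hom := inferInstanceAs (LocallyOfFiniteType (𝟙 (Sk K)))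
  haveI : AlgebraicGeometry.IsReduced (𝟙_ (Over (Sk K))).left :=
    inferInstanceAs (AlgebraicGeometry.IsReduced (Spec (CommRingCat.of K)))
  obtain ⟨f', hf'⟩ := hlift x fun y => by
    rw [toUnit_unique y (𝟙 _), Category.id_comp]
    exact fun F hF => mem_vanish.mp hF _ hx
  haveI := htriv
  rw [← hf', show f' = 1 from Over.OverMorphism.ext ((cancel_mono H.hom).mp ((Over.w f').trans (Over.w _).symm)),
    MonObj.one_comp]

variable [IsAffine (Red.bc g G).left] [Smooth (Red.bc g G).hom] [ConnectedSpace (Red.bc g G).left]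

set_option maxHeartbeats 1000000 in
theorem no_double (hred : Red.IsReductiveOver K (Red.bc g G)) {a b : D.idx}
    (hab : D.P.root b = D.P.root a + D.P.root a) : False := by
  classical
  obtain ⟨Δ, hroot, htau, hu, hR⟩ := exists_data g D
  haveI := D.fintypeIdx
  obtain ⟨Q, hQa, hQb⟩ := exists_pair g D Δ hroot htau hu hab
  obtain ⟨p, hp0, hp⟩ := Data.Pair.exists_trivial_curve Δ Q
  have hprime : ∀ zc, (vanish (Set.range (Q.Xc p zc))).IsPrime := fun zc => isPrime_vanish_curve _ fun F => by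
    obtain ⟨z, c⟩ := zc
    obtain ⟨P, hP⟩ := curve_poly g D a b (c * p.1) (c * p.2)
      (Fn.pull (lg (Red.bc g G) z) (Fn.pull (H20Conj.rg (Red.bc g G) z⁻¹) F))
    refine ⟨P, fun s => ?_⟩
    rw [← hP, val_pull, val_pull, comp_lg, comp_rg, Data.Pair.Xc_eq, hu, hQa, hQb]
  obtain ⟨R, hRp, hRC, hRn, hRmem⟩ := exists_curve_group
    (fun a : {zc : Γp × K // zc.2 = 1 ∨ zc.2 = -1} => Q.Xc p a.1) (fun a => Q.Xc_zero p a.1)
    (fun a => Q.Xc_inv p a.1 a.2) (fun z a => Q.Xc_conj p z a.1 a.2) (fun a => hprime _) Δ.Core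
    (fun a s => Q.Xc_core p (fun s N φ hφ hs => hp N φ hφ hs s) a.1 a.2 s)
  have hU : Q.U p = 1 := eq_one_of_core Δ hR hred hRp hRC hRn (by
    rw [← Q.Xc_one p]
    exact hRmem ⟨((1 : Γp), (1 : K)), Or.inl rfl⟩ 1)
  refine hp0 ?_
  haveI := isAffineHom_hom D
  obtain ⟨ν, hν⟩ := Q.exists_pos
  rw [hroot, hQa] at hν
  have hne : a ≠ b := fun h => D.P.ne_zero a (by
    have := hab
    rw [← h] at this
    exact left_eq_add.mp this)
  have h1 := congrArg (theta g) hU
  rw [map_one, Data.Pair.U, hu, hQa, hQb, map_mul, theta_u, theta_u] at h1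
  have h2 := prod_uPt_injective g D (![a, b] : Fin 2 → D.idx) (by
      intro x y hxy; fin_cases x <;> fin_cases y <;> simp_all [Ne.symm hne]) ν
    (fun k => by fin_cases k <;> simp [hab] <;> omega) (x := ![p.1, p.2]) (y := 0)
    (by
      rw [show (List.ofFn fun k => uPt g D ((![a, b] : Fin 2 → D.idx) k) ((0 : Fin 2 → K) k)).prod = 1 from
        uProd_zero g D _]
      simpa [List.ofFn_succ, _root_.mul_assoc] using h1)
  exact Prod.ext (congrFun h2 0) (congrFun h2 1)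

theorem eq_or_neg_or_double {M I : Type} [AddCommGroup M] [Module.Free ℤ M] [Module.Finite ℤ M] {N : Type}
    [AddCommGroup N] (P : RootPairing I ℤ M N) (hno : ∀ a b, P.root b ≠ P.root a + P.root a) : P.IsReduced := by
  haveI : IsAddTorsionFree M := .of_isTorsionFree ℤ M
  refine ⟨fun i j h => ?_⟩
  obtain ⟨x, y, hxy, hne⟩ : ∃ x y : ℤ, x • P.root i + y • P.root j = 0 ∧ ¬(x = 0 ∧ y = 0) := by
    rw [LinearIndependent.pair_iff] at h
    push Not at h
    obtain ⟨x, y, h1, h2⟩ := h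
    exact ⟨x, y, h1, fun e => h2 e.1 e.2⟩
  have h1 := congrArg (fun z => P.toLinearMap z (P.coroot i)) hxy
  have h2 := congrArg (fun z => P.toLinearMap z (P.coroot j)) hxy
  simp only [map_add, map_zsmul, LinearMap.add_apply, LinearMap.smul_apply, smul_eq_mul, map_zero,
    LinearMap.zero_apply, P.root_coroot_two] at h1 h2
  set m := P.toLinearMap (P.root j) (P.coroot i)
  set n := P.toLinearMap (P.root i) (P.coroot j)
  have hy : y ≠ 0 := fun hy => by
    rw [hy, zero_smul, add_zero, smul_eq_zero] at hxy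
    exact hxy.elim (fun e => hne ⟨e, hy⟩) (P.ne_zero i)
  have hmn : m * n = 4 := mul_left_cancel₀ hy (by linear_combination n * h1 - 2 * h2)
  have h2c : (2 : ℤ) • P.root j = m • P.root i := smul_right_injective _ hy (by
    show y • (2 : ℤ) • P.root j = y • m • P.root i
    rw [smul_comm, eq_neg_of_add_eq_zero_right hxy, smul_neg, smul_smul, ← neg_smul, smul_smul]
    congr 1
    linarith)
  have hdvd : m ∣ 4 := ⟨n, hmn.symm⟩
  have hm1 := Int.le_of_dvd (by norm_num) hdvd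
  have hm2 := Int.le_of_dvd (by norm_num) (Int.neg_dvd.mpr hdvd)
  have hopp : ∀ c, P.root (P.reflectionPerm c c) = -P.root c := fun c => by
    rw [P.root_reflectionPerm, P.reflection_apply_self]
  have hinj2 : ∀ {u v : M}, (2 : ℤ) • u = (2 : ℤ) • v → u = v := fun h => smul_right_injective M two_ne_zero h
  have hm0 : m ≠ 0 := fun e => by simp [e] at hmn
  have hm3 : m ≠ 3 ∧ m ≠ -3 := ⟨fun e => absurd (e ▸ hdvd) (by decide), fun e => absurd (e ▸ hdvd) (by decide)⟩
  obtain e | e | e | e | e | e : m = 2 ∨ m = -2 ∨ m = 4 ∨ m = -4 ∨ m = 1 ∨ m = -1 := by omega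
  all_goals rw [e] at h2c
  · exact Or.inl (hinj2 h2c).symm
  · refine Or.inr (hinj2 ?_)
    rw [smul_neg, h2c, neg_smul, neg_neg]
  · exact absurd (hinj2 (v := P.root i + P.root i) (h2c.trans (by module))) (hno i j)
  · exact absurd (hinj2 (v := P.root (P.reflectionPerm i i) + P.root (P.reflectionPerm i i))
      (h2c.trans (by rw [hopp]; module))) (hno _ j)
  · exact absurd ((one_smul ℤ _).symm.trans (h2c.symm.trans (two_smul ℤ _))) (hno j i)
  · refine absurd ?_ (hno (P.reflectionPerm j j) i)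
    rw [hopp, ← neg_neg (P.root i), ← neg_one_zsmul (P.root i), ← h2c]
    module

/-- **The root datum of a split reductive group over a nonempty base is reduced.** -/
theorem isReduced_of_nonempty {S : Scheme.{u}} [Nonempty S] {G : Over S} [GrpObj G] (D : Red.SplitRed G) :
    D.P.IsReduced := by
  obtain ⟨s⟩ := (inferInstance : Nonempty S)
  have hr := D.reductive.2.2 s
  haveI := hr.1
  haveI := hr.2.1
  haveI := hr.2.2.1
  exact eq_or_neg_or_double D.P fun a b h => no_double (Red.geomPt s) D hr h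

end Groth.Agent.H21Red0
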