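import Groth.Agent.H21Split.Red0.BcIso
import Groth.Agent.H20Conj.MaxConv
import Groth.Agent.H20Red.Iso

/-!
Reductivity and maximality of tori are insensitive to an isomorphism of base fields; geometric fibres.
-/

open CategoryTheory MonoidalCategory CartesianMonoidalCategory MonObj GrpObj AlgebraicGeometry
open CategoryTheory.Limits

universe u

set_option backward.isDefEq.respectTransparency false
set_option linter.style.haveILetI false
set_option linter.unusedSectionVars false
set_option synthInstance.maxHeartbeats 400000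
set_option maxHeartbeats 1000000

noncomputable section

namespace Groth.Agent.H21Red0

section Iso

variable {S S₁ : Scheme.{u}} (θ : S₁ ⟶ S) [IsIso θ]

/-- back and forth along an isomorphism of bases -/
def bcBack (X : Over S₁) : Red.bc θ (Red.bc (inv θ) X) ≅ X :=
  bcTrans θ (inv θ) _ rfl X ≪≫ bcOne (θ ≫ inv θ) (IsIso.hom_inv_id θ) X

theorem bcBack_natural {X Y : Over S₁} (φ : X ⟶ Y) :
    (Over.pullback θ).map ((Over.pullback (inv θ)).map φ) ≫ (bcBack θ Y).hom = (bcBack θ X).hom ≫ φ := by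
  rw [bcBack, bcBack, Iso.trans_hom, Iso.trans_hom, bcTrans_natural_assoc, bcOne_natural, Category.assoc]

instance isMonHom_bcBack (X : Over S₁) [GrpObj X] : IsMonHom (bcBack θ X).hom :=
  haveI := isMonHom_bcTrans θ (inv θ) (θ ≫ inv θ) rfl X
  haveI := isMonHom_bcOne (θ ≫ inv θ) (IsIso.hom_inv_id θ) X
  inferInstanceAs (IsMonHom ((bcTrans θ (inv θ) (θ ≫ inv θ) rfl X).hom ≫ (bcOne _ _ X).hom))

/-- forth and back along an isomorphism of bases -/
def bcForth (X : Over S) : Red.bc (inv θ) (Red.bc θ X) ≅ X :=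
  bcTrans (inv θ) θ _ rfl X ≪≫ bcOne (inv θ ≫ θ) (IsIso.inv_hom_id θ) X

theorem bcForth_natural {X Y : Over S} (φ : X ⟶ Y) :
    (Over.pullback (inv θ)).map ((Over.pullback θ).map φ) ≫ (bcForth θ Y).hom = (bcForth θ X).hom ≫ φ := by
  rw [bcForth, bcForth, Iso.trans_hom, Iso.trans_hom, bcTrans_natural_assoc, bcOne_natural, Category.assoc]

instance isMonHom_bcForth (X : Over S) [GrpObj X] : IsMonHom (bcForth θ X).hom :=
  haveI := isMonHom_bcTrans (inv θ) θ (inv θ ≫ θ) rfl X
  haveI := isMonHom_bcOne (inv θ ≫ θ) (IsIso.inv_hom_id θ) X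
  inferInstanceAs (IsMonHom ((bcTrans (inv θ) θ (inv θ ≫ θ) rfl X).hom ≫ (bcOne _ _ X).hom))

theorem mono_bcMap {S S' : Scheme.{u}} (f : S' ⟶ S) {X Y : Over S} (v : X ⟶ Y) [Mono v] :
    Mono ((Over.pullback f).map v) :=
  inferInstance

theorem isClosedImmersion_bcMap {S S' : Scheme.{u}} (f : S' ⟶ S) {X Y : Over S} (v : X ⟶ Y)
    [IsClosedImmersion v.left] : IsClosedImmersion ((Over.pullback f).map v).left :=
  MorphismProperty.baseChange_map (P := @IsClosedImmersion) f v inferInstance

theorem isIso_of_isIso_hom {X : Over S₁} (h : IsIso (Red.bc (inv θ) X).hom) : IsIso X.hom := by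
  haveI : IsIso (pullback.snd X.hom (inv θ)) := h
  haveI : IsIso (pullback.fst X.hom (inv θ) ≫ X.hom) := by rw [pullback.condition]; infer_instance
  exact IsIso.of_isIso_comp_left (pullback.fst X.hom (inv θ)) X.hom

/-- reductivity over a field only depends on the field up to isomorphism -/
theorem isReductiveOver_bc {K K' : Type u} [Field K] [Field K']
    (θ : Spec (CommRingCat.of K') ⟶ Spec (CommRingCat.of K)) [IsIso θ] {G : Over (Spec (CommRingCat.of K))} [GrpObj G]
    (h : Red.IsReductiveOver K G) : Red.IsReductiveOver K' (Red.bc θ G) := by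
  obtain ⟨ha, hs, hc, hU⟩ := h
  haveI := ha
  haveI := hs
  haveI := hc
  have hconn : ∀ {S S₁ : Scheme.{u}} (θ : S₁ ⟶ S) [IsIso θ] (X : Over S) [ConnectedSpace X.left],
      ConnectedSpace (Red.bc θ X).left := fun θ _ X _ =>
    (Scheme.Hom.homeomorph (pullback.fst X.hom θ)).symm.surjective.connectedSpace
      (Scheme.Hom.homeomorph (pullback.fst X.hom θ)).symm.continuous
  refine ⟨.of_isIso (pullback.fst G.hom θ), inferInstanceAs (Smooth (pullback.snd G.hom θ)), hconn θ G,
    fun U _ i _ hcl hsm hUc hn hno => ?_⟩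
  haveI := hcl
  haveI := hsm
  haveI := hUc
  haveI : IsMonHom ((Over.pullback (inv θ)).map i) := H21Diag.isMonHom_bcMap _ i
  haveI := isClosedImmersion_bcMap (inv θ) i
  haveI : IsIso (bcForth θ G).hom.left := inferInstanceAs (IsIso ((Over.forget _).map (bcForth θ G).hom))
  refine isIso_of_isIso_hom θ (hU (Red.bc (inv θ) U) ((Over.pullback (inv θ)).map i ≫ (bcForth θ G).hom) ?_
    (inferInstanceAs (Smooth (pullback.snd U.hom (inv θ)))) (hconn (inv θ) U) ?_ fun T _ j _ _ hT => ?_)
  · rw [Over.comp_left]; infer_instance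
  · have := H20Red.isNormalHom_of_iso (Iso.refl (Red.bc (inv θ) U)) (bcForth θ G)
      ((Over.pullback (inv θ)).map i) (H20Red.isNormalHom_bcMap (inv θ) i hn)
    simpa using this
  · haveI : IsMonHom ((Over.pullback θ).map j) := H21Diag.isMonHom_bcMap _ j
    haveI : IsMonHom ((Over.pullback θ).map j ≫ (bcBack θ U).hom) :=
      inferInstanceAs (IsMonHom ((Over.pullback θ).map j ≫ (bcBack θ U).hom))
    haveI : IsIso (pullback.snd T.hom θ) :=
      hno (Red.bc θ T) ((Over.pullback θ).map j ≫ (bcBack θ U).hom) (H20Conj.isTorus_bc_of_isIso θ hT)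
    change IsIso T.hom
    haveI : IsIso (pullback.fst T.hom θ ≫ T.hom) := by rw [pullback.condition]; infer_instance
    exact IsIso.of_isIso_comp_left (pullback.fst T.hom θ) T.hom

end Iso

variable {K : Type u} [Field K] [IsAlgClosed K]

/-- a reductive group over an algebraically closed field, as a group scheme -/
theorem isReductive_of_isReductiveOver {H : Over (Spec (CommRingCat.of K))} [GrpObj H]
    (h : Red.IsReductiveOver K H) : Red.IsReductive H := by
  haveI := h.1
  exact ⟨inferInstance, h.2.1, fun t => haveI := H20Conj.isIso_geomPt t; isReductiveOver_bc (Red.geomPt t) h⟩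

/-- maximality of a torus passes along an isomorphism of bases -/
theorem maximal_bc {S S₁ : Scheme.{u}} (θ : S₁ ⟶ S) [IsIso θ] {T G : Over S} [GrpObj T] [GrpObj G] (i : T ⟶ G)
    (hT : Red.IsTorus T)
    (hmax : ∀ (T' : Over S) [GrpObj T'] (j : T' ⟶ G) [IsMonHom j] [Mono j] (f : T ⟶ T'),
      Red.IsTorus T' → f ≫ j = i → IsIso f)
    {T' : Over S₁} [GrpObj T'] (j : T' ⟶ Red.bc θ G) [IsMonHom j] [Mono j] (f : Red.bc θ T ⟶ T')
    (hT' : Red.IsTorus T') (hf : f ≫ j = (Over.pullback θ).map i) : IsIso f := by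
  let j₁ : Red.bc (inv θ) T' ⟶ G := (Over.pullback (inv θ)).map j ≫ (bcForth θ G).hom
  haveI : IsMonHom ((Over.pullback (inv θ)).map j) := H21Diag.isMonHom_bcMap _ j
  haveI : IsMonHom j₁ := inferInstanceAs (IsMonHom ((Over.pullback (inv θ)).map j ≫ (bcForth θ G).hom))
  haveI : Mono j₁ := mono_comp _ _
  let f₁ : T ⟶ Red.bc (inv θ) T' := (bcForth θ T).inv ≫ (Over.pullback (inv θ)).map f
  have e : f₁ ≫ j₁ = i := by
    simp only [f₁, j₁, Category.assoc]
    rw [← Functor.map_comp_assoc, hf, bcForth_natural, Iso.inv_hom_id_assoc]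
  haveI h1 : IsIso f₁ := hmax (Red.bc (inv θ) T') j₁ f₁ (H20Conj.isTorus_bc_of_isIso (inv θ) hT') e
  haveI h2 : IsIso ((Over.pullback (inv θ)).map f) :=
    @IsIso.of_isIso_comp_left _ _ _ _ _ (bcForth θ T).inv ((Over.pullback (inv θ)).map f) (Iso.isIso_inv _) h1
  have h3 : f = (bcBack θ (Red.bc θ T)).inv ≫ (Over.pullback θ).map ((Over.pullback (inv θ)).map f) ≫
      (bcBack θ T').hom := by rw [bcBack_natural, Iso.inv_hom_id_assoc]
  rw [h3]
  exact @IsIso.comp_isIso _ _ _ _ _ _ _ (Iso.isIso_inv _)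
    (@IsIso.comp_isIso _ _ _ _ _ _ _ (Functor.map_isIso _ _) (Iso.isIso_hom _))

/-- maximality of a torus over an algebraically closed field -/
theorem isMaximalTorus_of_maximal {T G : Over (Spec (CommRingCat.of K))} [GrpObj T] [GrpObj G] (i : T ⟶ G)
    [IsMonHom i] [Mono i] (hT : Red.IsTorus T)
    (hmax : ∀ (T' : Over (Spec (CommRingCat.of K))) [GrpObj T'] (j : T' ⟶ G) [IsMonHom j] [Mono j] (f : T ⟶ T'),
      Red.IsTorus T' → f ≫ j = i → IsIso f) : Red.IsMaximalTorus i := by
  refine ⟨inferInstance, inferInstance, hT, fun t T' _ j _ _ f hT' hf => ?_⟩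
  haveI := H20Conj.isIso_geomPt t
  exact maximal_bc (Red.geomPt t) i hT hmax j f hT' hf

end Groth.Agent.H21Red0
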