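import Groth.Agent.H21Diag.DSMap
import Groth.Agent.H27Witt.GaCoord
import Groth.Prelude.Def_Red2

/-!
Base change along composites, with the projections kept visible.
-/

open CategoryTheory MonoidalCategory CartesianMonoidalCategory MonObj GrpObj AlgebraicGeometry
open CategoryTheory.Limits

universe u

set_option backward.isDefEq.respectTransparency false
set_option linter.style.haveILetI false
set_option synthInstance.maxHeartbeats 400000

noncomputable section

namespace Groth.Agent.H21Red0

variable {S T U : Scheme.{u}} (h : U ⟶ T) (f : T ⟶ S) (k : U ⟶ S) (e : h ≫ f = k)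

/-- iterated base change -/
def bcTrans (X : Over S) : Red.bc h (Red.bc f X) ≅ Red.bc k X where
  hom := Over.homMk (pullback.lift (pullback.fst (pullback.snd X.hom f) h ≫ pullback.fst X.hom f)
      (pullback.snd (pullback.snd X.hom f) h) (by
        rw [Category.assoc, pullback.condition, ← Category.assoc, pullback.condition, Category.assoc, e]))
    (pullback.lift_snd _ _ _)
  inv := Over.homMk (pullback.lift (pullback.lift (pullback.fst X.hom k) (pullback.snd X.hom k ≫ h) (by
        rw [Category.assoc, e, pullback.condition]))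
      (pullback.snd X.hom k) (pullback.lift_snd _ _ _))
    (pullback.lift_snd _ _ _)
  hom_inv_id := by
    refine Over.OverMorphism.ext (pullback.hom_ext (pullback.hom_ext ?_ ?_) ?_) <;>
      simp [pullback.condition]
  inv_hom_id := by
    refine Over.OverMorphism.ext (pullback.hom_ext ?_ ?_) <;> simp

theorem bcTrans_fst (X : Over S) :
    (bcTrans h f k e X).hom.left ≫ pullback.fst X.hom k = pullback.fst (pullback.snd X.hom f) h ≫ pullback.fst X.hom f :=
  pullback.lift_fst _ _ _

@[reassoc]
theorem bcTrans_natural {X Y : Over S} (φ : X ⟶ Y) :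
    (Over.pullback h).map ((Over.pullback f).map φ) ≫ (bcTrans h f k e Y).hom =
      (bcTrans h f k e X).hom ≫ (Over.pullback k).map φ := by
  refine Over.OverMorphism.ext (pullback.hom_ext ?_ ?_) <;> simp [bcTrans]

theorem isMonHom_bcTrans (X : Over S) [GrpObj X] : IsMonHom (bcTrans h f k e X).hom := by
  refine H21Diag.isMonHom_of_mul _ fun {W} a b => ?_
  apply (H21Diag.bcEquiv k X W).symm.injective
  let w : (Over.map k).obj W ⟶ (Over.map f).obj ((Over.map h).obj W) :=
    Over.homMk (𝟙 W.left) (by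
      change 𝟙 W.left ≫ (W.hom ≫ h) ≫ f = W.hom ≫ k
      rw [Category.id_comp, Category.assoc, e])
  have key : ∀ c : W ⟶ Red.bc h (Red.bc f X), (H21Diag.bcEquiv k X W).symm (c ≫ (bcTrans h f k e X).hom) =
      w ≫ (H21Diag.bcEquiv f X _).symm ((H21Diag.bcEquiv h (Red.bc f X) W).symm c) := fun c => by
    ext : 1
    change (c.left ≫ (bcTrans h f k e X).hom.left) ≫ pullback.fst _ _ = 𝟙 _ ≫ (c.left ≫ pullback.fst _ _) ≫ pullback.fst _ _
    rw [Category.id_comp, Category.assoc, bcTrans_fst, Category.assoc]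
    rfl
  rw [key, H21Diag.bcEquiv_symm_mul, H21Diag.bcEquiv_symm_mul, MonObj.comp_mul, ← key, ← key,
    H21Diag.bcEquiv_symm_mul]

/-- base change along the identity -/
def bcOne (l : S ⟶ S) (hl : l = 𝟙 S) (X : Over S) : Red.bc l X ≅ X where
  hom := Over.homMk (pullback.fst X.hom l) (by
    rw [pullback.condition, hl]; exact Category.comp_id _)
  inv := Over.homMk (pullback.lift (𝟙 X.left) X.hom (by rw [hl, Category.id_comp, Category.comp_id]))
    (pullback.lift_snd _ _ _)
  hom_inv_id := by
    refine Over.OverMorphism.ext (pullback.hom_ext (by simp) ?_)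
    subst hl
    simp [pullback.condition]
  inv_hom_id := by ext; simp

theorem bcOne_natural (l : S ⟶ S) (hl : l = 𝟙 S) {X Y : Over S} (φ : X ⟶ Y) :
    (Over.pullback l).map φ ≫ (bcOne l hl Y).hom = (bcOne l hl X).hom ≫ φ := by
  ext; simp [bcOne]

theorem isMonHom_bcOne (l : S ⟶ S) (hl : l = 𝟙 S) (X : Over S) [GrpObj X] : IsMonHom (bcOne l hl X).hom := by
  refine H21Diag.isMonHom_of_mul _ fun {W} a b => ?_
  let w : W ⟶ (Over.map l).obj W := Over.homMk (𝟙 W.left) (by
    change 𝟙 W.left ≫ W.hom ≫ l = W.hom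
    rw [Category.id_comp, hl]; exact Category.comp_id _)
  have key : ∀ c : W ⟶ Red.bc l X, c ≫ (bcOne l hl X).hom = w ≫ (H21Diag.bcEquiv l X W).symm c := fun c => by
    ext : 1
    exact (Category.id_comp _).symm
  rw [key, H21Diag.bcEquiv_symm_mul, MonObj.comp_mul, ← key, ← key]

variable (g : T ⟶ S)

/-- base change of an object coming from the integers -/
def absIso (X₀ : Over (Spec (CommRingCat.of (ULift.{u} ℤ)))) :
    Red.bc g (Red.bc (specULiftZIsTerminal.from S) X₀) ≅ Red.bc (specULiftZIsTerminal.from T) X₀ :=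
  bcTrans g _ _ (specULiftZIsTerminal.hom_ext _ _) X₀

/-- base change of the additive group -/
def gaIso : Red.bc g (Red.Ga S) ≅ Red.Ga T := absIso g Red.GaZ

/-- base change of a split torus -/
def dsIso (M : Type) [AddCommGroup M] : Red.bc g (Red.DS S M) ≅ Red.DS T M := absIso g (Red.diag (ULift.{u} ℤ) M)

instance isMonHom_gaIso : IsMonHom (gaIso g).hom := isMonHom_bcTrans _ _ _ (specULiftZIsTerminal.hom_ext _ _) Red.GaZ

instance isMonHom_dsIso (M : Type) [AddCommGroup M] : IsMonHom (dsIso g M).hom :=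
  isMonHom_bcTrans _ _ _ (specULiftZIsTerminal.hom_ext _ _) (Red.diag (ULift.{u} ℤ) M)

theorem dsIso_natural {M M' : Type} [AddCommGroup M] [AddCommGroup M'] (φ : M →+ M') :
    (Over.pullback g).map (Red.DSmap S φ) ≫ (dsIso g M).hom = (dsIso g M').hom ≫ Red.DSmap T φ :=
  bcTrans_natural _ _ _ (specULiftZIsTerminal.hom_ext _ _) (Red.diagMap (ULift.{u} ℤ) φ)

theorem dsIso_chi {M : Type} [AddCommGroup M] (m : M) :
    (Over.pullback g).map (Red.chi S m) ≫ (dsIso g ℤ).hom = (dsIso g M).hom ≫ Red.chi T m :=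
  dsIso_natural g _

theorem gaFn_gaIso {W : Over T} (a : W ⟶ Red.bc g (Red.Ga S)) :
    Red.gaFn (a ≫ (gaIso g).hom) = Red.gaFn ((H21Diag.bcEquiv g (Red.Ga S) W).symm a) := by
  change ((a.left ≫ (gaIso g).hom.left) ≫ pullback.fst _ _).appTop _ = ((a.left ≫ pullback.fst _ _) ≫ pullback.fst _ _).appTop _
  rw [Category.assoc, gaIso, absIso, bcTrans_fst, Category.assoc]
  rfl

theorem gmFn_dsIso {W : Over T} (a : W ⟶ Red.bc g (Red.Gm S)) :
    Red.gmFn (a ≫ (dsIso g ℤ).hom) = Red.gmFn ((H21Diag.bcEquiv g (Red.Gm S) W).symm a) := by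
  change ((a.left ≫ (dsIso g ℤ).hom.left) ≫ pullback.fst _ _).appTop _ = ((a.left ≫ pullback.fst _ _) ≫ pullback.fst _ _).appTop _
  rw [Category.assoc, dsIso, absIso, bcTrans_fst, Category.assoc]
  rfl

end Groth.Agent.H21Red0
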