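import Groth.Agent.H21Split.Red0.UniqueRoot
import Groth.Agent.H21Split.Decomp
import Groth.Agent.H21Desc.DiagHom

/-!
A splitting is determined by its torus up to equivalence of root data.
-/

open CategoryTheory MonoidalCategory CartesianMonoidalCategory MonObj GrpObj AlgebraicGeometry
open CategoryTheory.Limits

universe u

set_option backward.isDefEq.respectTransparency false
set_option linter.style.haveILetI false
set_option linter.unusedSectionVars false
set_option synthInstance.maxHeartbeats 400000

noncomputable section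

namespace Groth.Agent.H21Red0

open H21Split

section Comb

variable {S : Scheme.{u}} {G : Over S} [GrpObj G] (D : Red.SplitRed G)

/-- a functional vanishing on the roots and on the annihilator of the coroots is zero -/
theorem eq_zero_of_vanish (b : D.P.Base) (c : Module.Dual ℤ D.M) (hr : ∀ a, c (D.P.root a) = 0)
    (hN : ∀ x, (∀ a, D.P.coroot a x = 0) → c x = 0) : c = 0 := by
  classical
  refine LinearMap.ext fun x => ?_
  let C : Matrix b.support b.support ℤ := Matrix.of fun i j => D.P.pairing i.1 j.1
  let v : b.support → ℤ := fun j => D.P.coroot j.1 x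
  let k : b.support → ℤ := Matrix.vecMul v C.adjugate
  have hk : Matrix.vecMul k C = C.det • v := by
    simp only [k, Matrix.vecMul_vecMul, Matrix.adjugate_mul, Matrix.vecMul_smul, Matrix.vecMul_one]
  let y : D.M := C.det • x - ∑ i : b.support, k i • D.P.root i.1
  have hs : ∀ j : b.support, D.P.coroot j.1 y = 0 := fun j => by
    have h1 := congrFun hk j
    simp only [y, map_sub, map_smul, map_sum, pairing_apply, smul_eq_mul, sub_eq_zero]
    simpa [Matrix.vecMul, dotProduct, C, v] using h1.symm
  have hy : ∀ a, D.P.coroot a y = 0 := by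
    have hcl : ∀ z ∈ AddSubmonoid.closure (D.P.coroot '' (b.support : Set D.idx)), z y = 0 := fun z hz => by
      induction hz using AddSubmonoid.closure_induction with
      | mem z hz => obtain ⟨i, hi, rfl⟩ := hz; exact hs ⟨i, hi⟩
      | zero => rfl
      | add z z' _ _ h h' => rw [LinearMap.add_apply, h, h', add_zero]
    intro a
    rcases b.coroot_mem_or_neg_mem a with h | h
    · exact hcl _ h
    · simpa using hcl _ h
  have h2 := hN y hy
  simp only [y, map_sub, map_smul, map_sum, hr, smul_eq_mul, mul_zero, Finset.sum_const_zero, sub_zero,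
    mul_eq_zero] at h2
  exact h2.resolve_left (cartan_det_ne_zero D b)

/-- reflections along the same root preserving the roots agree on the roots -/
theorem eq_on_roots (a : D.idx) (f' : Module.Dual ℤ D.M) (h2 : f' (D.P.root a) = 2)
    (hf' : ∀ b, D.P.root b - f' (D.P.root b) • D.P.root a ∈ Set.range D.P.root) (b : D.idx) :
    f' (D.P.root b) = D.P.coroot a (D.P.root b) := by
  haveI := D.fintypeIdx
  haveI := D.freeM
  let δ : D.M → ℤ := fun x => f' x - D.P.coroot a x
  have hu : ∀ x ∈ Set.range D.P.root, x - δ x • D.P.root a ∈ Set.range D.P.root := by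
    rintro x ⟨j, rfl⟩
    obtain ⟨l, hl⟩ : D.P.root j - D.P.coroot a (D.P.root j) • D.P.root a ∈ Set.range D.P.root :=
      ⟨D.P.reflectionPerm a j, by rw [D.P.root_reflectionPerm, reflection_apply']⟩
    have := hf' l
    rw [hl, map_sub, map_smul, h2] at this
    convert this using 1
    simp only [δ, smul_eq_mul]
    module
  have hδα : δ (D.P.root a) = 0 := by
    simp only [δ, h2, pairing_apply, D.P.pairing_same, sub_self]
  by_contra hne
  have hc : δ (D.P.root b) ≠ 0 := sub_ne_zero.mpr hne
  have hit : ∀ n : ℕ, D.P.root b - ((n : ℤ) * δ (D.P.root b)) • D.P.root a ∈ Set.range D.P.root ∧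
      δ (D.P.root b - ((n : ℤ) * δ (D.P.root b)) • D.P.root a) = δ (D.P.root b) := by
    intro n
    have hδ : ∀ r : ℤ, δ (D.P.root b - r • D.P.root a) = δ (D.P.root b) := fun r => by
      have e : r * δ (D.P.root a) = 0 := by rw [hδα, mul_zero]
      simp only [δ, map_sub, map_smul, smul_eq_mul] at e ⊢
      linear_combination -e
    refine ⟨?_, hδ _⟩
    induction n with
    | zero => simp
    | succ n ih =>
      have := hu _ ih
      rw [hδ] at this
      convert this using 1
      push_cast
      module
  refine not_injective_infinite_finite (α := ℕ) (fun n => (hit n).1.choose) fun n n' h => ?_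
  have e := congrArg D.P.root h
  simp only at e
  rw [(hit n).1.choose_spec, (hit n').1.choose_spec, sub_right_inj] at e
  have := smul_left_injective ℤ (D.P.ne_zero a) e
  exact_mod_cast mul_right_cancel₀ hc this

end Comb

section Same

variable {k : Type u} [Field k]

theorem isMonHom_comp3 {S : Scheme.{u}} {A B C : Over S} [GrpObj A] [GrpObj B] [GrpObj C] (f : A ⟶ B) (h : B ⟶ C)
    [IsMonHom f] [IsMonHom h] : IsMonHom (f ≫ h) :=
  inferInstanceAs (IsMonHom (f ≫ h))

theorem DSmap_inj {M M' : Type} [AddCommGroup M] [AddCommGroup M'] {φ φ' : M' →+ M}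
    (h : Red.DSmap (Spec (CommRingCat.of k)) φ = Red.DSmap _ φ') : φ = φ' :=
  H21Desc.eq_of_dsConst_eq (T := 𝟙_ (Over (Spec (CommRingCat.of k)))) (IsLocalRing.closedPoint k : ↥(Spec (CommRingCat.of k)))
    (Subtype.ext (congrArg (fst _ _ ≫ ·) h))

variable {G : Over (Spec (CommRingCat.of k))} [GrpObj G] (D D' : Red.SplitRed G) (c : G ⟶ G) [IsMonHom c] [Mono c] (e : D.M ≃+ D'.M)
  (hc : D'.i ≫ c = D'.split.hom.hom.hom ≫ Red.DSmap (Spec (CommRingCat.of k)) e.toAddMonoidHom ≫ D.split.inv.hom.hom ≫ D.i)

include hc

theorem tPt_eq {R : Type u} [CommRing R] (g : Spec (CommRingCat.of R) ⟶ (Spec (CommRingCat.of k))) {B : Type u} [CommRing B] [Algebra R B]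
    (χ : Multiplicative D.M →* B) :
    tPt g D' (χ.comp (AddMonoidHom.toMultiplicative e.symm.toAddMonoidHom)) ≫ c = tPt g D χ := by
  simp only [tPt, Category.assoc, hc, reassoc_of% (split_inv_hom D')]
  rw [← Category.assoc, ds_DSmap]
  congr 2
  refine MonoidHom.ext fun m => ?_
  change χ (Multiplicative.ofAdd (e.symm (e m.toAdd))) = χ m
  rw [e.symm_apply_apply]
  rfl

theorem root_mem_of (a : D'.idx) : e.symm (D'.P.root a) ∈ Set.range D.P.root := by
  haveI := mono_u D' a
  haveI : IsMonHom (D'.u a ≫ c) := inferInstanceAs (IsMonHom (D'.u a ≫ c))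
  refine root_mem D _ (fun h => D'.P.ne_zero a (e.symm.injective (h.trans (map_zero e.symm).symm))) (D'.u a ≫ c)
    fun R _ g B _ _ χ b => ?_
  have h1 := congrArg (· ≫ c) (tPt_conj g D' (χ.comp (AddMonoidHom.toMultiplicative e.symm.toAddMonoidHom)) a b)
  simp only [MonObj.mul_comp, GrpObj.inv_comp, tPt_eq D D' c e hc, uPt, Category.assoc] at h1
  rw [h1]
  rfl

theorem coroot_vanish (a : D'.idx) (x : D.M) (hx : ∀ b, D.P.coroot b x = 0) : D'.P.coroot a (e x) = 0 := by
  haveI : D.P.IsReduced := isReduced_of_nonempty D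
  haveI : D'.P.IsReduced := isReduced_of_nonempty D'
  obtain ⟨b⟩ := nonempty_base D
  let N : AddSubgroup D.M :=
    { carrier := {x | ∀ b, D.P.coroot b x = 0}
      add_mem' := fun h h' b => by rw [map_add, h b, h' b, add_zero]
      zero_mem' := fun b => map_zero _
      neg_mem' := fun h b => by rw [map_neg, h b, neg_zero] }
  obtain ⟨f, hf, hfT, -⟩ := exists_corad D b (N := N) (fun x hx => hx)
  haveI := hf
  haveI : IsMonHom (c ≫ f) := isMonHom_comp3 c f
  have h1 := Corad.avc_comp_eq_one D' (c ≫ f) (fun X u v => by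
    refine hom_ext_pt fun R _ g j => ?_
    obtain ⟨χ, hχ⟩ := ds_surjective g (j ≫ u)
    obtain ⟨χ', hχ'⟩ := ds_surjective g (j ≫ v)
    rw [MonObj.comp_mul, MonObj.comp_mul, ← hχ, ← hχ', ← ds_mul, ← ds_mul, mul_comm]) a
  simp only [avc, Category.assoc, reassoc_of% hc, hfT, coradT, reassoc_of% (split_inv_hom D'),
    reassoc_of% (split_inv_hom D), R2.DSmap_comp] at h1
  rw [← DSmap_zero] at h1
  exact DFunLike.congr_fun (DSmap_inj h1) ⟨x, hx⟩

/-- the root data of two splittings with the same torus are equivalent -/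
theorem nonempty_equiv (hrev : ∀ b, e (D.P.root b) ∈ Set.range D'.P.root) :
    Nonempty (RootPairing.Equiv D.P D'.P) := by
  choose p hp using hrev
  choose q hq using root_mem_of D D' c e hc
  let σ : D.idx ≃ D'.idx :=
    ⟨p, q, fun b => D.P.root.injective (by rw [hq, hp, e.symm_apply_apply]),
      fun a => D'.P.root.injective (by rw [hp, hq, e.apply_symm_apply])⟩
  have hroot : ∀ b, D'.P.root (σ b) = e (D.P.root b) := hp
  obtain ⟨base⟩ := nonempty_base D
  have hcor : ∀ a, (D'.P.coroot (σ a)).comp e.toAddMonoidHom.toIntLinearMap = D.P.coroot a := fun a => by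
    set f' := (D'.P.coroot (σ a)).comp e.toAddMonoidHom.toIntLinearMap
    have hf' : ∀ x, f' x = D'.P.coroot (σ a) (e x) := fun x => rfl
    have h2 : f' (D.P.root a) = 2 := by rw [hf', ← hroot, pairing_apply, D'.P.pairing_same]
    have hR : ∀ b, D.P.root b - f' (D.P.root b) • D.P.root a ∈ Set.range D.P.root := fun b => by
      refine ⟨σ.symm (D'.P.reflectionPerm (σ a) (σ b)), e.injective ?_⟩
      rw [← hroot, σ.apply_symm_apply, D'.P.root_reflectionPerm, reflection_apply', map_sub, map_zsmul, hroot, hroot,
        hf']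
    exact sub_eq_zero.mp (eq_zero_of_vanish D base _
      (fun b => by rw [LinearMap.sub_apply, eq_on_roots D a f' h2 hR b, sub_self])
      (fun x hx => by rw [LinearMap.sub_apply, hx a, hf', coroot_vanish D D' c e hc _ x hx, sub_self]))
  let eZ : D.M ≃ₗ[ℤ] D'.M := e.toIntLinearEquiv
  refine ⟨{
    weightMap := eZ.toLinearMap
    coweightMap := eZ.toLinearMap.dualMap
    indexEquiv := σ
    weight_coweight_transpose := ?_
    root_weightMap := funext fun b => (hroot b).symm
    coroot_coweightMap := funext fun a => ?_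
    bijective_weightMap := eZ.bijective
    bijective_coweightMap := eZ.dualMap.bijective }⟩
  · refine LinearMap.ext fun f => LinearMap.ext fun x => ?_
    change D'.P.toLinearMap (eZ x) f = D.P.toLinearMap x (eZ.toLinearMap.dualMap f)
    rw [D.pairing_eq, D'.pairing_eq]
    rfl
  · obtain ⟨b, rfl⟩ := σ.surjective a
    simp only [Function.comp_apply, Equiv.symm_apply_apply]
    exact hcor b

end Same

end Groth.Agent.H21Red0
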