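import Groth.Agent.H20Conj.Cone
import Mathlib.LinearAlgebra.LinearIndependent.Basic

/-!
Abstract data of the rational points of a group with a split torus and root homomorphisms, inside `GL_N`:
regular functions, weights of representations, root homomorphisms raise weights.
-/

universe u v

set_option linter.unusedSectionVars false
set_option linter.style.haveILetI false

noncomputable section

open scoped Matrix
open H20Conj (GLk Mat Vec evM EPoly IsZClosed)

namespace Groth.Agent.H21Red0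

variable {K : Type u} [Field K] {M : Type} [AddCommGroup M]

/-- points of a split torus with character group `M` -/
abbrev Tpt (K : Type u) [Field K] (M : Type) [AddCommGroup M] := Multiplicative M →* Kˣ

/-- evaluation of a character -/
def evH (m : M) : Tpt K M →* K where
  toFun χ := ((χ (Multiplicative.ofAdd m) : Kˣ) : K)
  map_one' := rfl
  map_mul' χ χ' := by rw [MonoidHom.mul_apply, Units.val_mul]

theorem evH_ne (χ : Tpt K M) (m : M) : evH m χ ≠ 0 := Units.ne_zero _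

theorem evH_add (m m' : M) (χ : Tpt K M) : evH (m + m') χ = evH m χ * evH m' χ := by
  change ((χ (Multiplicative.ofAdd (m + m')) : Kˣ) : K) = _
  rw [ofAdd_add, map_mul, Units.val_mul]
  rfl

theorem evH_zero (χ : Tpt K M) : evH (0 : M) χ = 1 := by
  change ((χ (Multiplicative.ofAdd (0 : M)) : Kˣ) : K) = _
  rw [ofAdd_zero, map_one, Units.val_one]

theorem evH_nsmul (j : ℕ) (m : M) (χ : Tpt K M) : evH (j • m) χ = evH m χ ^ j := by
  induction j with
  | zero => rw [zero_smul, evH_zero, pow_zero]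
  | succ j ih => rw [succ_nsmul, evH_add, ih, pow_succ]

/-- the one-parameter subgroup of a functional -/
def cch (η : M →+ ℤ) : Kˣ →* Tpt K M where
  toFun t := (zpowersHom Kˣ t).comp (AddMonoidHom.toMultiplicative η)
  map_one' := MonoidHom.ext fun m => by simp [zpowersHom_apply]
  map_mul' t t' := MonoidHom.ext fun m => by simp [zpowersHom_apply, mul_zpow]

theorem evH_cch (η : M →+ ℤ) (t : Kˣ) (m : M) : evH m (cch η t) = ((t ^ η m : Kˣ) : K) := rfl

theorem cch_nsmul (n : ℕ) (η : M →+ ℤ) (t : Kˣ) : cch (K := K) (n • η) t = cch η (t ^ n) :=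
  MonoidHom.ext fun m => by
    change t ^ ((n • η) m.toAdd) = (t ^ n) ^ η m.toAdd
    rw [AddMonoidHom.smul_apply, nsmul_eq_mul, zpow_mul, zpow_natCast]

theorem exists_zpow_ne_one [Infinite K] {i : ℤ} (hi : i ≠ 0) : ∃ t : Kˣ, ((t ^ i : Kˣ) : K) ≠ 1 := by
  by_contra h
  push Not at h
  have h0 := H20Conj.laurent_zero (k := K) (s := {i, 0}) (c := fun l => if l = i then 1 else -1)
    (fun u => by rw [Finset.sum_pair hi, if_pos rfl, if_neg (Ne.symm hi), h u, zpow_zero, Units.val_one]; ring) i (by simp)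
  simp at h0

theorem zpow_inj [Infinite K] {i j : ℤ} (h : ∀ t : Kˣ, t ^ i = t ^ j) : i = j := by
  by_contra hne
  obtain ⟨t, ht⟩ := exists_zpow_ne_one (K := K) (sub_ne_zero.mpr hne)
  exact ht (by rw [zpow_sub, h t, mul_inv_cancel, Units.val_one])

section

variable [Infinite K] [Module.Finite ℤ M] [Module.Free ℤ M]

theorem evH_injective : Function.Injective (evH (K := K) : M → Tpt K M →* K) := by
  intro m m' h
  by_contra hne
  let b := Module.Free.chooseBasis ℤ M
  obtain ⟨j, hj⟩ : ∃ j, b.repr (m - m') j ≠ 0 := by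
    by_contra hh
    push Not at hh
    exact hne (sub_eq_zero.mp (b.repr.injective (Finsupp.ext fun j => by simpa using hh j)))
  let η : M →+ ℤ := (b.coord j).toAddMonoidHom
  obtain ⟨t, ht⟩ := exists_zpow_ne_one (K := K) (i := η (m - m')) hj
  have hh := congrArg (fun F : Tpt K M →* K => F (cch η t)) h
  simp only [evH_cch] at hh
  exact ht (by rw [map_sub, zpow_sub, Units.ext hh, mul_inv_cancel, Units.val_one])

/-- the characters are independent functions on the torus -/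
theorem coeff_eq_zero {V : Type*} [AddCommGroup V] [Module K V] {s : Finset M} {c : M → V}
    (h : ∀ χ : Tpt K M, ∑ m ∈ s, evH m χ • c m = 0) : ∀ m ∈ s, c m = 0 := by
  intro m hm
  by_contra hc
  obtain ⟨ψ, hψ⟩ := Module.Projective.exists_dual_ne_zero K hc
  have hli := (linearIndependent_monoidHom (Tpt K M) K).comp _ (evH_injective (K := K) (M := M))
  refine hψ (linearIndependent_iff'.mp hli s (fun m => ψ (c m)) (funext fun χ => ?_) m hm)
  have := congrArg ψ (h χ)
  rw [map_sum, map_zero] at this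
  rw [Finset.sum_apply]
  refine Eq.trans (Finset.sum_congr rfl fun i _ => ?_) this
  rw [map_smul, smul_eq_mul, Pi.smul_apply, smul_eq_mul, Function.comp_apply, mul_comm]

end

/-- the coordinate functions of an embedding into `GL_N` -/
def coordFn {Γ : Type v} [Group Γ] {N : ℕ} (φ : Γ →* GLk K N) :
    (Fin N × Fin N) ⊕ (Fin N × Fin N) → (Γ → K) :=
  Sum.elim (fun ab g => (φ g : Mat K N) ab.1 ab.2) (fun ab g => (φ g⁻¹ : Mat K N) ab.1 ab.2)

/-- the regular functions of an embedding into `GL_N` -/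
def regFn {Γ : Type v} [Group Γ] {N : ℕ} (φ : Γ →* GLk K N) : Subalgebra K (Γ → K) :=
  Algebra.adjoin K (Set.range (coordFn φ))

variable (K M) in
/-- rational points of a group with a split torus and root homomorphisms -/
structure Data (Γ : Type v) [Group Γ] (ι : Type) where
  N₀ : ℕ
  φ₀ : Γ →* GLk K N₀
  inj : Function.Injective φ₀
  closed : IsZClosed (φ₀.range : Set (GLk K N₀))
  root : ι → M
  root_ne : ∀ c, root c ≠ 0
  tau : Tpt K M →* Γ
  tau_inj : Function.Injective tau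
  u : ι → K → Γ
  u_add : ∀ c x y, u c (x + y) = u c x * u c y
  conj : ∀ χ c x, tau χ * u c x * (tau χ)⁻¹ = u c (evH (root c) χ * x)
  poly_u : ∀ c p q, ∃ P : Polynomial K, ∀ x, (φ₀ (u c x) : Mat K N₀) p q = P.eval x
  poly_tau : ∀ p q, ∃ P : MonoidAlgebra K (Multiplicative M), ∀ χ : Tpt K M,
    (φ₀ (tau χ) : Mat K N₀) p q = MonoidAlgebra.lift K K (Multiplicative M) ((Units.coeHom K).comp χ) P
  /-- a function vanishing on a big cell vanishes -/
  dense : ∀ η : M →+ ℤ, (∀ c, η (root c) ≠ 0) → ∀ F ∈ regFn φ₀,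
    (∀ v ∈ Subgroup.closure {g | ∃ c x, η (root c) < 0 ∧ u c x = g}, ∀ χ,
      ∀ w ∈ Subgroup.closure {g | ∃ c x, 0 < η (root c) ∧ u c x = g}, F (v * tau χ * w) = 0) → F = 0
  /-- big cells meet their translates -/
  meet : ∀ η : M →+ ℤ, (∀ c, η (root c) ≠ 0) → ∀ z : Γ,
    ∃ v ∈ Subgroup.closure {g | ∃ c x, η (root c) < 0 ∧ u c x = g}, ∃ χ,
    ∃ w ∈ Subgroup.closure {g | ∃ c x, 0 < η (root c) ∧ u c x = g},
    ∃ v' ∈ Subgroup.closure {g | ∃ c x, η (root c) < 0 ∧ u c x = g}, ∃ χ',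
    ∃ w' ∈ Subgroup.closure {g | ∃ c x, 0 < η (root c) ∧ u c x = g},
      z * (v * tau χ * w) = v' * tau χ' * w'

namespace Data

variable {Γ : Type v} [Group Γ] {ι : Type} (Δ : Data K M Γ ι)

/-- regular functions -/
def R : Subalgebra K (Γ → K) := regFn Δ.φ₀

/-- the group generated by the root groups on which a functional is positive -/
def Pos (η : M →+ ℤ) : Subgroup Γ := Subgroup.closure {g | ∃ c x, 0 < η (Δ.root c) ∧ Δ.u c x = g}

theorem closure_neg (η : M →+ ℤ) :
    Subgroup.closure {g | ∃ c x, η (Δ.root c) < 0 ∧ Δ.u c x = g} = Δ.Pos (-η) := by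
  simp [Pos]

theorem u_zero (c : ι) : Δ.u c 0 = 1 := by
  have h := Δ.u_add c 0 0
  rw [add_zero] at h
  exact mul_eq_left.mp h.symm

theorem u_neg (c : ι) (x : K) : Δ.u c (-x) = (Δ.u c x)⁻¹ :=
  eq_inv_of_mul_eq_one_left (by rw [← Δ.u_add, neg_add_cancel, Δ.u_zero])

theorem u_mem_Pos {η : M →+ ℤ} {c : ι} (h : 0 < η (Δ.root c)) (x : K) : Δ.u c x ∈ Δ.Pos η :=
  Subgroup.subset_closure ⟨c, x, h, rfl⟩

theorem coord_mem (p q : Fin Δ.N₀) : (fun g => (Δ.φ₀ g : Mat K Δ.N₀) p q) ∈ Δ.R :=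
  Algebra.subset_adjoin ⟨Sum.inl (p, q), rfl⟩

theorem comp_inv_mem {F : Γ → K} (hF : F ∈ Δ.R) : (fun g => F g⁻¹) ∈ Δ.R := by
  let P : (Γ → K) →ₐ[K] (Γ → K) := AlgHom.pi fun g => Pi.evalAlgHom K (fun _ => K) g⁻¹
  refine (show Δ.R ≤ Δ.R.comap P from ?_) hF
  rw [R, regFn, Algebra.adjoin_le_iff]
  rintro _ ⟨(ab | ab), rfl⟩
  · exact Algebra.subset_adjoin ⟨Sum.inr ab, funext fun g => rfl⟩
  · refine Algebra.subset_adjoin ⟨Sum.inl ab, funext fun g => ?_⟩
    show _ = (Δ.φ₀ (g⁻¹)⁻¹ : Mat K Δ.N₀) ab.1 ab.2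
    rw [inv_inv]
    rfl

theorem poly_u' {F : Γ → K} (hF : F ∈ Δ.R) (c : ι) : ∃ P : Polynomial K, ∀ x, F (Δ.u c x) = P.eval x := by
  let C : (Γ → K) →ₐ[K] (K → K) := AlgHom.pi fun x => Pi.evalAlgHom K (fun _ => K) (Δ.u c x)
  let E : Polynomial K →ₐ[K] (K → K) := AlgHom.pi fun x => Polynomial.aeval x
  obtain ⟨P, hP⟩ := (show Δ.R ≤ E.range.comap C from by
    rw [R, regFn, Algebra.adjoin_le_iff]
    rintro _ ⟨(ab | ab), rfl⟩
    · obtain ⟨P, hP⟩ := Δ.poly_u c ab.1 ab.2
      exact ⟨P, funext fun x => (congrFun (Polynomial.coe_aeval_eq_eval x) P).trans (hP x).symm⟩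
    · obtain ⟨P, hP⟩ := Δ.poly_u c ab.1 ab.2
      refine ⟨P.comp (-Polynomial.X), funext fun x => ?_⟩
      show Polynomial.aeval x _ = (Δ.φ₀ (Δ.u c x)⁻¹ : Mat K Δ.N₀) ab.1 ab.2
      rw [← Δ.u_neg, hP, Polynomial.coe_aeval_eq_eval, Polynomial.eval_comp]
      simp) hF
  exact ⟨P, fun x => by
    have := congrFun hP x
    exact this.symm.trans (congrFun (Polynomial.coe_aeval_eq_eval x) P)⟩

theorem poly_tau' {F : Γ → K} (hF : F ∈ Δ.R) : ∃ P : MonoidAlgebra K (Multiplicative M), ∀ χ : Tpt K M,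
    F (Δ.tau χ) = MonoidAlgebra.lift K K (Multiplicative M) ((Units.coeHom K).comp χ) P := by
  let C : (Γ → K) →ₐ[K] (Tpt K M → K) :=
    AlgHom.pi fun χ => Pi.evalAlgHom K (fun _ => K) (Δ.tau χ)
  let L : MonoidAlgebra K (Multiplicative M) →ₐ[K] (Tpt K M → K) := AlgHom.pi
    fun χ => MonoidAlgebra.lift K K (Multiplicative M) ((Units.coeHom K).comp χ)
  obtain ⟨P, hP⟩ := (show Δ.R ≤ L.range.comap C from by
    rw [R, regFn, Algebra.adjoin_le_iff]
    rintro _ ⟨(ab | ab), rfl⟩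
    · obtain ⟨P, hP⟩ := Δ.poly_tau ab.1 ab.2
      exact ⟨P, funext fun χ => (hP χ).symm⟩
    · obtain ⟨P, hP⟩ := Δ.poly_tau ab.1 ab.2
      refine ⟨MonoidAlgebra.mapDomainAlgHom K K (invMonoidHom : Multiplicative M →* Multiplicative M) P,
        funext fun χ => ?_⟩
      show MonoidAlgebra.lift K K (Multiplicative M) ((Units.coeHom K).comp χ) _ =
        (Δ.φ₀ (Δ.tau χ)⁻¹ : Mat K Δ.N₀) ab.1 ab.2
      rw [← map_inv, hP, ← AlgHom.comp_apply]
      refine AlgHom.congr_fun (MonoidAlgebra.algHom_ext (fun m => ?_) (AlgHom.ext fun r => ?_)) P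
      · simp
      · simp) hF
  exact ⟨P, fun χ => (congrFun hP χ).symm⟩

/-- a regular function is a polynomial divided by a power of the determinant -/
theorem exists_epoly {F : Γ → K} (hF : F ∈ Δ.R) : ∃ (k : ℕ) (P : EPoly K Δ.N₀),
    ∀ g, F g * (Δ.φ₀ g : Mat K Δ.N₀).det ^ k = evM (Δ.φ₀ g) P := by
  let X := Matrix.mvPolynomialX (Fin Δ.N₀) (Fin Δ.N₀) K
  have hd : ∀ g, evM (Δ.φ₀ g) X.det = (Δ.φ₀ g : Mat K Δ.N₀).det := fun g => by
    rw [AlgHom.map_det]; exact congrArg Matrix.det (H20Conj.map_evM_X _)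
  induction hF using Algebra.adjoin_induction with
  | mem f hf =>
    obtain ⟨(ab | ab), rfl⟩ := hf
    · exact ⟨0, MvPolynomial.X ab, fun g => by simp [coordFn, evM]⟩
    · refine ⟨1, X.adjugate ab.1 ab.2, fun g => ?_⟩
      have h1 : evM (Δ.φ₀ g) (X.adjugate ab.1 ab.2) = (Δ.φ₀ g : Mat K Δ.N₀).adjugate ab.1 ab.2 := by
        have := AlgHom.map_adjugate (evM (Δ.φ₀ g)) X
        rw [show (evM (Δ.φ₀ g)).mapMatrix X = (Δ.φ₀ g : Mat K Δ.N₀) from H20Conj.map_evM_X _] at this
        exact congrFun (congrFun this ab.1) ab.2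
      have h2 : (Δ.φ₀ g : Mat K Δ.N₀).adjugate =
          (Δ.φ₀ g : Mat K Δ.N₀).det • ((Δ.φ₀ g⁻¹ : GLk K Δ.N₀) : Mat K Δ.N₀) := by
        calc (Δ.φ₀ g : Mat K Δ.N₀).adjugate = (Δ.φ₀ g : Mat K Δ.N₀).adjugate *
              ((Δ.φ₀ g : Mat K Δ.N₀) * ((Δ.φ₀ g⁻¹ : GLk K Δ.N₀) : Mat K Δ.N₀)) := by
              rw [← Units.val_mul, ← map_mul, mul_inv_cancel, map_one, Units.val_one, mul_one]
          _ = _ := by rw [← mul_assoc, Matrix.adjugate_mul, Matrix.smul_mul, one_mul]
      rw [h1, h2]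
      simp [coordFn, mul_comm]
  | algebraMap c => exact ⟨0, MvPolynomial.C c, fun g => by simp [evM]⟩
  | add f f' _ _ h h' =>
    obtain ⟨k, P, hP⟩ := h
    obtain ⟨k', P', hP'⟩ := h'
    refine ⟨k + k', P * X.det ^ k' + P' * X.det ^ k, fun g => ?_⟩
    rw [map_add, map_mul, map_mul, map_pow, map_pow, hd, ← hP, ← hP', Pi.add_apply, pow_add]
    ring
  | mul f f' _ _ h h' =>
    obtain ⟨k, P, hP⟩ := h
    obtain ⟨k', P', hP'⟩ := h'
    refine ⟨k + k', P * P', fun g => ?_⟩
    rw [map_mul, ← hP, ← hP', Pi.mul_apply, pow_add]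
    ring

/-- a representation with regular entries -/
def IsRep {N : ℕ} (φ : Γ →* GLk K N) : Prop := ∀ p q, (fun g => (φ g : Mat K N) p q) ∈ Δ.R

variable {N : ℕ} {φ : Γ →* GLk K N}

theorem IsRep.lin_mem (hφ : Δ.IsRep φ) (ψ : Mat K N →ₗ[K] K) : (fun g => ψ (φ g : Mat K N)) ∈ Δ.R := by
  have : (fun g => ψ (φ g : Mat K N)) =
      ∑ p, ∑ q, ψ (Matrix.single p q 1) • fun g => (φ g : Mat K N) p q := by
    funext g
    conv_lhs => rw [Matrix.matrix_eq_sum_single (φ g : Mat K N)]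
    simp only [map_sum, Finset.sum_apply, Pi.smul_apply, smul_eq_mul]
    refine Finset.sum_congr rfl fun p _ => Finset.sum_congr rfl fun q _ => ?_
    rw [show Matrix.single p q ((φ g : Mat K N) p q) = (φ g : Mat K N) p q • Matrix.single p q (1 : K) by simp,
      map_smul, smul_eq_mul, mul_comm]
  rw [this]
  exact Subalgebra.sum_mem _ fun p _ => Subalgebra.sum_mem _ fun q _ => Subalgebra.smul_mem _ (hφ p q) _

theorem IsRep.vec_mem (hφ : Δ.IsRep φ) (ψ : Vec K N →ₗ[K] K) (x : Vec K N) :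
    (fun g => ψ ((φ g : Mat K N) *ᵥ x)) ∈ Δ.R :=
  hφ.lin_mem Δ (ψ ∘ₗ LinearMap.applyₗ x ∘ₗ Matrix.toLin'.toLinearMap)

theorem isRep_φ₀ : Δ.IsRep Δ.φ₀ := Δ.coord_mem

/-- the weight decomposition of a representation -/
structure Wts (φ : Γ →* GLk K N) where
  s : Finset M
  E : M → Mat K N
  tau_eq : ∀ χ, (φ (Δ.tau χ) : Mat K N) = ∑ m ∈ s, evH m χ • E m
  sum_one : ∑ m ∈ s, E m = 1
  out : ∀ m, m ∉ s → E m = 0
  ne : ∀ m ∈ s, E m ≠ 0
  orth : ∀ m m', m ≠ m' → E m * E m' = 0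
  idem : ∀ m, E m * E m = E m

variable [Infinite K] [Module.Finite ℤ M] [Module.Free ℤ M]

theorem exists_wts (hφ : Δ.IsRep φ) : Nonempty (Δ.Wts φ) := by
  classical
  choose P hP using fun p q => Δ.poly_tau' (hφ p q)
  let S : Finset M := Finset.univ.biUnion fun pq : Fin N × Fin N =>
    (P pq.1 pq.2).coeff.support.image Multiplicative.toAdd
  let E : M → Mat K N := fun m => Matrix.of fun p q => (P p q).coeff (Multiplicative.ofAdd m)
  let s := S.filter fun m => E m ≠ 0
  have hout : ∀ m, m ∉ s → E m = 0 := by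
    intro m hm
    by_contra hne
    refine hm (Finset.mem_filter.mpr ⟨?_, hne⟩)
    by_contra hS
    refine hne (Matrix.ext fun p q => ?_)
    by_contra hpq
    exact hS (Finset.mem_biUnion.mpr ⟨(p, q), Finset.mem_univ _,
      Finset.mem_image.mpr ⟨Multiplicative.ofAdd m, Finsupp.mem_support_iff.mpr hpq, rfl⟩⟩)
  have hsum : ∀ χ, (φ (Δ.tau χ) : Mat K N) = ∑ m ∈ s, evH m χ • E m := fun χ => by
    rw [show ∑ m ∈ s, evH m χ • E m = ∑ m ∈ S, evH m χ • E m from
      Finset.sum_subset (Finset.filter_subset _ _) fun m _ hm => by rw [hout m hm, smul_zero]]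
    ext p q
    refine (hP p q χ).trans ((MonoidAlgebra.lift_apply _ _).trans ?_)
    rw [Matrix.sum_apply]
    refine (Finset.sum_subset (Finset.subset_biUnion_of_mem (fun pq : Fin N × Fin N =>
      (P pq.1 pq.2).coeff.support.image Multiplicative.toAdd) (Finset.mem_univ (p, q))) ?_).symm.trans ?_ |>.symm
    · intro m _ hm
      have : (P p q).coeff (Multiplicative.ofAdd m) = 0 := by
        by_contra h
        exact hm (Finset.mem_image.mpr ⟨_, Finsupp.mem_support_iff.mpr h, rfl⟩)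
      simp [E, this]
    · rw [Finset.sum_image fun a _ b _ h => Multiplicative.toAdd.injective h]
      refine Finset.sum_congr rfl fun a _ => ?_
      simp [E, evH, mul_comm]
  have hone : ∑ m ∈ s, E m = 1 := by
    have := hsum 1
    rw [map_one, map_one, Units.val_one] at this
    rw [this]
    refine Finset.sum_congr rfl fun m _ => ?_
    rw [map_one, one_smul]
  have hmul : ∀ χ χ' : Tpt K M, (∑ m ∈ s, evH m χ • E m) * (∑ m ∈ s, evH m χ' • E m) =
      ∑ m ∈ s, evH m χ • (evH m χ' • E m) := fun χ χ' => by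
    rw [← hsum, ← hsum, ← Units.val_mul, ← map_mul, ← map_mul, hsum]
    exact Finset.sum_congr rfl fun m _ => by rw [map_mul, mul_smul]
  have hpair : ∀ m ∈ s, ∀ m' ∈ s, E m * E m' = if m = m' then E m else 0 := by
    intro m hm m' hm'
    have h1 : ∀ χ' : Tpt K M, E m * (∑ m' ∈ s, evH m' χ' • E m') = evH m χ' • E m := fun χ' => by
      refine sub_eq_zero.mp (coeff_eq_zero (K := K) (s := s)
        (c := fun m => E m * (∑ m' ∈ s, evH m' χ' • E m') - evH m χ' • E m) (fun χ => ?_) m hm)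
      simp only [smul_sub, Finset.sum_sub_distrib]
      rw [sub_eq_zero, ← hmul χ χ', Finset.sum_mul]
      simp only [Matrix.smul_mul]
    refine sub_eq_zero.mp (coeff_eq_zero (K := K) (s := s)
      (c := fun m' => E m * E m' - if m = m' then E m else 0) (fun χ' => ?_) m' hm')
    simp only [smul_sub, Finset.sum_sub_distrib, smul_ite, smul_zero, Finset.sum_ite_eq, if_pos hm, sub_eq_zero]
    rw [← h1, Finset.mul_sum]
    simp only [Matrix.mul_smul]
  refine ⟨⟨s, E, hsum, hone, hout, fun m hm => (Finset.mem_filter.mp hm).2, fun m m' hne => ?_, fun m => ?_⟩⟩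
  · by_cases hm : m ∈ s
    · by_cases hm' : m' ∈ s
      · rw [hpair m hm m' hm', if_neg hne]
      · rw [hout m' hm', mul_zero]
    · rw [hout m hm, zero_mul]
  · by_cases hm : m ∈ s
    · rw [hpair m hm m hm, if_pos rfl]
    · rw [hout m hm, zero_mul]

namespace Wts

variable {Δ} (W : Δ.Wts φ)

theorem tau_mul (χ : Tpt K M) (m : M) : (φ (Δ.tau χ) : Mat K N) * W.E m = evH m χ • W.E m := by
  classical
  rw [W.tau_eq, Finset.sum_mul, Finset.sum_eq_single m]
  · rw [Matrix.smul_mul, W.idem]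
  · intro m' _ hne; rw [Matrix.smul_mul, W.orth m' m hne, smul_zero]
  · intro hm; rw [W.out m hm, Matrix.mul_zero]

theorem mul_tau (χ : Tpt K M) (m : M) : W.E m * (φ (Δ.tau χ) : Mat K N) = evH m χ • W.E m := by
  classical
  rw [W.tau_eq, Finset.mul_sum, Finset.sum_eq_single m]
  · rw [Matrix.mul_smul, W.idem]
  · intro m' _ hne; rw [Matrix.mul_smul, W.orth m m' hne.symm, smul_zero]
  · intro hm; rw [W.out m hm, Matrix.zero_mul]

/-- weight vectors are fixed by the projection -/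
theorem tau_mulVec {x : Vec K N} {m : M} (hx : W.E m *ᵥ x = x) (χ : Tpt K M) :
    (φ (Δ.tau χ) : Mat K N) *ᵥ x = evH m χ • x := by
  conv_lhs => rw [← hx]
  rw [Matrix.mulVec_mulVec, W.tau_mul, Matrix.smul_mulVec, hx]

/-- a vector in an eigen space of the torus -/
theorem proj_eigen {x : Vec K N} {m : M} {χ : Tpt K M} {a : K}
    (hx : (φ (Δ.tau χ) : Mat K N) *ᵥ x = a • x) (hne : W.E m *ᵥ x ≠ 0) : evH m χ = a := by
  have h := congrArg (fun z => W.E m *ᵥ z) hx
  simp only [Matrix.mulVec_mulVec, W.mul_tau, Matrix.smul_mulVec, Matrix.mulVec_smul] at h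
  exact smul_left_injective K hne h

theorem sum_proj (x : Vec K N) : ∑ m ∈ W.s, W.E m *ᵥ x = x := by
  rw [← Matrix.sum_mulVec, W.sum_one, Matrix.one_mulVec]

theorem exists_proj_ne {x : Vec K N} (hx : x ≠ 0) : ∃ m ∈ W.s, W.E m *ᵥ x ≠ 0 := by
  by_contra h
  push Not at h
  exact hx ((W.sum_proj x).symm.trans (Finset.sum_eq_zero h))

theorem mem_of_proj_ne {x : Vec K N} {m : M} (h : W.E m *ᵥ x ≠ 0) : m ∈ W.s := by
  by_contra hm
  exact h (by rw [W.out m hm, Matrix.zero_mulVec])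

theorem proj_proj {m m' : M} (x : Vec K N) (h : m ≠ m') : W.E m *ᵥ (W.E m' *ᵥ x) = 0 := by
  rw [Matrix.mulVec_mulVec, W.orth m m' h, Matrix.zero_mulVec]

theorem proj_self (m : M) (x : Vec K N) : W.E m *ᵥ (W.E m *ᵥ x) = W.E m *ᵥ x := by
  rw [Matrix.mulVec_mulVec, W.idem]

/-- an identity of matrices may be checked block by block -/
theorem ext_blocks {A B : Mat K N} (h : ∀ m ∈ W.s, ∀ m' ∈ W.s, W.E m' * A * W.E m = W.E m' * B * W.E m) :
    A = B := by
  have e : ∀ X : Mat K N, X = ∑ m' ∈ W.s, ∑ m ∈ W.s, W.E m' * X * W.E m := fun X => by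
    simp_rw [← Finset.mul_sum, W.sum_one, Matrix.mul_one, ← Finset.sum_mul, W.sum_one, Matrix.one_mul]
  rw [e A, e B]
  exact Finset.sum_congr rfl fun m' hm' => Finset.sum_congr rfl fun m hm => h m hm m' hm'

/-- root homomorphisms raise weights -/
theorem raise (hφ : Δ.IsRep φ) (c : ι) (m m' : M) (x : K) :
    (W.E m' * (φ (Δ.u c x) : Mat K N) * W.E m ≠ 0 → ∃ j : ℕ, m' = m + j • Δ.root c) ∧
      W.E m * (φ (Δ.u c x) : Mat K N) * W.E m = W.E m := by
  classical
  choose P hP using fun p q => Δ.poly_u' (hφ p q) c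
  let d := (Finset.univ.sup fun pq : Fin N × Fin N => (P pq.1 pq.2).natDegree) + 1
  let A : ℕ → Mat K N := fun j => Matrix.of fun p q => (P p q).coeff j
  have hA : ∀ y, (φ (Δ.u c y) : Mat K N) = ∑ j ∈ Finset.range d, y ^ j • A j := fun y => by
    ext p q
    refine (hP p q y).trans ?_
    rw [Matrix.sum_apply, Polynomial.eval_eq_sum_range' (show (P p q).natDegree < d by
      have := Finset.le_sup (f := fun pq : Fin N × Fin N => (P pq.1 pq.2).natDegree) (Finset.mem_univ (p, q))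
      simp only [d] at this ⊢
      omega)]
    exact Finset.sum_congr rfl fun j _ => by simp [A, mul_comm]
  have hA0 : A 0 = 1 := by
    have h0 := hA 0
    rw [Δ.u_zero, map_one, Units.val_one, Finset.sum_range_succ'] at h0
    simpa using h0.symm
  have hc : ∀ (χ : Tpt K M), ∀ j ∈ Finset.range d,
      (φ (Δ.tau χ) : Mat K N) * A j = evH (Δ.root c) χ ^ j • (A j * (φ (Δ.tau χ) : Mat K N)) := by
    intro χ j hj
    ext p q
    have key : ∀ y : K, ∑ i ∈ Finset.range d, y ^ i •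
        ((φ (Δ.tau χ) : Mat K N) * A i - evH (Δ.root c) χ ^ i • (A i * (φ (Δ.tau χ) : Mat K N))) = 0 := fun y => by
      have h1 : (φ (Δ.tau χ) : Mat K N) * (φ (Δ.u c y) : Mat K N) =
          (φ (Δ.u c (evH (Δ.root c) χ * y)) : Mat K N) * (φ (Δ.tau χ) : Mat K N) := by
        rw [← Units.val_mul, ← Units.val_mul, ← map_mul, ← map_mul, ← Δ.conj, inv_mul_cancel_right]
      rw [hA, hA, Finset.mul_sum, Finset.sum_mul, ← sub_eq_zero, ← Finset.sum_sub_distrib] at h1
      refine Eq.trans (Finset.sum_congr rfl fun i _ => ?_) h1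
      rw [smul_sub, Matrix.mul_smul, Matrix.smul_mul, mul_pow, mul_smul, smul_comm]
    have hpol : (∑ i ∈ Finset.range d, Polynomial.C (((φ (Δ.tau χ) : Mat K N) * A i -
        evH (Δ.root c) χ ^ i • (A i * (φ (Δ.tau χ) : Mat K N))) p q) * Polynomial.X ^ i : Polynomial K) = 0 := by
      refine Polynomial.eq_zero_of_infinite_isRoot _ (Set.infinite_univ.mono fun y _ => ?_)
      have := congrFun (congrFun (key y) p) q
      simpa [Polynomial.eval_finsetSum, Matrix.sum_apply, mul_comm, Polynomial.IsRoot] using this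
    have hj' := congrArg (fun r : Polynomial K => r.coeff j) hpol
    simp only [Polynomial.finsetSum_coeff, Polynomial.coeff_C_mul_X_pow, Polynomial.coeff_zero] at hj'
    rw [Finset.sum_ite_eq, if_pos hj, Matrix.sub_apply, sub_eq_zero] at hj'
    exact hj'
  have hblock : ∀ m m' : M, ∀ j ∈ Finset.range d, m' ≠ m + j • Δ.root c → W.E m' * A j * W.E m = 0 := by
    intro m m' j hj hne
    obtain ⟨χ, hχ⟩ := DFunLike.ne_iff.mp ((evH_injective (K := K)).ne hne)
    have h := congrArg (fun X => W.E m' * X * W.E m) (hc χ j hj)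
    have e1 : W.E m' * ((φ (Δ.tau χ) : Mat K N) * A j) * W.E m = evH m' χ • (W.E m' * A j * W.E m) := by
      rw [← mul_assoc (W.E m'), W.mul_tau, Matrix.smul_mul, Matrix.smul_mul]
    have e2 : W.E m' * (evH (Δ.root c) χ ^ j • (A j * (φ (Δ.tau χ) : Mat K N))) * W.E m =
        evH (m + j • Δ.root c) χ • (W.E m' * A j * W.E m) := by
      rw [Matrix.mul_smul, Matrix.smul_mul, ← mul_assoc, mul_assoc _ _ (W.E m), W.tau_mul, Matrix.mul_smul,
        smul_smul, evH_add, evH_nsmul, mul_comm]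
    rw [e1, e2, ← sub_eq_zero, ← sub_smul] at h
    exact (smul_eq_zero.mp h).resolve_left (sub_ne_zero.mpr hχ)
  constructor
  · intro hne
    by_contra hj
    push Not at hj
    refine hne ?_
    rw [hA, Finset.mul_sum, Finset.sum_mul]
    exact Finset.sum_eq_zero fun j hj' => by rw [Matrix.mul_smul, Matrix.smul_mul, hblock m m' j hj' (hj j), smul_zero]
  · have hc0 := Δ.root_ne c
    haveI : IsAddTorsionFree M := .of_isTorsionFree ℤ M
    rw [hA, Finset.mul_sum, Finset.sum_mul, Finset.sum_eq_single_of_mem 0 (by simp [d])]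
    · rw [pow_zero, one_smul, hA0, Matrix.mul_one, W.idem]
    · intro j hj hj0
      rw [Matrix.mul_smul, Matrix.smul_mul, hblock m m j hj ?_, smul_zero]
      intro h
      exact hc0 ((nsmul_eq_zero_iff_right (M := M) hj0).mp (by simpa using h))

end Wts

end Data

end Groth.Agent.H21Red0
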