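import Groth.Agent.H21Split.Red0.Move

/-!
Extremal weights of a simple representation: their weight spaces are lines, they are the weights of the weight
vectors of the closed orbit, and they detect triviality of polynomial curves in the group.
-/

universe u v

set_option linter.unusedSectionVars false
set_option linter.style.haveILetI false

noncomputable section

open scoped Matrix
open H20Conj (GLk Mat Vec IsLaurent coneIdeal zSet)

namespace Groth.Agent.H21Red0

variable {K : Type u} [Field K] {M : Type} [AddCommGroup M] {Γ : Type v} [Group Γ] {ι : Type}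

/-- no invariant subspaces -/
def IsSimple {N : ℕ} (φ : Γ →* GLk K N) : Prop :=
  ∀ X : Submodule K (Vec K N), (∀ g, H20Conj.Stab X (φ g)) → X = ⊥ ∨ X = ⊤

/-- the closed cone of an orbit -/
def Cone {N : ℕ} (φ : Γ →* GLk K N) (S : Subgroup Γ) (v : Vec K N) : Set (Vec K N) :=
  zSet (coneIdeal (S.map φ) ⊥ v)

variable {N : ℕ} {φ : Γ →* GLk K N}

section

variable [IsAlgClosed K]

theorem stab_bot (g : GLk K N) : H20Conj.Stab (⊥ : Submodule K (Vec K N)) g := fun v hv => by
  rw [Submodule.mem_bot] at hv ⊢; rw [hv, Matrix.mulVec_zero]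

theorem mem_cone_self (S : Subgroup Γ) (v : Vec K N) : v ∈ Cone φ S v := H20Conj.mem_zSet_self v

theorem act_mem_cone {S : Subgroup Γ} {v x : Vec K N} {g : Γ} (hg : g ∈ S) (hx : x ∈ Cone φ S v) (c : Kˣ) :
    (c : K) • ((φ g : Mat K N) *ᵥ x) ∈ Cone φ S v := by
  have := H20Conj.coneInv_coneIdeal (fun h _ => stab_bot h) v (φ g) (Subgroup.mem_map_of_mem φ hg) c 0 (zero_mem _) x hx
  rwa [add_zero] at this

theorem cone_subset {S : Subgroup Γ} {v x : Vec K N} (hx : x ∈ Cone φ S v) : Cone φ S x ⊆ Cone φ S v :=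
  fun _ hy f hf => hy f (H20Conj.coneIdeal_le (fun h _ => stab_bot h) hx hf)

theorem coneIdeal_eq {S : Subgroup Γ} {v x : Vec K N} (hx : x ∈ Cone φ S v) (hv : v ∈ Cone φ S x) :
    coneIdeal (S.map φ) ⊥ x = coneIdeal (S.map φ) ⊥ v :=
  le_antisymm (H20Conj.coneIdeal_le (fun h _ => stab_bot h) hv) (H20Conj.coneIdeal_le (fun h _ => stab_bot h) hx)

theorem cone_mono {S S' : Subgroup Γ} (h : S ≤ S') (v : Vec K N) : Cone φ S v ⊆ Cone φ S' v :=
  fun _ hy f hf => hy f (H20Conj.mem_coneIdeal.mpr fun _ ⟨s, hs, e⟩ c w hw =>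
    H20Conj.mem_coneIdeal.mp hf _ ⟨s, h hs, e⟩ c w hw)

/-- a linear form vanishing on an orbit vanishes on its cone -/
theorem cone_linear {S : Subgroup Γ} {v x : Vec K N} (ψ : Vec K N →ₗ[K] K)
    (h : ∀ s ∈ S, ψ ((φ s : Mat K N) *ᵥ v) = 0) (hx : x ∈ Cone φ S v) : ψ x = 0 := by
  classical
  let f : MvPolynomial (Fin N) K := ∑ a, MvPolynomial.C (ψ (Pi.single a 1)) * MvPolynomial.X a
  have hf : ∀ z, MvPolynomial.eval z f = ψ z := fun z => by
    conv_rhs => rw [pi_eq_sum_univ' z]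
    simp [f, map_sum, mul_comm]
  rw [← hf]
  refine hx f (H20Conj.mem_coneIdeal.mpr ?_)
  rintro _ ⟨s, hs, rfl⟩ c w hw
  rw [(Submodule.mem_bot K).mp hw, add_zero, hf, map_smul, h s hs, smul_zero]

/-- limits of polynomial curves stay in a cone -/
theorem limit_mem_cone {S : Subgroup Γ} {v : Vec K N} (q : Fin N → Polynomial K)
    (h : ∀ t : Kˣ, (fun a => (q a).eval (t : K)) ∈ Cone φ S v) : (fun a => (q a).eval 0) ∈ Cone φ S v := by
  intro f hf
  have h0 : MvPolynomial.aeval q f = 0 := by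
    refine Polynomial.eq_zero_of_infinite_isRoot _
      (Set.Infinite.mono (fun x hx => ?_) (Set.finite_singleton (0 : K)).infinite_compl)
    rw [Set.mem_ofPred_eq, Polynomial.IsRoot, H20Conj.eval_aeval_poly]
    exact h (Units.mk0 x hx) f hf
  rw [← H20Conj.eval_aeval_poly, h0, Polynomial.eval_zero]

theorem zero_mem_cone {S : Subgroup Γ} {v x : Vec K N} (hx : x ∈ Cone φ S v) : (0 : Vec K N) ∈ Cone φ S v := by
  have h0 := limit_mem_cone (φ := φ) (S := S) (v := v) (fun a => Polynomial.C (x a) * Polynomial.X) fun t => by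
    have := act_mem_cone (one_mem S) hx t
    convert this using 1
    funext a
    rw [map_one, Units.val_one, Matrix.one_mulVec, Pi.smul_apply, Polynomial.eval_mul, Polynomial.eval_C,
      Polynomial.eval_X, smul_eq_mul, mul_comm]
  convert h0 using 1
  funext a
  rw [Polynomial.eval_mul, Polynomial.eval_X, mul_zero]
  rfl

end

namespace Data

variable {Δ : Data K M Γ ι}

/-- the unique maximum of a functional among the weights -/
def Wts.IsTop (W : Δ.Wts φ) (η : M →+ ℤ) (μ : M) : Prop := μ ∈ W.s ∧ ∀ m ∈ W.s, m ≠ μ → η m < η μ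

/-- extremal weights -/
def Wts.IsExt (W : Δ.Wts φ) (μ : M) : Prop := ∃ η, W.IsTop η μ

variable [IsAlgClosed K] [Module.Finite ℤ M] [Module.Free ℤ M] [Finite ι]

namespace Wts

variable (W : Δ.Wts φ)

theorem exists_good (η : M →+ ℤ) : ∃ η' : M →+ ℤ, (∀ c, η' (Δ.root c) ≠ 0) ∧
    (∀ m ∈ W.s, ∀ m' ∈ W.s, η' m = η' m' → m = m') ∧ (∀ μ, W.IsTop η μ → W.IsTop η' μ) ∧
    (∀ c, 0 < η (Δ.root c) → 0 < η' (Δ.root c)) ∧ ∀ c, η (Δ.root c) < 0 → η' (Δ.root c) < 0 := by
  classical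
  let v : ι ⊕ (W.s × W.s) → M := Sum.elim Δ.root fun p => (p.1 : M) - p.2
  obtain ⟨ψ, hψ⟩ := H21Split.exists_dual_ne_zero v
  haveI := Fintype.ofFinite (ι ⊕ (W.s × W.s))
  let B : ℤ := 1 + ∑ k, |ψ (v k)|
  have hB : ∀ k, |ψ (v k)| < B := fun k => by
    have := Finset.single_le_sum (f := fun k => |ψ (v k)|) (fun k _ => abs_nonneg _) (Finset.mem_univ k)
    simp only [B]; omega
  have key : ∀ (k : ι ⊕ (W.s × W.s)), 0 < η (v k) → 0 < B * η (v k) + ψ (v k) := fun k hk => by
    have := abs_lt.mp (hB k); nlinarith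
  have key' : ∀ (k : ι ⊕ (W.s × W.s)), η (v k) < 0 → B * η (v k) + ψ (v k) < 0 := fun k hk => by
    have := abs_lt.mp (hB k); nlinarith
  have hne : ∀ k, v k ≠ 0 → B * η (v k) + ψ (v k) ≠ 0 := fun k hk => by
    rcases lt_trichotomy (η (v k)) 0 with h | h | h
    · exact (key' k h).ne
    · rw [h, mul_zero, zero_add]; exact hψ k hk
    · exact (key k h).ne'
  refine ⟨B • η + ψ, fun c => hne (Sum.inl c) (Δ.root_ne c), fun m hm m' hm' e => ?_, fun μ hμ => ⟨hμ.1, fun m hm hm0 => ?_⟩,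
    fun c hc => key (Sum.inl c) hc, fun c hc => key' (Sum.inl c) hc⟩
  · by_contra h
    refine hne (Sum.inr (⟨m, hm⟩, ⟨m', hm'⟩)) (sub_ne_zero.mpr h) ?_
    simp only [v, Sum.elim_inr, map_sub]
    simp only [AddMonoidHom.add_apply, AddMonoidHom.smul_apply, smul_eq_mul] at e
    linarith
  · have := key' (Sum.inr (⟨m, hm⟩, ⟨μ, hμ.1⟩)) (by
      simp only [v, Sum.elim_inr, map_sub]; linarith [hμ.2 m hm hm0])
    simp only [v, Sum.elim_inr, map_sub] at this
    simp only [AddMonoidHom.add_apply, AddMonoidHom.smul_apply, smul_eq_mul]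
    linarith

theorem IsTop.eq_of_le {W : Δ.Wts φ} {η : M →+ ℤ} {μ m : M} (h : W.IsTop η μ) (hm : m ∈ W.s)
    (hle : η μ ≤ η m) : m = μ := by
  by_contra hne
  exact absurd (h.2 m hm hne) (not_lt.mpr hle)

/-- the unique maximal weight vector is fixed by the positive root groups -/
theorem top_fix (hφ : Δ.IsRep φ) {η : M →+ ℤ} {μ : M} (h : W.IsTop η μ) {g : Γ} (hg : g ∈ Δ.Pos η) :
    (φ g : Mat K N) * W.E μ = W.E μ := by
  classical
  conv_lhs => rw [← Matrix.one_mul (φ g : Mat K N), ← W.sum_one, Finset.sum_mul, Finset.sum_mul]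
  rw [Finset.sum_eq_single μ]
  · exact (W.isUp_of_mem hφ hg).2 μ
  · intro m hm hne
    exact (W.isUp_of_mem hφ hg).1 μ m hne (h.2 m hm hne).le
  · intro hm; exact absurd h.1 hm

/-- the coordinate of the unique maximal weight is invariant under the negative root groups -/
theorem top_cofix (hφ : Δ.IsRep φ) {η : M →+ ℤ} {μ : M} (h : W.IsTop η μ) {g : Γ} (hg : g ∈ Δ.Pos (-η)) :
    W.E μ * (φ g : Mat K N) = W.E μ := by
  classical
  conv_lhs => rw [← Matrix.mul_one (φ g : Mat K N), ← W.sum_one, Finset.mul_sum, Finset.mul_sum]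
  rw [Finset.sum_eq_single μ]
  · rw [← mul_assoc]; exact (W.isUp_of_mem hφ hg).2 μ
  · intro m hm hne
    rw [← mul_assoc]
    refine (W.isUp_of_mem hφ hg).1 m μ (Ne.symm hne) ?_
    simp only [AddMonoidHom.neg_apply, neg_le_neg_iff]
    exact (h.2 m hm hne).le
  · intro hm; exact absurd h.1 hm

theorem span_orbit (hs : IsSimple φ) {x : Vec K N} (hx : x ≠ 0) :
    Submodule.span K (Set.range fun g => (φ g : Mat K N) *ᵥ x) = ⊤ := by
  refine (hs _ fun g => ?_).resolve_left fun h => hx ?_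
  · intro z hz
    have hle : Submodule.span K (Set.range fun g => (φ g : Mat K N) *ᵥ x) ≤
        (Submodule.span K (Set.range fun g => (φ g : Mat K N) *ᵥ x)).comap (φ g : Mat K N).mulVecLin := by
      rw [Submodule.span_le]
      rintro _ ⟨g', rfl⟩
      refine Submodule.subset_span ⟨g * g', ?_⟩
      simp [Matrix.mulVec_mulVec]
    exact hle hz
  · rw [← Submodule.mem_bot K, ← h]
    exact Submodule.subset_span ⟨1, by simp⟩

theorem exists_orbit_ne (hs : IsSimple φ) {x : Vec K N} (hx : x ≠ 0) {ψ : Vec K N →ₗ[K] K} (hψ : ψ ≠ 0) :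
    ∃ g, ψ ((φ g : Mat K N) *ᵥ x) ≠ 0 := by
  by_contra h
  push Not at h
  refine hψ (LinearMap.ext fun z => ?_)
  have hle : (⊤ : Submodule K (Vec K N)) ≤ LinearMap.ker ψ := by
    rw [← span_orbit hs hx, Submodule.span_le]
    rintro _ ⟨g, rfl⟩
    exact h g
  exact hle trivial

/-- the extremal weight spaces are lines -/
theorem exists_smul (hφ : Δ.IsRep φ) (hs : IsSimple φ) {μ : M} (h : W.IsExt μ) {x y : Vec K N}
    (hx : W.E μ *ᵥ x = x) (hy : W.E μ *ᵥ y = y) (hx0 : x ≠ 0) : ∃ a : K, y = a • x := by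
  obtain ⟨η, hη⟩ := h
  obtain ⟨η', hreg, -, htop, -, -⟩ := W.exists_good η
  have hμ := htop μ hη
  suffices y ∈ Submodule.span K {x} by
    obtain ⟨a, ha⟩ := Submodule.mem_span_singleton.mp this
    exact ⟨a, ha.symm⟩
  refine H20Conj.mem_of_forall_dual _ fun ψ hψ => ?_
  by_contra hne
  obtain ⟨g, hg⟩ := exists_orbit_ne hs hx0 (ψ := ψ.comp (W.E μ).mulVecLin) fun h0 => hne (by
    have := LinearMap.congr_fun h0 y
    simpa [hy] using this)
  refine hg ?_
  have hF := Δ.dense η' hreg (fun g => (ψ.comp (W.E μ).mulVecLin) ((φ g : Mat K N) *ᵥ x)) (hφ.vec_mem Δ _ x)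
    (fun v hv χ w hw => by
      rw [Δ.closure_neg] at hv
      simp only [LinearMap.comp_apply, Matrix.mulVecLin_apply, map_mul, Units.val_mul]
      rw [Matrix.mulVec_mulVec, ← mul_assoc, ← mul_assoc, W.top_cofix hφ hμ hv, W.mul_tau, Matrix.smul_mul,
        Matrix.smul_mulVec, map_smul]
      have : (W.E μ * (φ w : Mat K N)) *ᵥ x = x := by
        conv_lhs => rw [← hx]
        rw [Matrix.mulVec_mulVec, mul_assoc, W.top_fix hφ hμ hw, W.idem, hx]
      rw [this, hψ x (Submodule.mem_span_singleton_self x), smul_zero])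
  exact congrFun hF g

/-- the maximal component of a vector of a torus invariant cone belongs to the cone -/
theorem top_mem {S : Subgroup Γ} (hT : ∀ χ, Δ.tau χ ∈ S) {v x : Vec K N} (hx : x ∈ Cone φ S v) (η : M →+ ℤ)
    {μ : M} (h : ∀ m ∈ W.s, m ≠ μ → W.E m *ᵥ x ≠ 0 → η m < η μ) : W.E μ *ᵥ x ∈ Cone φ S v := by
  classical
  by_cases hμ : μ ∈ W.s
  swap
  · rw [W.out μ hμ, Matrix.zero_mulVec]
    exact zero_mem_cone hx
  let q : Fin N → Polynomial K := fun a =>
    ∑ m ∈ W.s, Polynomial.C ((W.E m *ᵥ x) a) * Polynomial.X ^ (η μ - η m).toNat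
  have h0 := limit_mem_cone (φ := φ) (S := S) (v := v) q fun t => by
    have := act_mem_cone (hT (cch η t⁻¹)) hx (t ^ η μ)
    convert this using 1
    funext a
    simp only [q, Polynomial.eval_finsetSum, Polynomial.eval_mul, Polynomial.eval_C, Polynomial.eval_pow,
      Polynomial.eval_X, W.tau_eq, Matrix.sum_mulVec, Matrix.smul_mulVec,
      Finset.sum_apply, Pi.smul_apply, smul_eq_mul, Finset.mul_sum]
    refine Finset.sum_congr rfl fun m hm => ?_
    by_cases hz : W.E m *ᵥ x = 0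
    · rw [hz]; simp
    have hle : η m ≤ η μ := by
      by_cases he : m = μ
      · rw [he]
      · exact (h m hm he hz).le
    rw [evH_cch, ← Units.val_pow_eq_pow_val, ← zpow_natCast, Int.toNat_of_nonneg (by omega), inv_zpow',
      sub_eq_add_neg, zpow_add, Units.val_mul]
    ring
  convert h0 using 1
  funext a
  simp only [q, Polynomial.eval_finsetSum]
  rw [Finset.sum_eq_single_of_mem μ hμ]
  · simp
  · intro m hm hne
    by_cases hz : W.E m *ᵥ x = 0
    · rw [hz]; simp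
    · have := h m hm hne hz
      rw [Polynomial.eval_mul, Polynomial.eval_pow, Polynomial.eval_X, zero_pow (by omega), mul_zero]

/-- an extremal weight vector lies in every nonzero invariant cone -/
theorem ext_mem_cone (hφ : Δ.IsRep φ) (hs : IsSimple φ) {μ : M} (h : W.IsExt μ) {v x : Vec K N}
    (hv : W.E μ *ᵥ v = v) (hx : x ≠ 0) : v ∈ Cone φ (⊤ : Subgroup Γ) x := by
  by_cases hv0 : v = 0
  · subst hv0
    exact zero_mem_cone (mem_cone_self _ x)
  obtain ⟨ψ, hψ⟩ := Module.Projective.exists_dual_ne_zero K hv0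
  obtain ⟨g, hg⟩ := exists_orbit_ne hs hx (ψ := ψ.comp (W.E μ).mulVecLin) fun h0 => hψ (by
    have := LinearMap.congr_fun h0 v
    simpa [hv] using this)
  have hne : W.E μ *ᵥ ((φ g : Mat K N) *ᵥ x) ≠ 0 := fun h0 => hg (by simp [h0])
  obtain ⟨η, hη⟩ := h
  have hmem := W.top_mem (fun _ => Subgroup.mem_top _) (act_mem_cone (Subgroup.mem_top g) (mem_cone_self (φ := φ) ⊤ x) 1) η
    fun m hm he _ => hη.2 m hm he
  rw [Units.val_one, one_smul] at hmem
  obtain ⟨a, ha⟩ := W.exists_smul hφ hs ⟨η, hη⟩ (W.proj_self μ _) hv hne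
  have ha0 : a ≠ 0 := by rintro rfl; exact hv0 (by rw [ha, zero_smul])
  have := act_mem_cone (one_mem (⊤ : Subgroup Γ)) hmem (Units.mk0 a ha0)
  rw [map_one, Units.val_one, Matrix.one_mulVec, Units.val_mk0, ← ha] at this
  exact this

/-- the weight of an eigen vector of a one-parameter subgroup -/
theorem eigen_comp {η : M →+ ℤ} {y : Vec K N} {k : ℤ}
    (hy : ∀ t : Kˣ, (φ (Δ.tau (cch η t)) : Mat K N) *ᵥ y = ((t ^ k : Kˣ) : K) • y) {m : M}
    (hm : W.E m *ᵥ y ≠ 0) : η m = k :=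
  zpow_inj (K := K) fun t => Units.ext ((evH_cch η t m).symm.trans (W.proj_eigen (hy t) hm))

/-- the stabiliser of a line -/
def lineStab (φ : Γ →* GLk K N) (q : Vec K N) : Subgroup Γ := (H20Conj.stabSub (Submodule.span K {q})).comap φ

theorem mem_lineStab {q : Vec K N} {g : Γ} :
    g ∈ lineStab φ q ↔ (φ g : Mat K N) *ᵥ q ∈ Submodule.span K {q} := by
  refine ⟨fun h => h q (Submodule.mem_span_singleton_self q), fun h z hz => ?_⟩
  obtain ⟨a, rfl⟩ := Submodule.mem_span_singleton.mp hz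
  rw [Matrix.mulVec_smul]
  exact Submodule.smul_mem _ a h

theorem isRClosed_lineStab (hφ : Δ.IsRep φ) (q : Vec K N) : Δ.IsRClosed (lineStab φ q : Set Γ) := by
  intro g hg
  refine mem_lineStab.mpr (H20Conj.mem_of_forall_dual _ fun ψ hψ => ?_)
  exact hg (fun g => ψ ((φ g : Mat K N) *ᵥ q)) (hφ.vec_mem Δ ψ q) fun s hs => hψ _ (mem_lineStab.mp hs)

theorem tau_mem_lineStab {q : Vec K N} {μ : M} (hq : W.E μ *ᵥ q = q) (χ : Tpt K M) : Δ.tau χ ∈ lineStab φ q :=
  mem_lineStab.mpr (by rw [W.tau_mulVec hq]; exact Submodule.smul_mem _ _ (Submodule.mem_span_singleton_self q))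

/-- weight vectors of the orbit cone have extremal weights -/
theorem ext_of_mem (hφ : Δ.IsRep φ) (hs : IsSimple φ) {μ ν : M} (h : W.IsExt μ) {v q : Vec K N}
    (hv : W.E μ *ᵥ v = v) (hv0 : v ≠ 0) (hq : q ∈ Cone φ (⊤ : Subgroup Γ) v) (hqν : W.E ν *ᵥ q = q)
    (hq0 : q ≠ 0) : W.IsExt ν := by
  obtain ⟨η, hη⟩ := h
  obtain ⟨g, -, c, hg⟩ := Δ.exists_move hφ Δ.isRClosed_top
    (coneIdeal_eq hq (W.ext_mem_cone hφ hs ⟨η, hη⟩ hv hq0))
  have hgi : (φ g⁻¹ : Mat K N) *ᵥ v = ((c⁻¹ : Kˣ) : K) • q := by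
    have := congrArg (fun z => ((c⁻¹ : Kˣ) : K) • ((φ g⁻¹ : Mat K N) *ᵥ z)) hg
    simp only [Matrix.mulVec_smul, Matrix.mulVec_mulVec, smul_smul, ← Units.val_mul, inv_mul_cancel, Units.val_one,
      one_smul, ← map_mul, map_one, Matrix.one_mulVec] at this
    exact this.symm
  obtain ⟨u, hu, hc⟩ := Δ.exists_conj_tau (isRClosed_lineStab hφ q) (W.tau_mem_lineStab hqν) g⁻¹ η fun t =>
    mem_lineStab.mpr (by
      rw [inv_inv, map_mul, map_mul, Units.val_mul, Units.val_mul, ← Matrix.mulVec_mulVec, hg, Matrix.mulVec_smul,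
        ← Matrix.mulVec_mulVec, W.tau_mulVec hv, Matrix.mulVec_smul, hgi, smul_smul, smul_smul]
      exact Submodule.smul_mem _ _ (Submodule.mem_span_singleton_self q))
  obtain ⟨p, η', hp, hn⟩ := Δ.exists_transport hc
  obtain ⟨b, hb⟩ := Submodule.mem_span_singleton.mp (mem_lineStab.mp hu)
  let n := u * g⁻¹
  have hnv : (φ n : Mat K N) *ᵥ v = (((c⁻¹ : Kˣ) : K) * b) • q := by
    rw [map_mul, Units.val_mul, ← Matrix.mulVec_mulVec, hgi, Matrix.mulVec_smul, ← hb, smul_smul]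
  have hnv0 : (φ n : Mat K N) *ᵥ v ≠ 0 := fun h0 => hv0 (by
    have := congrArg (fun z => (φ n⁻¹ : Mat K N) *ᵥ z) h0
    simpa [Matrix.mulVec_mulVec] using this)
  have hab : ((c⁻¹ : Kˣ) : K) * b ≠ 0 := fun h0 => hnv0 (by rw [hnv, h0, zero_smul])
  have hE : ∀ (t : Kˣ) (z : Vec K N), (φ (Δ.tau (cch η' t)) : Mat K N) *ᵥ ((φ n : Mat K N) *ᵥ z) =
      (φ n : Mat K N) *ᵥ ((φ (Δ.tau (cch (p • η) t)) : Mat K N) *ᵥ z) := fun t z => by
    rw [Matrix.mulVec_mulVec, Matrix.mulVec_mulVec, ← Units.val_mul, ← Units.val_mul, ← map_mul, ← map_mul, ← hn t]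
  have hν : η' ν = (p • η) μ := by
    refine W.eigen_comp (y := q) (fun t => ?_) (by rw [hqν]; exact hq0)
    have := hE t v
    rw [W.tau_mulVec hv, Matrix.mulVec_smul, hnv, Matrix.mulVec_smul, evH_cch, smul_comm] at this
    exact smul_right_injective _ hab this
  refine ⟨η', W.mem_of_proj_ne (by rw [hqν]; exact hq0), fun m hm hne => ?_⟩
  by_contra hle
  push Not at hle
  obtain ⟨z, hz⟩ : ∃ z, W.E m *ᵥ z ≠ 0 := by
    by_contra h0
    push Not at h0
    exact W.ne m hm (Matrix.ext_iff_mulVec.mpr fun z => by rw [h0, Matrix.zero_mulVec])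
  let x := W.E m *ᵥ z
  let y := (φ n⁻¹ : Mat K N) *ᵥ x
  have hny : (φ n : Mat K N) *ᵥ y = x := by simp [y, Matrix.mulVec_mulVec]
  have hy : ∀ t : Kˣ, (φ (Δ.tau (cch (p • η) t)) : Mat K N) *ᵥ y = ((t ^ η' m : Kˣ) : K) • y := fun t => by
    have h1 := hE t y
    rw [hny, W.tau_mulVec (W.proj_self m z), evH_cch] at h1
    have h2 := congrArg (fun w => (φ n⁻¹ : Mat K N) *ᵥ w) h1
    simp only [Matrix.mulVec_smul, Matrix.mulVec_mulVec _ (φ n⁻¹ : Mat K N) (φ n : Mat K N)] at h2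
    rw [← Units.val_mul, ← map_mul, inv_mul_cancel, map_one, Units.val_one, Matrix.one_mulVec] at h2
    exact h2.symm
  have hsupp : ∀ k ∈ W.s, W.E k *ᵥ y ≠ 0 → k = μ := fun k hk hky => by
    refine hη.eq_of_le hk ?_
    have := W.eigen_comp hy hky
    rw [hν, AddMonoidHom.smul_apply, nsmul_eq_mul] at hle
    rw [AddMonoidHom.smul_apply, nsmul_eq_mul] at this
    have hp' : (0 : ℤ) < p := by exact_mod_cast hp
    nlinarith
  have hyμ : W.E μ *ᵥ y = y := by
    classical
    conv_rhs => rw [← W.sum_proj y]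
    rw [Finset.sum_eq_single_of_mem μ hη.1]
    intro k hk hkμ
    by_contra hky
    exact hkμ (hsupp k hk hky)
  obtain ⟨a, ha⟩ := W.exists_smul hφ hs ⟨η, hη⟩ hv hyμ hv0
  have hxq : x = (a * (((c⁻¹ : Kˣ) : K) * b)) • q := by rw [← hny, ha, Matrix.mulVec_smul, hnv, smul_smul]
  apply hz
  rw [← W.proj_self m z, show W.E m *ᵥ z = x from rfl, hxq, Matrix.mulVec_smul, ← hqν,
    W.proj_proj q hne, smul_zero]

/-- some extremal component of a nonzero vector of the orbit cone is nonzero -/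
theorem cover (hφ : Δ.IsRep φ) (hs : IsSimple φ) {μ : M} (h : W.IsExt μ) {v x : Vec K N}
    (hv : W.E μ *ᵥ v = v) (hv0 : v ≠ 0) (hx : x ∈ Cone φ (⊤ : Subgroup Γ) v) (hx0 : x ≠ 0) :
    ∃ ν, W.IsExt ν ∧ W.E ν *ᵥ x ≠ 0 := by
  classical
  obtain ⟨η, -, hinj, -, -, -⟩ := W.exists_good 0
  obtain ⟨m₀, hm₀, hm₀'⟩ := W.exists_proj_ne hx0
  obtain ⟨ν, hν, hmax⟩ := (W.s.filter fun m => W.E m *ᵥ x ≠ 0).exists_max_image η
    ⟨m₀, Finset.mem_filter.mpr ⟨hm₀, hm₀'⟩⟩
  rw [Finset.mem_filter] at hν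
  refine ⟨ν, W.ext_of_mem hφ hs h hv hv0 (W.top_mem (fun _ => Subgroup.mem_top _) hx η fun m hm hne hz => ?_) (W.proj_self ν x)
    hν.2, hν.2⟩
  exact lt_of_le_of_ne (hmax m (Finset.mem_filter.mpr ⟨hm, hz⟩)) fun e => hne (hinj m hm ν hν.1 e)

theorem exists_ext [NeZero N] : ∃ μ, W.IsExt μ := by
  classical
  obtain ⟨η, -, hinj, -, -, -⟩ := W.exists_good 0
  have hne : W.s.Nonempty := by
    by_contra h
    rw [Finset.not_nonempty_iff_eq_empty] at h
    have := W.sum_one
    rw [h, Finset.sum_empty] at this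
    exact one_ne_zero (congrFun (congrFun this 0) 0).symm
  obtain ⟨μ, hμ, hmax⟩ := W.s.exists_max_image η hne
  exact ⟨μ, η, hμ, fun m hm hne => lt_of_le_of_ne (hmax m hm) fun e => hne (hinj m hm μ hμ e)⟩

theorem exists_vec {μ : M} (h : W.IsExt μ) : ∃ v : Vec K N, W.E μ *ᵥ v = v ∧ v ≠ 0 := by
  obtain ⟨η, hη⟩ := h
  obtain ⟨z, hz⟩ : ∃ z, W.E μ *ᵥ z ≠ 0 := by
    by_contra h0
    push Not at h0
    exact W.ne μ hη.1 (Matrix.ext_iff_mulVec.mpr fun z => by rw [h0, Matrix.zero_mulVec])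
  exact ⟨_, W.proj_self μ z, hz⟩

/-- at most two extremal weights lie on a line -/
theorem eq_or_eq_of_online {a μ μ' m : M} (ha : a ≠ 0) (hμ : W.IsExt μ) (hμ' : W.IsExt μ') (hm : W.IsExt m)
    (h' : ∀ η : M →+ ℤ, η a = 0 → η μ' = η μ) (h : ∀ η : M →+ ℤ, η a = 0 → η m = η μ) (hne : μ' ≠ μ) :
    m = μ ∨ m = μ' := by
  obtain ⟨f, hf⟩ := H21Split.exists_dual_ne_zero (fun _ : Unit => a)
  have hfa : f a ≠ 0 := hf () ha
  have key : ∀ x y : M, (∀ η : M →+ ℤ, η a = 0 → η x = η y) → ∀ η : M →+ ℤ,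
      f a * (η x - η y) = η a * (f x - f y) := fun x y hxy η => by
    have := hxy (f a • η - η a • f) (by simp; ring)
    simp only [AddMonoidHom.sub_apply, AddMonoidHom.smul_apply, smul_eq_mul] at this
    linarith
  have hsep : ∀ x y : M, (∀ η : M →+ ℤ, η a = 0 → η x = η y) → f x = f y → x = y := fun x y hxy hfxy => by
    by_contra hne'
    obtain ⟨η, hη⟩ := H21Split.exists_dual_ne_zero (fun _ : Unit => x - y)
    refine hη () (sub_ne_zero.mpr hne') ?_
    have := key x y hxy η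
    rw [hfxy, sub_self, mul_zero] at this
    rw [map_sub]
    exact (mul_eq_zero.mp this).resolve_left hfa
  have mid : ∀ x y z : M, W.IsExt y → x ∈ W.s → z ∈ W.s → (∀ η : M →+ ℤ, η a = 0 → η x = η y) →
      (∀ η : M →+ ℤ, η a = 0 → η z = η y) → f x < f y → f y < f z → False := by
    rintro x y z ⟨η, hy⟩ hx hz hxy hzy h1 h2
    have e1 := key x y hxy η
    have e2 := key z y hzy η
    have l1 := hy.2 x hx (by rintro rfl; omega)
    have l2 := hy.2 z hz (by rintro rfl; omega)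
    rcases lt_or_gt_of_ne hfa with hs | hs
    · rcases le_or_gt 0 (η a) with ha' | ha'
      · nlinarith [mul_pos_of_neg_of_neg hs (show η x - η y < 0 by omega), mul_nonneg ha' (show 0 ≤ f y - f x by omega)]
      · nlinarith [mul_pos_of_neg_of_neg hs (show η z - η y < 0 by omega),
          mul_pos (show 0 < -η a by omega) (show 0 < f z - f y by omega)]
    · rcases le_or_gt 0 (η a) with ha' | ha'
      · nlinarith [mul_pos hs (show 0 < η y - η z by omega), mul_nonneg ha' (show 0 ≤ f z - f y by omega)]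
      · nlinarith [mul_pos hs (show 0 < η y - η x by omega),
          mul_pos (show 0 < -η a by omega) (show 0 < f y - f x by omega)]
  obtain ⟨η₁, t₁⟩ := hμ
  obtain ⟨η₂, t₂⟩ := hμ'
  obtain ⟨η₃, t₃⟩ := hm
  by_contra hcon
  push Not at hcon
  have n1 : f μ' ≠ f μ := fun e => hne (hsep _ _ h' e)
  have n2 : f m ≠ f μ := fun e => hcon.1 (hsep _ _ h e)
  have n3 : f m ≠ f μ' := fun e => hcon.2 (hsep _ _ (fun η hη => (h η hη).trans (h' η hη).symm) e)
  rcases lt_or_gt_of_ne n1 with o1 | o1 <;> rcases lt_or_gt_of_ne n2 with o2 | o2 <;>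
    rcases lt_or_gt_of_ne n3 with o3 | o3 <;> first
      | omega
      | exact mid μ' μ m ⟨η₁, t₁⟩ t₂.1 t₃.1 h' h (by omega) (by omega)
      | exact mid m μ μ' ⟨η₁, t₁⟩ t₃.1 t₂.1 h h' (by omega) (by omega)
      | exact mid μ μ' m ⟨η₂, t₂⟩ t₁.1 t₃.1 (fun η hη => (h' η hη).symm) (fun η hη => (h η hη).trans (h' η hη).symm)
          (by omega) (by omega)
      | exact mid m μ' μ ⟨η₂, t₂⟩ t₃.1 t₁.1 (fun η hη => (h η hη).trans (h' η hη).symm) (fun η hη => (h' η hη).symm)
          (by omega) (by omega)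
      | exact mid μ m μ' ⟨η₃, t₃⟩ t₁.1 t₂.1 (fun η hη => (h η hη).symm) (fun η hη => (h' η hη).trans (h η hη).symm)
          (by omega) (by omega)
      | exact mid μ' m μ ⟨η₃, t₃⟩ t₂.1 t₁.1 (fun η hη => (h' η hη).trans (h η hη).symm) (fun η hη => (h η hη).symm)
          (by omega) (by omega)

/-- a polynomial curve preserving all extremal coordinates acts trivially -/
theorem curve_trivial (hφ : Δ.IsRep φ) (hs : IsSimple φ) (P : K → Γ)
    (hP : ∀ p q, ∃ f : Polynomial K, ∀ s, (φ (P s) : Mat K N) p q = f.eval s) (h0 : P 0 = 1)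
    (hE : ∀ μ, W.IsExt μ → ∀ s, W.E μ * (φ (P s) : Mat K N) = W.E μ) (s : K) : φ (P s) = 1 := by
  classical
  rcases Nat.eq_zero_or_pos N with hN | hN
  · subst hN
    exact Units.ext (Matrix.ext fun i => i.elim0)
  haveI : NeZero N := ⟨hN.ne'⟩
  obtain ⟨μ, hμ⟩ := W.exists_ext
  obtain ⟨v, hv, hv0⟩ := W.exists_vec hμ
  suffices key : ∀ x ∈ Cone φ (⊤ : Subgroup Γ) v, ∀ s, (φ (P s) : Mat K N) *ᵥ x = x by
    refine Units.ext (Matrix.ext_iff_mulVec.mpr fun z => ?_)
    rw [Units.val_one, Matrix.one_mulVec]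
    have hle : (⊤ : Submodule K (Vec K N)) ≤
        LinearMap.ker ((φ (P s) : Mat K N).mulVecLin - LinearMap.id) := by
      rw [← span_orbit hs hv0, Submodule.span_le]
      rintro _ ⟨g, rfl⟩
      rw [SetLike.mem_coe, LinearMap.mem_ker, LinearMap.sub_apply, Matrix.mulVecLin_apply, LinearMap.id_apply,
        sub_eq_zero]
      exact key _ (by simpa using act_mem_cone (Subgroup.mem_top g) (mem_cone_self (φ := φ) ⊤ v) 1) s
    exact sub_eq_zero.mp (hle (x := z) trivial)
  intro x hx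
  choose f hf using hP
  let F : Fin N → Polynomial K := fun a => ∑ b, Polynomial.C (x b) * f a b
  have hF : ∀ s a, (F a).eval s = ((φ (P s) : Mat K N) *ᵥ x) a := fun s a => by
    simp only [F, Polynomial.eval_finsetSum, Polynomial.eval_mul, Polynomial.eval_C, Matrix.mulVec, dotProduct]
    exact Finset.sum_congr rfl fun b _ => by rw [← hf, mul_comm]
  let d := Finset.univ.sup fun a => (F a).natDegree
  have hd : ∀ a, (F a).natDegree ≤ d := fun a => Finset.le_sup (f := fun a => (F a).natDegree) (Finset.mem_univ a)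
  by_cases hd0 : d = 0
  · intro s
    funext a
    have hc := Polynomial.eq_C_of_natDegree_le_zero (hd0 ▸ hd a)
    rw [← hF, hc, Polynomial.eval_C, ← Polynomial.eval_C (a := (F a).coeff 0) (x := (0 : K)), ← hc, hF, h0, map_one,
      Units.val_one, Matrix.one_mulVec]
  exfalso
  let w : Vec K N := fun a => (F a).coeff d
  have hw0 : w ≠ 0 := by
    obtain ⟨a, -, ha⟩ := Finset.exists_mem_eq_sup Finset.univ Finset.univ_nonempty fun a => (F a).natDegree
    refine fun h => ?_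
    have h1 : (F a).coeff (F a).natDegree = 0 := by
      rw [← show d = (F a).natDegree from ha]; exact congrFun h a
    rw [Polynomial.coeff_natDegree, Polynomial.leadingCoeff_eq_zero] at h1
    exact hd0 (by rw [show d = (F a).natDegree from ha, h1, Polynomial.natDegree_zero])
  have hw : w ∈ Cone φ (⊤ : Subgroup Γ) v := by
    have h := limit_mem_cone (φ := φ) (S := (⊤ : Subgroup Γ)) (v := v)
      (fun a => ∑ i ∈ Finset.range (d + 1), Polynomial.C ((F a).coeff i) * Polynomial.X ^ (d - i)) fun t => by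
      have := act_mem_cone (Subgroup.mem_top (P ((t⁻¹ : Kˣ) : K))) hx (t ^ d)
      convert this using 1
      funext a
      rw [Pi.smul_apply, ← hF, Polynomial.eval_eq_sum_range' (Nat.lt_succ_of_le (hd a)), smul_eq_mul, Finset.mul_sum,
        Polynomial.eval_finsetSum]
      refine Finset.sum_congr rfl fun i hi => ?_
      rw [Polynomial.eval_mul, Polynomial.eval_C, Polynomial.eval_pow, Polynomial.eval_X,
        ← Units.val_pow_eq_pow_val, ← Units.val_pow_eq_pow_val, mul_left_comm, ← Units.val_mul, inv_pow,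
        ← pow_sub t (Nat.lt_succ_iff.mp (Finset.mem_range.mp hi))]
    convert h using 1
    funext a
    rw [Polynomial.eval_finsetSum, Finset.sum_eq_single_of_mem d (Finset.self_mem_range_succ d)]
    · simp [w]
    · intro i hi hne
      rw [Polynomial.eval_mul, Polynomial.eval_pow, Polynomial.eval_X,
        zero_pow (by have := Finset.mem_range.mp hi; omega), mul_zero]
  obtain ⟨ν, hν, hνw⟩ := W.cover hφ hs hμ hv hv0 hw hw0
  refine hνw (funext fun a => ?_)
  let G : Polynomial K := ∑ b, Polynomial.C (W.E ν a b) * F b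
  have hG : G = Polynomial.C ((W.E ν *ᵥ x) a) := Polynomial.funext fun s => by
    have h1 : (W.E ν *ᵥ ((φ (P s) : Mat K N) *ᵥ x)) a = (W.E ν *ᵥ x) a := by rw [Matrix.mulVec_mulVec, hE ν hν]
    rw [Polynomial.eval_C, ← h1]
    simp only [G, Polynomial.eval_finsetSum, Polynomial.eval_mul, Polynomial.eval_C, hF]
    rfl
  have := congrArg (fun p : Polynomial K => p.coeff d) hG
  simp only [G, Polynomial.finsetSum_coeff, Polynomial.coeff_C_mul, Polynomial.coeff_C, if_neg hd0] at this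
  exact this

end Wts

/-- the contragredient representation -/
def dualRep (φ : Γ →* GLk K N) : Γ →* GLk K N :=
  MonoidHom.toHomUnits
    { toFun := fun g => ((φ g⁻¹ : GLk K N) : Mat K N)ᵀ
      map_one' := by simp
      map_mul' := fun g h => by simp [Matrix.transpose_mul] }

theorem dualRep_coe (g : Γ) : (dualRep φ g : Mat K N) = ((φ g⁻¹ : GLk K N) : Mat K N)ᵀ := rfl

theorem isRep_dualRep (hφ : Δ.IsRep φ) : Δ.IsRep (dualRep φ) := fun p q => by
  simpa [dualRep_coe] using Δ.comp_inv_mem (hφ q p)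

theorem isSimple_dualRep (hs : IsSimple φ) : IsSimple (dualRep φ) := by
  intro X hX
  let Y : Submodule K (Vec K N) :=
    { carrier := {y | ∀ z ∈ X, z ⬝ᵥ y = 0}
      zero_mem' := fun z _ => dotProduct_zero z
      add_mem' := fun ha hb z hz => by rw [dotProduct_add, ha z hz, hb z hz, add_zero]
      smul_mem' := fun c y hy z hz => by rw [dotProduct_smul, hy z hz, smul_zero] }
  have hY : ∀ g, H20Conj.Stab Y (φ g) := fun g y hy z hz => by
    rw [Matrix.dotProduct_mulVec, ← Matrix.mulVec_transpose]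
    have := hX g⁻¹ z hz
    rw [dualRep_coe, inv_inv] at this
    exact hy _ this
  rcases hs Y hY with h | h
  · right
    refine eq_top_iff.mpr fun x _ => ?_
    refine H20Conj.mem_of_forall_dual X fun ψ hψ => ?_
    have hrep : ∀ z, ψ z = z ⬝ᵥ fun i => ψ (Pi.single i 1) := fun z => by
      conv_lhs => rw [pi_eq_sum_univ' z]
      simp [dotProduct, map_sum]
    have : (fun i => ψ (Pi.single i 1)) ∈ Y := fun z hz => by rw [← hrep]; exact hψ z hz
    rw [h, Submodule.mem_bot] at this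
    rw [hrep, this, dotProduct_zero]
  · left
    refine eq_bot_iff.mpr fun x hx => ?_
    rw [Submodule.mem_bot]
    funext i
    have : (Pi.single i 1 : Vec K N) ∈ Y := h ▸ trivial
    simpa using this x hx

/-- weights of the contragredient -/
def Wts.dual (W : Δ.Wts φ) : Δ.Wts (dualRep φ) where
  s := W.s.map (Equiv.neg M).toEmbedding
  E m := (W.E (-m))ᵀ
  tau_eq χ := by
    rw [dualRep_coe, ← map_inv, W.tau_eq, Matrix.transpose_sum, Finset.sum_map]
    refine Finset.sum_congr rfl fun m _ => ?_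
    rw [Matrix.transpose_smul, Equiv.coe_toEmbedding, Equiv.neg_apply, neg_neg]
    congr 1
    have h0 := evH_add m (-m) χ
    rw [add_neg_cancel, evH_zero] at h0
    change ((χ (Multiplicative.ofAdd m))⁻¹ : Kˣ).val = _
    rw [Units.val_inv_eq_inv_val]
    exact (eq_inv_of_mul_eq_one_right h0.symm).symm
  sum_one := by
    rw [Finset.sum_map]
    simp [← Matrix.transpose_sum, W.sum_one]
  out m hm := by
    rw [W.out (-m) fun h => hm (Finset.mem_map.mpr ⟨-m, h, neg_neg m⟩), Matrix.transpose_zero]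
  ne m hm := by
    obtain ⟨m', hm', rfl⟩ := Finset.mem_map.mp hm
    simpa using W.ne m' hm'
  orth m m' h := by rw [← Matrix.transpose_mul, W.orth _ _ fun e => h (neg_inj.mp e).symm, Matrix.transpose_zero]
  idem m := by rw [← Matrix.transpose_mul, W.idem]

theorem Wts.IsExt.dual {W : Δ.Wts φ} {μ : M} (h : W.IsExt μ) : W.dual.IsExt (-μ) := by
  obtain ⟨η, hμ, hlt⟩ := h
  refine ⟨-η, Finset.mem_map.mpr ⟨μ, hμ, rfl⟩, fun m hm hne => ?_⟩
  obtain ⟨m', hm', rfl⟩ := Finset.mem_map.mp hm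
  have := hlt m' hm' fun e => hne (by simp [e])
  simpa using this

end Data

end Groth.Agent.H21Red0
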