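import Groth.Agent.H21Split.Red0.BaseExists
import Groth.Agent.H21Split.R3.Iso

/-!
Split groups with isomorphic root data are isomorphic.
-/

open CategoryTheory MonoidalCategory CartesianMonoidalCategory MonObj GrpObj AlgebraicGeometry
open CategoryTheory.Limits

universe u

set_option linter.style.haveILetI false

noncomputable section

namespace Groth.Agent.H21Red0

/-- a base carried along an equivalence -/
theorem exists_base_map {I I' M M' N N' : Type} [AddCommGroup M] [AddCommGroup M'] [AddCommGroup N] [AddCommGroup N']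
    {P : RootPairing I ℤ M N} {Q : RootPairing I' ℤ M' N'} (h : RootPairing.Equiv P Q) (b : P.Base) :
    ∃ b' : Q.Base, ∀ i, i ∈ b.support ↔ h.indexEquiv i ∈ b'.support := by
  classical
  have hr : ∀ i, h.weightMap (P.root i) = Q.root (h.indexEquiv i) := fun i =>
    RootPairing.Hom.root_weightMap_apply _ _ i h.toHom
  let L : N →ₗ[ℤ] N' := (RootPairing.Equiv.coweightEquiv P Q h).symm.toLinearMap
  have hc : ∀ i, L (P.coroot i) = Q.coroot (h.indexEquiv i) := fun i => by
    apply (RootPairing.Equiv.coweightEquiv P Q h).injective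
    refine ((RootPairing.Equiv.coweightEquiv P Q h).apply_symm_apply _).trans ?_
    rw [RootPairing.Equiv.coweightEquiv_apply, RootPairing.Hom.coroot_coweightMap_apply, Equiv.symm_apply_apply]
  have hmem : ∀ (X X' : Type) [AddCommGroup X] [AddCommGroup X'] (r : I → X) (r' : I' → X') (T : X →ₗ[ℤ] X')
      (_ : ∀ i, T (r i) = r' (h.indexEquiv i))
      (_ : ∀ i, r i ∈ AddSubmonoid.closure (r '' (b.support : Set I)) ∨
        -r i ∈ AddSubmonoid.closure (r '' (b.support : Set I))) (j : I'),
      r' j ∈ AddSubmonoid.closure (r' '' (h.indexEquiv '' (b.support : Set I))) ∨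
        -r' j ∈ AddSubmonoid.closure (r' '' (h.indexEquiv '' (b.support : Set I))) := by
    intro X X' _ _ r r' T hT hb j
    obtain ⟨i, rfl⟩ := h.indexEquiv.surjective j
    have hsub : r' '' (h.indexEquiv '' (b.support : Set I)) = T.toAddMonoidHom '' (r '' (b.support : Set I)) := by
      simp only [Set.image_image, LinearMap.toAddMonoidHom_coe, hT]
    rw [hsub, ← AddMonoidHom.map_mclosure, ← hT]
    exact (hb i).imp (fun h' => ⟨_, h', rfl⟩) fun h' => ⟨_, h', map_neg _ _⟩
  refine ⟨⟨b.support.image h.indexEquiv, ?_, ?_, fun j => ?_, fun j => ?_⟩, fun i => by simp⟩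
  · rw [Finset.coe_image]
    refine LinearIndepOn.image_of_comp _ _ ?_
    have h' : LinearIndepOn ℤ (h.weightMap ∘ P.root) (b.support : Set I) :=
      LinearIndependent.map' b.linearIndepOn_root _ (LinearMap.ker_eq_bot.mpr h.bijective_weightMap.1)
    rwa [show h.weightMap ∘ P.root = Q.root ∘ h.indexEquiv from funext hr] at h'
  · rw [Finset.coe_image]
    refine LinearIndepOn.image_of_comp _ _ ?_
    have h' : LinearIndepOn ℤ (L ∘ P.coroot) (b.support : Set I) :=
      LinearIndependent.map' b.linearIndepOn_coroot L (LinearMap.ker_eq_bot.mpr (LinearEquiv.injective _))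
    rwa [show L ∘ P.coroot = Q.coroot ∘ h.indexEquiv from funext hc] at h'
  · rw [Finset.coe_image]; exact hmem M M' P.root Q.root h.weightMap hr b.root_mem_or_neg_mem j
  · rw [Finset.coe_image]; exact hmem N N' P.coroot Q.coroot L hc b.coroot_mem_or_neg_mem j

/-- groups over the empty scheme are isomorphic -/
theorem nonempty_iso_of_isEmpty {S : Scheme.{u}} [IsEmpty S] (G G' : Over S) [GrpObj G] [GrpObj G'] :
    Nonempty (Grp.mk G ≅ Grp.mk G') := by
  have hu : ∀ (X Y : Over S) (f f' : X ⟶ Y), f = f' := fun X Y f f' => by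
    haveI : IsEmpty X.left := Function.isEmpty X.hom.base
    exact Over.OverMorphism.ext ((isInitialOfIsEmpty (X := X.left)).hom_ext _ _)
  haveI : IsEmpty G.left := Function.isEmpty G.hom.base
  haveI : IsEmpty G'.left := Function.isEmpty G'.hom.base
  let f : G ⟶ G' := Over.homMk ((isInitialOfIsEmpty (X := G.left)).to _) ((isInitialOfIsEmpty (X := G.left)).hom_ext _ _)
  let f' : G' ⟶ G := Over.homMk ((isInitialOfIsEmpty (X := G'.left)).to _) ((isInitialOfIsEmpty (X := G'.left)).hom_ext _ _)
  haveI : IsMonHom f := ⟨hu _ _ _ _, hu _ _ _ _⟩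
  let e : G ≅ G' := ⟨f, f', hu _ _ _ _, hu _ _ _ _⟩
  haveI : IsMonHom e.hom := ‹IsMonHom f›
  exact ⟨Grp.mkIso e (hu _ _ _ _) (hu _ _ _ _)⟩

/-- **Split groups with equivalent root data are isomorphic.** -/
theorem nonempty_iso {S : Scheme.{u}} {G G' : Over S} [GrpObj G] [GrpObj G'] (D : Red.SplitRed G)
    (D' : Red.SplitRed G') (h : RootPairing.Equiv D'.P D.P) : Nonempty (Grp.mk G ≅ Grp.mk G') := by
  rcases isEmpty_or_nonempty S with hS | hS
  · exact nonempty_iso_of_isEmpty G G'
  obtain ⟨b'⟩ := nonempty_base D'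
  obtain ⟨b, hb⟩ := exists_base_map h b'
  let P : Red.Pinning G := { D with base := b }
  let P' : Red.Pinning G' := { D' with base := b' }
  obtain ⟨f, ⟨hf, -, -⟩, -⟩ := H21Split.R3.existsUnique_iso P P' h hb
  haveI := hf
  exact ⟨Grp.mkIso f (IsMonHom.one_hom f.hom) (IsMonHom.mul_hom f.hom)⟩

end Groth.Agent.H21Red0
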