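import Groth.Agent.H21Split.Red0.Ext

/-!
Two proportional roots: a one-parameter curve in their groups acting trivially on all simple representations.
-/

universe u v

set_option linter.unusedSectionVars false
set_option linter.style.haveILetI false

noncomputable section

open scoped Matrix
open H20Conj (GLk Mat Vec IsLaurent coneIdeal zSet)

namespace Groth.Agent.H21Red0

variable {K : Type u} [Field K] {M : Type} [AddCommGroup M] {Γ : Type v} [Group Γ] {ι : Type}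

namespace Data

variable (Δ : Data K M Γ ι)

/-- a root, its double, and a normalising element reversing them -/
structure Pair where
  a : ι
  b : ι
  two : Δ.root b = Δ.root a + Δ.root a
  comm : ∀ x y, Commute (Δ.u a x) (Δ.u b y)
  nb : Γ
  s : M →+ M
  s_inv : ∀ m, s (s m) = m
  nb_tau : ∀ χ : Tpt K M, nb * Δ.tau χ = Δ.tau (χ.comp (AddMonoidHom.toMultiplicative s)) * nb
  s_neg : s (Δ.root a) = -Δ.root a
  s_line : ∀ (m : M) (η : M →+ ℤ), η (Δ.root a) = 0 → η (s m) = η m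

namespace Pair

variable {Δ} (Q : Δ.Pair)

/-- the group of the two roots -/
def U (p : K × K) : Γ := Δ.u Q.a p.1 * Δ.u Q.b p.2

theorem U_zero : Q.U 0 = 1 := by rw [U, Prod.fst_zero, Prod.snd_zero, Δ.u_zero, Δ.u_zero, one_mul]

theorem U_add (p p' : K × K) : Q.U (p + p') = Q.U p * Q.U p' := by
  rw [U, U, U, Prod.fst_add, Prod.snd_add, Δ.u_add, Δ.u_add, mul_assoc, mul_assoc, ← mul_assoc (Δ.u Q.a p'.1),
    (Q.comm p'.1 p.2).eq, mul_assoc]

/-- weighted scaling -/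
def scale (s : K) (p : K × K) : K × K := (s * p.1, s * s * p.2)

theorem conj_U (χ : Tpt K M) (p : K × K) :
    Δ.tau χ * Q.U p * (Δ.tau χ)⁻¹ = Q.U (scale (evH (Δ.root Q.a) χ) p) := by
  rw [U, U, scale, show Δ.tau χ * (Δ.u Q.a p.1 * Δ.u Q.b p.2) * (Δ.tau χ)⁻¹ =
    (Δ.tau χ * Δ.u Q.a p.1 * (Δ.tau χ)⁻¹) * (Δ.tau χ * Δ.u Q.b p.2 * (Δ.tau χ)⁻¹) by group, Δ.conj, Δ.conj, Q.two,
    evH_add]

theorem U_mem_Pos {η : M →+ ℤ} (h : 0 < η (Δ.root Q.a)) (p : K × K) : Q.U p ∈ Δ.Pos η :=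
  mul_mem (Δ.u_mem_Pos h _) (Δ.u_mem_Pos (by rw [Q.two, map_add]; omega) _)

/-- on the line of the root -/
def OnLine (μ m : M) : Prop := ∀ η : M →+ ℤ, η (Δ.root Q.a) = 0 → η m = η μ

theorem onLine_add (μ : M) (k : ℕ) : Q.OnLine μ (μ + k • Δ.root Q.a) := fun η hη => by
  rw [map_add, map_nsmul, hη, smul_zero, add_zero]

/-- the centraliser of the kernel of the root -/
def L : Subgroup Γ :=
  Subgroup.centralizer {g | ∃ η : M →+ ℤ, η (Δ.root Q.a) = 0 ∧ ∃ t, Δ.tau (cch η t) = g}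

theorem tau_mem_L (χ : Tpt K M) : Δ.tau χ ∈ Q.L := by
  refine Subgroup.mem_centralizer_iff.mpr ?_
  rintro _ ⟨η, -, t, rfl⟩
  rw [← map_mul, ← map_mul, mul_comm χ]

theorem U_mem_L (p : K × K) : Q.U p ∈ Q.L := by
  refine Subgroup.mem_centralizer_iff.mpr ?_
  rintro _ ⟨η, hη, t, rfl⟩
  have h := Q.conj_U (cch η t) p
  rw [evH_cch, hη, zpow_zero, Units.val_one, scale, one_mul, one_mul, one_mul] at h
  exact mul_inv_eq_iff_eq_mul.mp h

theorem nb_mem_L : Q.nb ∈ Q.L := by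
  refine Subgroup.mem_centralizer_iff.mpr ?_
  rintro _ ⟨η, hη, t, rfl⟩
  rw [Q.nb_tau, show (cch (K := K) η t).comp (AddMonoidHom.toMultiplicative Q.s) = cch η t from MonoidHom.ext fun m => by
    change t ^ η (Q.s m.toAdd) = t ^ η m.toAdd
    rw [Q.s_line m.toAdd η hη]]

theorem isRClosed_L : Δ.IsRClosed (Q.L : Set Γ) := by
  intro g hg
  refine Subgroup.mem_centralizer_iff.mpr fun x hx => Δ.inj (Units.ext (Matrix.ext fun p q => ?_))
  let ψ : Mat K Δ.N₀ →ₗ[K] K :=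
    { toFun := fun X => ((Δ.φ₀ x : Mat K Δ.N₀) * X - X * (Δ.φ₀ x : Mat K Δ.N₀)) p q
      map_add' := fun X Y => by simp only [mul_add, add_mul, Matrix.sub_apply, Matrix.add_apply]; ring
      map_smul' := fun c X => by simp [Matrix.mul_smul, Matrix.smul_mul, mul_sub] }
  have h := hg (fun g => ψ (Δ.φ₀ g : Mat K Δ.N₀)) (Δ.isRep_φ₀.lin_mem Δ ψ) fun s hs => by
    show ((Δ.φ₀ x : Mat K Δ.N₀) * Δ.φ₀ s - Δ.φ₀ s * (Δ.φ₀ x : Mat K Δ.N₀)) p q = 0
    rw [← Units.val_mul, ← Units.val_mul, ← map_mul, ← map_mul, Subgroup.mem_centralizer_iff.mp hs x hx, sub_self]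
    rfl
  rw [map_mul, map_mul, Units.val_mul, Units.val_mul]
  exact sub_eq_zero.mp h

variable [IsAlgClosed K] [Module.Finite ℤ M] [Module.Free ℤ M] [Finite ι]

theorem exists_pos : ∃ f : M →+ ℤ, 0 < f (Δ.root Q.a) := by
  obtain ⟨f, hf⟩ := H21Split.exists_dual_ne_zero (fun _ : Unit => Δ.root Q.a)
  rcases lt_or_gt_of_ne (hf () (Δ.root_ne _)) with h | h
  · exact ⟨-f, by simp [h]⟩
  · exact ⟨f, h⟩

theorem exists_char (s : K) (hs : s ≠ 0) : ∃ χ : Tpt K M, evH (Δ.root Q.a) χ = s := by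
  obtain ⟨f, hf⟩ := Q.exists_pos
  obtain ⟨k, hk⟩ : ∃ k : ℕ, f (Δ.root Q.a) = k := ⟨_, (Int.toNat_of_nonneg hf.le).symm⟩
  obtain ⟨t, ht⟩ := IsAlgClosed.exists_pow_nat_eq s (show 0 < k by omega)
  have ht0 : t ≠ 0 := by
    rintro rfl
    rw [zero_pow (by omega)] at ht
    exact hs ht.symm
  exact ⟨cch f (Units.mk0 t ht0), by rw [evH_cch, hk, zpow_natCast, Units.val_pow_eq_pow_val, Units.val_mk0, ht]⟩

variable {N : ℕ} {φ : Γ →* GLk K N} (W : Δ.Wts φ)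

/-- components of the image under the two root groups -/
theorem comp_U (hφ : Δ.IsRep φ) {μ : M} {x : Vec K N} (hx : W.E μ *ᵥ x = x) (p : K × K) :
    (∀ m, W.E m *ᵥ ((φ (Q.U p) : Mat K N) *ᵥ x) ≠ 0 → ∃ k : ℕ, m = μ + k • Δ.root Q.a) ∧
      W.E μ *ᵥ ((φ (Q.U p) : Mat K N) *ᵥ x) = x := by
  classical
  obtain ⟨f, hf⟩ := Q.exists_pos
  refine ⟨fun m hm => ?_, ?_⟩
  swap
  · conv_lhs => rw [← hx]
    rw [Matrix.mulVec_mulVec, Matrix.mulVec_mulVec, (W.isUp_of_mem hφ (Q.U_mem_Pos hf p)).2, hx]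
  by_contra hk
  push Not at hk
  refine hm ?_
  rw [← hx, Matrix.mulVec_mulVec, Matrix.mulVec_mulVec, U, map_mul, Units.val_mul]
  have e : W.E m * ((φ (Δ.u Q.a p.1) : Mat K N) * (φ (Δ.u Q.b p.2) : Mat K N)) * W.E μ =
      ∑ l ∈ W.s, (W.E m * (φ (Δ.u Q.a p.1) : Mat K N) * W.E l) * (W.E l * (φ (Δ.u Q.b p.2) : Mat K N) * W.E μ) := by
    conv_lhs => rw [← Matrix.mul_one (φ (Δ.u Q.a p.1) : Mat K N), ← W.sum_one]
    rw [Finset.mul_sum, Finset.sum_mul, Finset.mul_sum, Finset.sum_mul]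
    refine Finset.sum_congr rfl fun l _ => ?_
    conv_lhs => rw [← W.idem l]
    simp only [mul_assoc]
  rw [e, Finset.sum_eq_zero fun l _ => ?_, Matrix.zero_mulVec]
  by_contra hne
  obtain ⟨hne1, hne2⟩ := not_or.mp (fun h : W.E m * (φ (Δ.u Q.a p.1) : Mat K N) * W.E l = 0 ∨
    W.E l * (φ (Δ.u Q.b p.2) : Mat K N) * W.E μ = 0 => hne (by rcases h with h | h <;> simp [h]))
  obtain ⟨i, hi⟩ := (W.raise hφ Q.a l m p.1).1 hne1
  obtain ⟨j, hj⟩ := (W.raise hφ Q.b μ l p.2).1 hne2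
  refine hk (2 * j + i) ?_
  rw [hi, hj, Q.two, add_smul, mul_smul, two_smul, smul_add]
  abel

theorem onLine_map {g : Γ} (hg : g ∈ Q.L) {μ : M} {z : Vec K N}
    (hz : ∀ m, W.E m *ᵥ z ≠ 0 → Q.OnLine μ m) {m : M} (hm : W.E m *ᵥ ((φ g : Mat K N) *ᵥ z) ≠ 0) : Q.OnLine μ m := by
  classical
  intro η hη
  refine W.eigen_comp (fun t => ?_) hm
  have h1 : (φ (Δ.tau (cch η t)) : Mat K N) *ᵥ z = ((t ^ η μ : Kˣ) : K) • z := by
    rw [W.tau_eq, Matrix.sum_mulVec]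
    conv_rhs => rw [← W.sum_proj z, Finset.smul_sum]
    refine Finset.sum_congr rfl fun l _ => ?_
    rw [Matrix.smul_mulVec]
    by_cases h0 : W.E l *ᵥ z = 0
    · rw [h0, smul_zero, smul_zero]
    · rw [evH_cch, hz l h0 η hη]
  rw [Matrix.mulVec_mulVec, ← Units.val_mul, ← map_mul, Subgroup.mem_centralizer_iff.mp hg _ ⟨η, hη, t, rfl⟩,
    map_mul, Units.val_mul, ← Matrix.mulVec_mulVec, h1, Matrix.mulVec_smul]

theorem nb_weight {m : M} {x : Vec K N} (hx : W.E m *ᵥ x = x) :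
    W.E (Q.s m) *ᵥ ((φ Q.nb : Mat K N) *ᵥ x) = (φ Q.nb : Mat K N) *ᵥ x := by
  classical
  let y := (φ Q.nb : Mat K N) *ᵥ x
  have hy : ∀ ξ : Tpt K M, (φ (Δ.tau ξ) : Mat K N) *ᵥ y = evH (Q.s m) ξ • y := fun ξ => by
    have h := Q.nb_tau (ξ.comp (AddMonoidHom.toMultiplicative Q.s))
    rw [show (ξ.comp (AddMonoidHom.toMultiplicative Q.s)).comp (AddMonoidHom.toMultiplicative Q.s) = ξ from
      MonoidHom.ext fun l => congrArg ξ (congrArg Multiplicative.ofAdd (Q.s_inv l.toAdd))] at h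
    rw [Matrix.mulVec_mulVec, ← Units.val_mul, ← map_mul, ← h, map_mul, Units.val_mul, ← Matrix.mulVec_mulVec,
      W.tau_mulVec hx, Matrix.mulVec_smul]
    rfl
  show W.E (Q.s m) *ᵥ y = y
  conv_rhs => rw [← W.sum_proj y]
  symm
  refine Finset.sum_eq_single (Q.s m) (fun l _ hl => ?_) fun h => by rw [W.out _ h, Matrix.zero_mulVec]
  by_contra hne
  exact hl (evH_injective (K := K) (MonoidHom.ext fun ξ => W.proj_eigen (hy ξ) hne))

theorem nb_proj (m : M) (y : Vec K N) :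
    W.E (Q.s m) *ᵥ ((φ Q.nb : Mat K N) *ᵥ y) = (φ Q.nb : Mat K N) *ᵥ (W.E m *ᵥ y) := by
  classical
  conv_lhs => rw [← W.sum_proj y]
  rw [Matrix.mulVec_sum, Matrix.mulVec_sum, Finset.sum_eq_single m]
  · rw [Q.nb_weight W (W.proj_self m y)]
  · intro l _ hl
    rw [← Q.nb_weight W (W.proj_self l y), W.proj_proj _ fun h => hl (by rw [← Q.s_inv l, ← h, Q.s_inv])]
  · intro h
    rw [W.out m h, Matrix.zero_mulVec, Matrix.mulVec_zero, Matrix.mulVec_zero]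

/-- an extremal vector moved by the two root groups -/
structure Low (μ : M) (v : Vec K N) : Prop where
  ext : W.IsExt μ
  eig : W.E μ *ᵥ v = v
  moved : ∃ p, (φ (Q.U p) : Mat K N) *ᵥ v ≠ v

theorem Low.ne_zero {μ : M} {v : Vec K N} (h : Q.Low W μ v) : v ≠ 0 := fun h0 => by
  obtain ⟨p, hp⟩ := h.moved
  exact hp (by rw [h0, Matrix.mulVec_zero])

theorem ext_top {μ : M} {v x : Vec K N} (hφ : Δ.IsRep φ) (hs : IsSimple φ) (hext : W.IsExt μ)
    (hv : W.E μ *ᵥ v = v) (hv0 : v ≠ 0) (hx : x ∈ Cone φ (⊤ : Subgroup Γ) v) {m : M} (η : M →+ ℤ)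
    (hm : W.E m *ᵥ x ≠ 0) (h : ∀ l, W.E l *ᵥ x ≠ 0 → l ≠ m → η l < η m) : W.IsExt m :=
  W.ext_of_mem hφ hs hext hv hv0 (W.top_mem (fun _ => Subgroup.mem_top _) hx η fun l _ hl h0 => h l h0 hl)
    (W.proj_self m x) hm

/-- the moving vector and the other end of its line -/
theorem exists_high (hφ : Δ.IsRep φ) (hs : IsSimple φ) {μ : M} {v : Vec K N} (h : Q.Low W μ v) :
    ∃ D : ℕ, 0 < D ∧ W.IsExt (μ + D • Δ.root Q.a) ∧
      (∀ m, W.IsExt m → Q.OnLine μ m → m = μ ∨ m = μ + D • Δ.root Q.a) ∧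
      (∀ p, (∀ m, W.E m *ᵥ ((φ (Q.U p) : Mat K N) *ᵥ v) ≠ 0 → ∃ k ≤ D, m = μ + k • Δ.root Q.a) ∧
        (W.E (μ + D • Δ.root Q.a) *ᵥ ((φ (Q.U p) : Mat K N) *ᵥ v) = 0 → (φ (Q.U p) : Mat K N) *ᵥ v = v)) ∧
      ∃ q, W.E (μ + D • Δ.root Q.a) *ᵥ q = q ∧ q ≠ 0 ∧ ∀ p, (φ (Q.U p) : Mat K N) *ᵥ q = q := by
  classical
  obtain ⟨f, hf⟩ := Q.exists_pos
  have hcone : ∀ p, (φ (Q.U p) : Mat K N) *ᵥ v ∈ Cone φ (⊤ : Subgroup Γ) v := fun p => by
    simpa using act_mem_cone (Subgroup.mem_top (Q.U p)) (mem_cone_self (φ := φ) ⊤ v) 1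
  have haD : ∀ k : ℕ, k ≠ 0 → μ + k • Δ.root Q.a ≠ μ := fun k hk e => by
    have := congrArg f e
    rw [map_add, map_nsmul, nsmul_eq_mul] at this
    have : (0 : ℤ) < k := by omega
    nlinarith
  -- the top of a moved image
  have htop : ∀ p, (φ (Q.U p) : Mat K N) *ᵥ v ≠ v → ∃ k : ℕ, 0 < k ∧ W.IsExt (μ + k • Δ.root Q.a) ∧
      W.E (μ + k • Δ.root Q.a) *ᵥ ((φ (Q.U p) : Mat K N) *ᵥ v) ≠ 0 ∧
      ∀ m, W.E m *ᵥ ((φ (Q.U p) : Mat K N) *ᵥ v) ≠ 0 → ∃ j ≤ k, m = μ + j • Δ.root Q.a := by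
    intro p hp
    let F := (φ (Q.U p) : Mat K N) *ᵥ v
    obtain ⟨hc1, hc2⟩ := Q.comp_U W hφ h.eig p
    obtain ⟨l, hl, hl0, hlμ⟩ : ∃ l ∈ W.s, W.E l *ᵥ F ≠ 0 ∧ l ≠ μ := by
      by_contra hcon
      push Not at hcon
      refine hp ((W.sum_proj F).symm.trans ((Finset.sum_eq_single μ (fun l hl hne => ?_) fun h' => ?_).trans hc2))
      · by_contra h0; exact hne (hcon l hl h0)
      · rw [W.out μ h', Matrix.zero_mulVec]
    obtain ⟨m, hm, hmax⟩ := (W.s.filter fun m => W.E m *ᵥ F ≠ 0).exists_max_image f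
      ⟨l, Finset.mem_filter.mpr ⟨hl, hl0⟩⟩
    rw [Finset.mem_filter] at hm
    obtain ⟨k, rfl⟩ := hc1 m hm.2
    obtain ⟨j, rfl⟩ := hc1 l hl0
    have hle := hmax _ (Finset.mem_filter.mpr ⟨hl, hl0⟩)
    simp only [map_add, map_nsmul, nsmul_eq_mul] at hle
    have hj : j ≠ 0 := fun e => hlμ (by rw [e, zero_smul, add_zero])
    have hk : 0 < k := by
      by_contra hk
      have : (0 : ℤ) < j := by omega
      have : (k : ℤ) = 0 := by omega
      nlinarith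
    have hall : ∀ x, W.E x *ᵥ F ≠ 0 → ∃ i ≤ k, x = μ + i • Δ.root Q.a := fun x hx => by
      obtain ⟨i, rfl⟩ := hc1 x hx
      refine ⟨i, ?_, rfl⟩
      have h2 := hmax _ (Finset.mem_filter.mpr ⟨W.mem_of_proj_ne hx, hx⟩)
      simp only [map_add, map_nsmul, nsmul_eq_mul] at h2
      have : ((i : ℤ)) ≤ k := by nlinarith
      omega
    refine ⟨k, hk, ext_top W hφ hs h.ext h.eig (h.ne_zero) (hcone p) f hm.2 fun x hx hne => ?_, hm.2, hall⟩
    obtain ⟨i, hi, rfl⟩ := hall x hx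
    have hlt : (i : ℤ) < k := by
      rcases hi.lt_or_eq with h' | h'
      · exact_mod_cast h'
      · exact absurd (by rw [h']) hne
    simp only [map_add, map_nsmul, nsmul_eq_mul]
    nlinarith
  obtain ⟨p₀, hp₀⟩ := h.moved
  obtain ⟨D, hD, hDext, hDne, -⟩ := htop p₀ hp₀
  have htwo : ∀ m, W.IsExt m → Q.OnLine μ m → m = μ ∨ m = μ + D • Δ.root Q.a := fun m hm hline =>
    W.eq_or_eq_of_online (Δ.root_ne Q.a) h.ext hDext hm (Q.onLine_add μ D) hline (haD D hD.ne')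
  obtain ⟨η, hη⟩ := hDext
  have hηa : 0 < η (Δ.root Q.a) := by
    have hμs : μ ∈ W.s := W.mem_of_proj_ne (by rw [h.eig]; exact h.ne_zero)
    have := hη.2 μ hμs (haD D hD.ne').symm
    rw [map_add, map_nsmul, nsmul_eq_mul] at this
    nlinarith
  refine ⟨D, hD, ⟨η, hη⟩, htwo, fun p => ⟨fun m hm => ?_, fun h0 => ?_⟩,
    _, W.proj_self _ ((φ (Q.U p₀) : Mat K N) *ᵥ v), hDne, fun p => ?_⟩
  · by_cases hp : (φ (Q.U p) : Mat K N) *ᵥ v = v
    · rw [hp] at hm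
      refine ⟨0, Nat.zero_le _, ?_⟩
      rw [zero_smul, add_zero]
      by_contra hne
      exact hm (by rw [← h.eig, W.proj_proj _ hne])
    · obtain ⟨k, hk, hkext, -, hall⟩ := htop p hp
      rcases htwo _ hkext (Q.onLine_add μ k) with e | e
      · exact absurd e (haD k hk.ne')
      · obtain ⟨j, hj, rfl⟩ := hall m hm
        refine ⟨j, ?_, rfl⟩
        have := congrArg f e
        simp only [map_add, map_nsmul, nsmul_eq_mul] at this
        have h3 : ((k : ℤ) - D) * f (Δ.root Q.a) = 0 := by linarith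
        rcases mul_eq_zero.mp h3 with h4 | h4 <;> omega
  · by_contra hp
    obtain ⟨k, hk, hkext, hkne, -⟩ := htop p hp
    rcases htwo _ hkext (Q.onLine_add μ k) with e | e
    · exact absurd e (haD k hk.ne')
    · exact hkne (by rw [e, h0])
  · rw [Matrix.mulVec_mulVec, W.top_fix hφ hη (Q.U_mem_Pos hηa p)]

theorem U_scale_eigen (hφ : Δ.IsRep φ) {μ : M} {v : Vec K N} (hv : W.E μ *ᵥ v = v) (D : ℕ) (p : K × K)
    {s : K} (hs : s ≠ 0) :
    W.E (μ + D • Δ.root Q.a) *ᵥ ((φ (Q.U (scale s p)) : Mat K N) *ᵥ v) =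
      s ^ D • (W.E (μ + D • Δ.root Q.a) *ᵥ ((φ (Q.U p) : Mat K N) *ᵥ v)) := by
  obtain ⟨χ, rfl⟩ := Q.exists_char s hs
  rw [← Q.conj_U, map_mul, map_mul, ← map_inv, Units.val_mul, Units.val_mul, Matrix.mulVec_mulVec, ← mul_assoc,
    ← mul_assoc, W.mul_tau, ← Matrix.mulVec_mulVec, W.tau_mulVec hv, Matrix.mulVec_smul, Matrix.smul_mul,
    Matrix.smul_mulVec, smul_smul, ← Matrix.mulVec_mulVec, evH_add, evH_nsmul]
  have h1 : evH μ χ⁻¹ * evH μ χ = 1 := (map_mul _ _ _).symm.trans ((congrArg _ (inv_mul_cancel χ)).trans (map_one _))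
  congr 1
  rw [← mul_assoc, h1, one_mul]

theorem fixed_scale {μ : M} {v : Vec K N} (hv : W.E μ *ᵥ v = v) {p : K × K}
    (hp : (φ (Q.U p) : Mat K N) *ᵥ v = v) (s : K) : (φ (Q.U (scale s p)) : Mat K N) *ᵥ v = v := by
  by_cases hs : s = 0
  · rw [hs, scale, zero_mul, zero_mul, zero_mul, show ((0 : K), (0 : K)) = 0 from rfl, Q.U_zero, map_one,
      Units.val_one, Matrix.one_mulVec]
  obtain ⟨χ, rfl⟩ := Q.exists_char s hs
  rw [← Q.conj_U, map_mul, map_mul, Units.val_mul, Units.val_mul, ← map_inv, ← Matrix.mulVec_mulVec,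
    W.tau_mulVec hv, Matrix.mulVec_smul, ← Matrix.mulVec_mulVec, hp, W.tau_mulVec hv, smul_smul, ← map_mul,
    inv_mul_cancel, map_one, one_smul]

/-- a moved extremal vector is fixed by some nontrivial element -/
theorem exists_fixed (hφ : Δ.IsRep φ) (hs : IsSimple φ) {μ : M} {v : Vec K N} (h : Q.Low W μ v) :
    ∃ p : K × K, p ≠ 0 ∧ (φ (Q.U p) : Mat K N) *ᵥ v = v := by
  obtain ⟨D, hD, hext, -, hp, q, hq, hq0, -⟩ := Q.exists_high W hφ hs h
  set ν := μ + D • Δ.root Q.a with hν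
  obtain ⟨i, hi⟩ : ∃ i, q i ≠ 0 := Function.ne_iff.mp hq0
  have hz : ∀ p, (W.E ν *ᵥ ((φ (Q.U p) : Mat K N) *ᵥ v)) i = 0 → (φ (Q.U p) : Mat K N) *ᵥ v = v := fun p h0 => by
    refine (hp p).2 ?_
    obtain ⟨c, hc⟩ := W.exists_smul hφ hs hext hq (W.proj_self ν ((φ (Q.U p) : Mat K N) *ᵥ v)) hq0
    rw [hc, Pi.smul_apply, smul_eq_mul, mul_eq_zero, or_iff_left hi] at h0
    rw [hc, h0, zero_smul]
  let ψ : Vec K N →ₗ[K] K := (LinearMap.proj i).comp (W.E ν).mulVecLin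
  have hpoly : ∀ (c : ι) (w : Vec K N) (X : Mat K N), ∃ P : Polynomial K,
      ∀ y, ψ ((X * (φ (Δ.u c y) : Mat K N)) *ᵥ w) = P.eval y := fun c w X => by
    obtain ⟨P, hP⟩ := Δ.poly_u' (hφ.vec_mem Δ (ψ.comp X.mulVecLin) w) c
    exact ⟨P, fun y => by rw [← Matrix.mulVec_mulVec]; exact hP y⟩
  obtain ⟨A, hA⟩ := hpoly Q.b v (φ (Δ.u Q.a 1))
  have hA' : ∀ r, (W.E ν *ᵥ ((φ (Q.U (1, r)) : Mat K N) *ᵥ v)) i = A.eval r := fun r => by
    rw [← hA, U, map_mul, Units.val_mul]; rfl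
  by_cases hroot : ∃ r, A.eval r = 0
  · obtain ⟨r, hr⟩ := hroot
    exact ⟨(1, r), fun e => one_ne_zero (congrArg Prod.fst e), hz _ ((hA' r).trans hr)⟩
  push Not at hroot
  have hconst : A.natDegree = 0 := by
    by_contra hd
    obtain ⟨r, hr⟩ := IsAlgClosed.exists_root A (fun e => hd (Polynomial.natDegree_eq_of_degree_eq_some e))
    exact hroot r hr
  rw [Polynomial.eq_C_of_natDegree_eq_zero hconst] at hA'
  simp only [Polynomial.eval_C] at hA'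
  refine ⟨(0, 1), fun e => one_ne_zero (congrArg Prod.snd e), hz _ ?_⟩
  obtain ⟨B, hB⟩ := hpoly Q.a ((φ (Δ.u Q.b 1) : Mat K N) *ᵥ v) 1
  have hB' : ∀ y, (W.E ν *ᵥ ((φ (Q.U (y, 1)) : Mat K N) *ᵥ v)) i = B.eval y := fun y => by
    rw [← hB, U, map_mul, Units.val_mul, one_mul, ← Matrix.mulVec_mulVec]; rfl
  have hBeq : B = Polynomial.C (A.coeff 0) * Polynomial.X ^ D := by
    refine Polynomial.eq_of_infinite_eval_eq _ _
      (Set.Infinite.mono (fun y hy => ?_) (Set.finite_singleton (0 : K)).infinite_compl)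
    have hy' : y ≠ 0 := hy
    rw [Set.mem_ofPred_eq, ← hB', Polynomial.eval_mul, Polynomial.eval_C, Polynomial.eval_pow, Polynomial.eval_X,
      show ((y, 1) : K × K) = scale y (1, (y * y)⁻¹) by simp [scale]; field_simp, hν, Q.U_scale_eigen W hφ h.eig D _ hy',
      Pi.smul_apply, hA', smul_eq_mul, mul_comm]
  rw [hB', hBeq, Polynomial.eval_mul, Polynomial.eval_pow, Polynomial.eval_X, zero_pow hD.ne', mul_zero]

/-- the reversing element exchanges the two ends -/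
theorem exists_swap (hφ : Δ.IsRep φ) (hs : IsSimple φ) {μ : M} {v : Vec K N} (h : Q.Low W μ v) {D : ℕ}
    (hD : 0 < D) (hext : W.IsExt (μ + D • Δ.root Q.a))
    (htwo : ∀ m, W.IsExt m → Q.OnLine μ m → m = μ ∨ m = μ + D • Δ.root Q.a)
    (hp : ∀ p, (∀ m, W.E m *ᵥ ((φ (Q.U p) : Mat K N) *ᵥ v) ≠ 0 → ∃ k ≤ D, m = μ + k • Δ.root Q.a) ∧
        (W.E (μ + D • Δ.root Q.a) *ᵥ ((φ (Q.U p) : Mat K N) *ᵥ v) = 0 → (φ (Q.U p) : Mat K N) *ᵥ v = v))
    {q : Vec K N} (hq : W.E (μ + D • Δ.root Q.a) *ᵥ q = q) (hq0 : q ≠ 0) :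
    Q.s μ = μ + D • Δ.root Q.a ∧
      (∃ c : K, c ≠ 0 ∧ (φ Q.nb : Mat K N) *ᵥ q = c • v) ∧ ∃ c : K, c ≠ 0 ∧ (φ Q.nb : Mat K N) *ᵥ v = c • q := by
  obtain ⟨f, hf⟩ := Q.exists_pos
  have hnz : ∀ z : Vec K N, z ≠ 0 → (φ Q.nb : Mat K N) *ᵥ z ≠ 0 := fun z hz e => hz (by
    have := congrArg (fun w => (φ Q.nb⁻¹ : Mat K N) *ᵥ w) e
    simpa [Matrix.mulVec_mulVec] using this)
  have hcone : ∀ g : Γ, (φ g : Mat K N) *ᵥ v ∈ Cone φ (⊤ : Subgroup Γ) v := fun g => by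
    simpa using act_mem_cone (Subgroup.mem_top g) (mem_cone_self (φ := φ) ⊤ v) 1
  have hv0 := h.ne_zero
  have hsext : W.IsExt (Q.s μ) :=
    W.ext_of_mem hφ hs h.ext h.eig hv0 (hcone Q.nb) (Q.nb_weight W h.eig) (hnz v hv0)
  have hsν : Q.s (μ + D • Δ.root Q.a) = Q.s μ - D • Δ.root Q.a := by
    rw [map_add, map_nsmul, Q.s_neg, smul_neg, ← sub_eq_add_neg]
  have hsμ : Q.s μ = μ + D • Δ.root Q.a := by
    refine (htwo _ hsext (fun η hη => Q.s_line μ η hη)).resolve_left fun hfix => ?_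
    obtain ⟨p, hpm⟩ := h.moved
    let F := (φ (Q.U p) : Mat K N) *ᵥ v
    have hm : W.E (μ - D • Δ.root Q.a) *ᵥ ((φ Q.nb : Mat K N) *ᵥ F) ≠ 0 := by
      rw [show μ - D • Δ.root Q.a = Q.s (μ + D • Δ.root Q.a) by rw [hsν, hfix], Q.nb_proj W]
      exact hnz _ fun e => hpm ((hp p).2 e)
    have hx : (φ Q.nb : Mat K N) *ᵥ F ∈ Cone φ (⊤ : Subgroup Γ) v := by
      simpa [F, Matrix.mulVec_mulVec] using hcone (Q.nb * Q.U p)
    have hlow : W.IsExt (μ - D • Δ.root Q.a) := by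
      refine ext_top W hφ hs h.ext h.eig hv0 hx (-f) hm fun l hl hne => ?_
      have hl' : W.E (Q.s (Q.s l)) *ᵥ ((φ Q.nb : Mat K N) *ᵥ F) ≠ 0 := by rwa [Q.s_inv]
      rw [Q.nb_proj W] at hl'
      obtain ⟨k, hk, hsl⟩ := (hp p).1 (Q.s l) fun e => hl' (by rw [e, Matrix.mulVec_zero])
      have hl2 : l = μ - k • Δ.root Q.a := by
        rw [← Q.s_inv l, hsl, map_add, hfix, map_nsmul, Q.s_neg, smul_neg, sub_eq_add_neg]
      subst hl2
      have hkD : (k : ℤ) < D := by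
        rcases hk.lt_or_eq with h' | h'
        · exact_mod_cast h'
        · exact absurd (by rw [h']) hne
      simp only [AddMonoidHom.neg_apply, map_sub, map_nsmul, nsmul_eq_mul]
      nlinarith
    have hDf : (0 : ℤ) < D * f (Δ.root Q.a) := mul_pos (by exact_mod_cast hD) hf
    rcases htwo _ hlow (fun η hη => by rw [map_sub, map_nsmul, hη, smul_zero, sub_zero]) with e | e <;>
      [skip; skip] <;> · have := congrArg f e; simp only [map_sub, map_add, map_nsmul, nsmul_eq_mul] at this; omega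
  obtain ⟨c, hc⟩ := W.exists_smul hφ hs h.ext h.eig
    (y := (φ Q.nb : Mat K N) *ᵥ q) (by
      have := Q.nb_weight W hq
      rwa [hsν, hsμ, add_sub_cancel_right] at this) hv0
  obtain ⟨c', hc'⟩ := W.exists_smul hφ hs hext hq
    (y := (φ Q.nb : Mat K N) *ᵥ v) (by
      have := Q.nb_weight W h.eig
      rwa [hsμ] at this) hq0
  exact ⟨hsμ, ⟨c, fun e => hnz q hq0 (by rw [hc, e, zero_smul]), hc⟩,
    ⟨c', fun e => hnz v hv0 (by rw [hc', e, zero_smul]), hc'⟩⟩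

/-- behaviour of the ends under an element carrying one torus direction to another -/
theorem transfer (hφ : Δ.IsRep φ) (hs : IsSimple φ) {μ : M} {v : Vec K N} (h : Q.Low W μ v) {D : ℕ}
    (hD : 0 < D) (hext : W.IsExt (μ + D • Δ.root Q.a))
    (htwo : ∀ m, W.IsExt m → Q.OnLine μ m → m = μ ∨ m = μ + D • Δ.root Q.a)
    {q : Vec K N} (hq : W.E (μ + D • Δ.root Q.a) *ᵥ q = q) (hq0 : q ≠ 0)
    {n : Γ} (hn : n ∈ Q.L) {p : ℕ} (hp0 : 0 < p) {η η' : M →+ ℤ} (hη : η (Δ.root Q.a) ≠ 0)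
    (hne : ∀ t, n * Δ.tau (cch (p • η) t) = Δ.tau (cch η' t) * n) :
    η' (Δ.root Q.a) = (p • η) (Δ.root Q.a) ∧ (∀ c : K, (φ n : Mat K N) *ᵥ q ≠ c • v) ∨
      η' (Δ.root Q.a) = -(p • η) (Δ.root Q.a) ∧ (∀ c : K, (φ n : Mat K N) *ᵥ v ≠ c • v) := by
  classical
  have hv0 := h.ne_zero
  have hnz : ∀ z : Vec K N, z ≠ 0 → (φ n : Mat K N) *ᵥ z ≠ 0 := fun z hz e => hz (by
    have := congrArg (fun w => (φ n⁻¹ : Mat K N) *ᵥ w) e
    simpa [Matrix.mulVec_mulVec] using this)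
  have heig : ∀ {m : M} {x : Vec K N}, W.E m *ᵥ x = x → ∀ {l : M}, W.E l *ᵥ ((φ n : Mat K N) *ᵥ x) ≠ 0 →
      η' l = (p • η) m := by
    intro m x hx l hl
    refine W.eigen_comp (fun t => ?_) hl
    rw [Matrix.mulVec_mulVec, ← Units.val_mul, ← map_mul, ← hne, map_mul, Units.val_mul, ← Matrix.mulVec_mulVec,
      W.tau_mulVec hx, Matrix.mulVec_smul, evH_cch]
  have hline : ∀ {m : M} {x : Vec K N}, W.E m *ᵥ x = x → Q.OnLine μ m → ∀ {l : M},
      W.E l *ᵥ ((φ n : Mat K N) *ᵥ x) ≠ 0 → Q.OnLine μ l := by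
    intro m x hx hm l hl
    refine Q.onLine_map W hn (fun k hk => ?_) hl
    by_contra hk'
    refine hk ?_
    rw [← hx, W.proj_proj]
    rintro rfl
    exact hk' hm
  have hDη : (p • η) (μ + D • Δ.root Q.a) ≠ (p • η) μ := by
    rw [map_add, map_nsmul]
    intro e
    simp only [AddMonoidHom.smul_apply, nsmul_eq_mul, add_eq_left, mul_eq_zero, Nat.cast_eq_zero] at e
    rcases e with e | e | e
    exacts [hD.ne' e, hp0.ne' e, hη e]
  have hline0 : Q.OnLine μ μ := fun _ _ => rfl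
  obtain ⟨l₁, -, hl₁⟩ := W.exists_proj_ne (hnz v hv0)
  obtain ⟨l₂, -, hl₂⟩ := W.exists_proj_ne (hnz q hq0)
  have e1 := heig h.eig hl₁
  have e2 := heig hq hl₂
  have ha : η' (Δ.root Q.a) ≠ 0 := fun e => hDη (by
    rw [← e1, ← e2, hline h.eig hline0 hl₁ η' e, hline hq (Q.onLine_add μ D) hl₂ η' e])
  have hsep : ∀ x y : M, Q.OnLine μ x → Q.OnLine μ y → η' x = η' y → x = y := fun x y hx hy e => by
    by_contra hne'
    obtain ⟨θ, hθ⟩ := H21Split.exists_dual_ne_zero (fun _ : Unit => x - y)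
    refine hθ () (sub_ne_zero.mpr hne') ?_
    have hz : (η' (Δ.root Q.a) • θ - θ (Δ.root Q.a) • η') (Δ.root Q.a) = 0 := by simp; ring
    have := (hx _ hz).trans (hy _ hz).symm
    simp only [AddMonoidHom.sub_apply, AddMonoidHom.smul_apply, smul_eq_mul, e] at this
    rw [map_sub]
    exact sub_eq_zero.mpr (mul_left_cancel₀ ha (by linarith))
  have hsingle : ∀ {m : M} {x : Vec K N}, W.E m *ᵥ x = x → Q.OnLine μ m → x ≠ 0 → (∀ g : Γ,
      (φ g : Mat K N) *ᵥ x ∈ Cone φ (⊤ : Subgroup Γ) v) → ∀ {l : M},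
      W.E l *ᵥ ((φ n : Mat K N) *ᵥ x) ≠ 0 → W.E l *ᵥ ((φ n : Mat K N) *ᵥ x) = (φ n : Mat K N) *ᵥ x ∧
        (l = μ ∨ l = μ + D • Δ.root Q.a) := by
    intro m x hx hm hx0 hcone l hl
    have hw : W.E l *ᵥ ((φ n : Mat K N) *ᵥ x) = (φ n : Mat K N) *ᵥ x := by
      conv_rhs => rw [← W.sum_proj ((φ n : Mat K N) *ᵥ x)]
      symm
      refine Finset.sum_eq_single l (fun l' _ hl' => ?_) fun h' => by rw [W.out _ h', Matrix.zero_mulVec]
      by_contra hne'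
      exact hl' (hsep _ _ (hline hx hm hne') (hline hx hm hl) ((heig hx hne').trans (heig hx hl).symm))
    exact ⟨hw, htwo l (W.ext_of_mem hφ hs h.ext h.eig hv0 (hcone n) hw (hnz x hx0)) (hline hx hm hl)⟩
  obtain ⟨hw₁, hcase₁⟩ := hsingle h.eig hline0 hv0 (fun g => by
    simpa using act_mem_cone (Subgroup.mem_top g) (mem_cone_self (φ := φ) ⊤ v) 1) hl₁
  obtain ⟨hw₂, hcase₂⟩ := hsingle hq (Q.onLine_add μ D) hq0 (fun g => by
    simpa using act_mem_cone (Subgroup.mem_top g) (W.ext_mem_cone hφ hs hext hq hv0) 1) hl₂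
  have hne12 : l₁ ≠ l₂ := fun e => hDη (by rw [← e1, ← e2, e])
  have hno : ∀ x : Vec K N, ∀ l, l ≠ μ → W.E l *ᵥ x = x → x ≠ 0 → ∀ c : K, x ≠ c • v := by
    intro x l hl hx hx0 c e
    refine hx0 (?_ : x = 0)
    rw [← hx, e, Matrix.mulVec_smul, ← h.eig, W.proj_proj v hl, smul_zero]
  have hμν : μ + D • Δ.root Q.a ≠ μ := fun e => hDη (by rw [e])
  have hDz : (D : ℤ) ≠ 0 := by exact_mod_cast hD.ne'
  rcases hcase₁ with rfl | rfl
  · have h2 : l₂ = l₁ + D • Δ.root Q.a := hcase₂.resolve_left (Ne.symm hne12)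
    subst h2
    refine Or.inl ⟨?_, hno _ _ hμν hw₂ (hnz q hq0)⟩
    simp only [map_add, map_nsmul, nsmul_eq_mul, e1] at e2
    exact mul_left_cancel₀ hDz (by linarith)
  · have h2 : l₂ = μ := hcase₂.resolve_right (Ne.symm hne12)
    subst h2
    refine Or.inr ⟨?_, hno _ _ hμν hw₁ (hnz v hv0)⟩
    simp only [map_add, map_nsmul, nsmul_eq_mul] at e1 e2
    exact mul_left_cancel₀ hDz (by linarith)

variable {N' : ℕ} {φ' : Γ →* GLk K N'} (W' : Δ.Wts φ')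

/-- elements fixing one moved extremal vector fix all the others -/
theorem fixed_of_fixed (hφ : Δ.IsRep φ) (hs : IsSimple φ) (hφ' : Δ.IsRep φ') (hs' : IsSimple φ')
    {μ : M} {v : Vec K N} (h : Q.Low W μ v) {μ' : M} {v' : Vec K N'} (h' : Q.Low W' μ' v') {p : K × K}
    (hp : (φ (Q.U p) : Mat K N) *ᵥ v = v) : (φ' (Q.U p) : Mat K N') *ᵥ v' = v' := by
  by_contra hmove
  obtain ⟨f, hf⟩ := Q.exists_pos
  obtain ⟨D, hD, hext, htwo, hpp, q, hq, hq0, hqfix⟩ := Q.exists_high W hφ hs h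
  obtain ⟨D', hD', hext', htwo', hpp', q', hq', hq0', -⟩ := Q.exists_high W' hφ' hs' h'
  obtain ⟨hsμ, ⟨c, hc0, hc⟩, -⟩ := Q.exists_swap W hφ hs h hD hext htwo hpp hq hq0
  obtain ⟨hsμ', -, c', hc0', hc'⟩ := Q.exists_swap W' hφ' hs' h' hD' hext' htwo' hpp' hq' hq0'
  let S := Q.L ⊓ Wts.lineStab φ v
  have hS : Δ.IsRClosed (S : Set Γ) := Q.isRClosed_L.inter Δ (Wts.isRClosed_lineStab hφ v)
  have hT : ∀ χ, Δ.tau χ ∈ S := fun χ => ⟨Q.tau_mem_L χ, W.tau_mem_lineStab h.eig χ⟩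
  have hU : Q.U p ∈ S := ⟨Q.U_mem_L p, Wts.mem_lineStab.mpr (by rw [hp]; exact Submodule.mem_span_singleton_self v)⟩
  have hE : Q.nb * Q.U p * Q.nb⁻¹ ∈ S := by
    refine ⟨Q.L.mul_mem (Q.L.mul_mem Q.nb_mem_L (Q.U_mem_L p)) (Q.L.inv_mem Q.nb_mem_L), Wts.mem_lineStab.mpr ?_⟩
    have hv : (φ Q.nb⁻¹ : Mat K N) *ᵥ v = c⁻¹ • q := by
      have := congrArg (fun z => c⁻¹ • ((φ Q.nb⁻¹ : Mat K N) *ᵥ z)) hc
      simp only [Matrix.mulVec_smul, Matrix.mulVec_mulVec, ← Units.val_mul, ← map_mul, inv_mul_cancel, map_one,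
        Units.val_one, Matrix.one_mulVec, smul_smul, inv_mul_cancel₀ hc0, one_smul] at this
      exact this.symm
    rw [map_mul, map_mul, Units.val_mul, Units.val_mul, ← Matrix.mulVec_mulVec, hv, Matrix.mulVec_smul,
      ← Matrix.mulVec_mulVec, hqfix, hc, smul_smul, inv_mul_cancel₀ hc0, one_smul]
    exact Submodule.mem_span_singleton_self v
  let C := Cone φ' S v'
  let F := (φ' (Q.U p) : Mat K N') *ᵥ v'
  have hF : W'.E (μ' + D' • Δ.root Q.a) *ᵥ F ≠ 0 := fun e => hmove ((hpp' p).2 e)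
  have hq'C : q' ∈ Cone φ' S v' := by
    have h1 : F ∈ Cone φ' S v' := by simpa using act_mem_cone hU (mem_cone_self (φ := φ') S v') 1
    have h2 := W'.top_mem hT h1 f (μ := μ' + D' • Δ.root Q.a) fun l _ hl h0 => by
      obtain ⟨k, hk, rfl⟩ := (hpp' p).1 l h0
      have hkD : (k : ℤ) < D' := by
        rcases hk.lt_or_eq with e | e
        · exact_mod_cast e
        · exact absurd (by rw [e]) hl
      simp only [map_add, map_nsmul, nsmul_eq_mul]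
      nlinarith
    obtain ⟨b, hb⟩ := W'.exists_smul hφ' hs' hext' (W'.proj_self _ F) hq' hF
    have hb0 : b ≠ 0 := by rintro rfl; exact hq0' (by rw [hb, zero_smul])
    have := act_mem_cone (one_mem S) h2 (Units.mk0 b hb0)
    rw [map_one, Units.val_one, Matrix.one_mulVec, Units.val_mk0, ← hb] at this
    exact this
  have hv'C : v' ∈ Cone φ' S q' := by
    have hq'' : (φ' Q.nb⁻¹ : Mat K N') *ᵥ q' = c'⁻¹ • v' := by
      have := congrArg (fun z => c'⁻¹ • ((φ' Q.nb⁻¹ : Mat K N') *ᵥ z)) hc'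
      simp only [Matrix.mulVec_smul, Matrix.mulVec_mulVec, ← Units.val_mul, ← map_mul, inv_mul_cancel, map_one,
        Units.val_one, Matrix.one_mulVec, smul_smul, inv_mul_cancel₀ hc0', one_smul] at this
      exact this.symm
    let Y := (φ' Q.nb : Mat K N') *ᵥ F
    have h1 : c'⁻¹ • Y ∈ Cone φ' S q' := by
      have := act_mem_cone hE (mem_cone_self (φ := φ') S q') 1
      rwa [Units.val_one, one_smul, map_mul, map_mul, Units.val_mul, Units.val_mul, ← Matrix.mulVec_mulVec, hq'',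
        Matrix.mulVec_smul, ← Matrix.mulVec_mulVec] at this
    have hμ : Q.s (μ' + D' • Δ.root Q.a) = μ' := by
      rw [map_add, hsμ', map_nsmul, Q.s_neg, smul_neg, add_neg_cancel_right]
    have hne : W'.E μ' *ᵥ (c'⁻¹ • Y) ≠ 0 := by
      rw [Matrix.mulVec_smul, smul_ne_zero_iff]
      refine ⟨inv_ne_zero hc0', ?_⟩
      rw [← hμ, Q.nb_proj W']
      intro e
      apply hF
      have := congrArg (fun w => (φ' Q.nb⁻¹ : Mat K N') *ᵥ w) e
      simpa [Matrix.mulVec_mulVec] using this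
    have h2 := W'.top_mem hT h1 (-f) (μ := μ') fun l _ hl h0 => by
      have hl' : W'.E (Q.s (Q.s l)) *ᵥ Y ≠ 0 := fun e => h0 (by
        rw [Q.s_inv] at e; rw [Matrix.mulVec_smul, e, smul_zero])
      rw [Q.nb_proj W'] at hl'
      obtain ⟨k, hk, hsl⟩ := (hpp' p).1 (Q.s l) fun e => hl' (by rw [e, Matrix.mulVec_zero])
      have hl2 : l = μ' + D' • Δ.root Q.a - k • Δ.root Q.a := by
        rw [← Q.s_inv l, hsl, map_add, hsμ', map_nsmul, Q.s_neg, smul_neg, sub_eq_add_neg]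
      subst hl2
      have hkD : (k : ℤ) < D' := by
        rcases hk.lt_or_eq with e | e
        · exact_mod_cast e
        · exact absurd (by rw [e, add_sub_cancel_right]) hl
      simp only [AddMonoidHom.neg_apply, map_sub, map_add, map_nsmul, nsmul_eq_mul]
      nlinarith
    obtain ⟨b, hb⟩ := W'.exists_smul hφ' hs' h'.ext (W'.proj_self _ (c'⁻¹ • Y)) h'.eig hne
    have hb0 : b ≠ 0 := by rintro rfl; exact (h'.ne_zero) (by rw [hb, zero_smul])
    have := act_mem_cone (one_mem S) h2 (Units.mk0 b hb0)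
    rw [map_one, Units.val_one, Matrix.one_mulVec, Units.val_mk0, ← hb] at this
    exact this
  obtain ⟨g, hg, d, hgd⟩ := Δ.exists_move hφ' hS (coneIdeal_eq hq'C hv'C)
  let η : M →+ ℤ := -f
  let S' := S ⊓ Wts.lineStab φ' v'
  obtain ⟨w, hw, hcom⟩ := Δ.exists_conj_tau (S := S') (hS.inter Δ (Wts.isRClosed_lineStab hφ' v'))
    (fun χ => ⟨hT χ, W'.tau_mem_lineStab h'.eig χ⟩) g η fun t => ⟨S.mul_mem (S.mul_mem hg (hT _)) (S.inv_mem hg),
      Wts.mem_lineStab.mpr (by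
        have hgi : (φ' g⁻¹ : Mat K N') *ᵥ v' = ((d⁻¹ : Kˣ) : K) • q' := by
          have := congrArg (fun z => ((d⁻¹ : Kˣ) : K) • ((φ' g⁻¹ : Mat K N') *ᵥ z)) hgd
          simp only [Matrix.mulVec_smul, Matrix.mulVec_mulVec, smul_smul, ← Units.val_mul, inv_mul_cancel,
            Units.val_one, one_smul, ← map_mul, map_one, Matrix.one_mulVec] at this
          exact this.symm
        rw [map_mul, map_mul, Units.val_mul, Units.val_mul, ← Matrix.mulVec_mulVec, hgi, Matrix.mulVec_smul,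
          ← Matrix.mulVec_mulVec, W'.tau_mulVec hq', Matrix.mulVec_smul, hgd, smul_smul, smul_smul]
        exact Submodule.smul_mem _ _ (Submodule.mem_span_singleton_self v'))⟩
  obtain ⟨k, η', hk, hn⟩ := Δ.exists_transport hcom
  have hnS : w * g ∈ S := S.mul_mem hw.1 hg
  obtain ⟨b₁, hb₁⟩ := Submodule.mem_span_singleton.mp (Wts.mem_lineStab.mp hnS.2)
  obtain ⟨b₂, hb₂⟩ := Submodule.mem_span_singleton.mp (Wts.mem_lineStab.mp hw.2)
  have hηa : η (Δ.root Q.a) ≠ 0 := by simp [η]; omega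
  have hka : (k • η) (Δ.root Q.a) ≠ 0 := by
    rw [AddMonoidHom.smul_apply, nsmul_eq_mul]
    exact mul_ne_zero (by exact_mod_cast hk.ne') hηa
  have r1 := (Q.transfer W hφ hs h hD hext htwo hq hq0 hnS.1 hk hηa hn).resolve_right fun e => e.2 b₁ hb₁.symm
  have r2 := (Q.transfer W' hφ' hs' h' hD' hext' htwo' hq' hq0' hnS.1 hk hηa hn).resolve_left fun e => by
    refine e.2 ((d : K) * b₂) ?_
    rw [map_mul, Units.val_mul, ← Matrix.mulVec_mulVec, hgd, Matrix.mulVec_smul, ← hb₂, smul_smul]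
  have := r1.1.symm.trans r2.1
  omega

end Pair

variable [IsAlgClosed K] [Module.Finite ℤ M] [Module.Free ℤ M] [Finite ι]

/-- **Some curve of the two root groups acts trivially on all simple representations.** -/
theorem Pair.exists_trivial_curve (Q : Δ.Pair) :
    ∃ p : K × K, p ≠ 0 ∧ ∀ (N : ℕ) (φ : Γ →* GLk K N), Δ.IsRep φ → IsSimple φ →
      ∀ s, φ (Q.U (Pair.scale s p)) = 1 := by
  classical
  obtain ⟨p, hp0, hp⟩ : ∃ p : K × K, p ≠ 0 ∧ ∀ (N : ℕ) (φ : Γ →* GLk K N), Δ.IsRep φ → IsSimple φ →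
      ∀ (W : Δ.Wts φ) (μ : M) (v : Vec K N), Q.Low W μ v → (φ (Q.U p) : Mat K N) *ᵥ v = v := by
    by_cases hex : ∃ (N : ℕ) (φ : Γ →* GLk K N) (W : Δ.Wts φ) (μ : M) (v : Vec K N),
        Δ.IsRep φ ∧ IsSimple φ ∧ Q.Low W μ v
    · obtain ⟨N, φ, W, μ, v, hφ, hs, hlow⟩ := hex
      obtain ⟨p, hp0, hp⟩ := Q.exists_fixed W hφ hs hlow
      exact ⟨p, hp0, fun N' φ' hφ' hs' W' μ' v' h' => Q.fixed_of_fixed W W' hφ hs hφ' hs' hlow h' hp⟩
    · exact ⟨(1, 0), fun e => one_ne_zero (congrArg Prod.fst e),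
        fun N φ hφ hs W μ v h => absurd ⟨N, φ, W, μ, v, hφ, hs, h⟩ hex⟩
  refine ⟨p, hp0, fun N φ hφ hs s => ?_⟩
  obtain ⟨W⟩ := Δ.exists_wts hφ
  have hfix : ∀ {N : ℕ} {φ : Γ →* GLk K N}, Δ.IsRep φ → IsSimple φ → ∀ (W : Δ.Wts φ) (μ : M), W.IsExt μ →
      ∀ (v : Vec K N) (s : K), W.E μ *ᵥ v = v → (φ (Q.U (Pair.scale s p)) : Mat K N) *ᵥ v = v := by
    intro N φ hφ hs W μ hμ v s hv
    refine Q.fixed_scale W hv ?_ s
    by_contra hne
    exact hne (hp N φ hφ hs W μ v ⟨hμ, hv, p, hne⟩)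
  refine W.curve_trivial hφ hs (fun s => Q.U (Pair.scale s p)) (fun i j => ?_) ?_ (fun μ hμ s => ?_) s
  · obtain ⟨A, hA⟩ : ∃ A : Fin N → Polynomial K, ∀ l y, (φ (Δ.u Q.a y) : Mat K N) i l = (A l).eval y :=
      ⟨fun l => (Δ.poly_u' (hφ i l) Q.a).choose, fun l y => (Δ.poly_u' (hφ i l) Q.a).choose_spec y⟩
    obtain ⟨B, hB⟩ : ∃ B : Fin N → Polynomial K, ∀ l y, (φ (Δ.u Q.b y) : Mat K N) l j = (B l).eval y :=
      ⟨fun l => (Δ.poly_u' (hφ l j) Q.b).choose, fun l y => (Δ.poly_u' (hφ l j) Q.b).choose_spec y⟩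
    refine ⟨∑ l, (A l).comp (Polynomial.X * Polynomial.C p.1) *
      (B l).comp (Polynomial.X * Polynomial.X * Polynomial.C p.2), fun s => ?_⟩
    rw [Pair.U, Pair.scale, map_mul, Units.val_mul, Matrix.mul_apply, Polynomial.eval_finsetSum]
    exact Finset.sum_congr rfl fun l _ => by
      rw [Polynomial.eval_mul, Polynomial.eval_comp, Polynomial.eval_comp, hA, hB]
      simp [mul_comm s p.1]
  · simp only [Pair.scale, zero_mul]
    exact Q.U_zero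
  · have hd : ∀ x, W.dual.E (-μ) *ᵥ x = x → (dualRep φ (Q.U (Pair.scale s p)) : Mat K N) *ᵥ x = x := fun x hx =>
      hfix (isRep_dualRep hφ) (isSimple_dualRep hs) W.dual (-μ) hμ.dual x s hx
    have h1 : (dualRep φ (Q.U (Pair.scale s p)) : Mat K N) * W.dual.E (-μ) = W.dual.E (-μ) :=
      Matrix.ext_iff_mulVec.mpr fun x => by rw [← Matrix.mulVec_mulVec, hd _ (W.dual.proj_self _ x)]
    have hEd : W.dual.E (-μ) = (W.E μ)ᵀ := by show (W.E (- -μ))ᵀ = _; rw [neg_neg]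
    rw [hEd, dualRep_coe, ← Matrix.transpose_mul] at h1
    have h2 := Matrix.transpose_injective h1
    conv_lhs => rw [← h2]
    rw [mul_assoc, ← Units.val_mul, ← map_mul, inv_mul_cancel, map_one, Units.val_one, Matrix.mul_one]

end Data

end Groth.Agent.H21Red0
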