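import Groth.Agent.H21Split.Red0.Line
import Groth.Agent.H21Split.CellMap
import Groth.Agent.H21Split.RootConj
import Groth.Agent.H21Split.CommGlobal
import Groth.Agent.H21Split.Bru.Fibre
import Groth.Agent.H20Borel.Gen

/-!
The rational points of a geometric fibre of a split reductive group as abstract data.
-/

open CategoryTheory MonoidalCategory CartesianMonoidalCategory MonObj GrpObj AlgebraicGeometry
open CategoryTheory.Limits
open Groth.Agent.H21Split Groth.Agent.H27Witt H20Mu
open H20Conj (GLk Mat Vec)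

universe u

set_option backward.isDefEq.respectTransparency false
set_option linter.style.haveILetI false
set_option linter.unusedSectionVars false
set_option synthInstance.maxHeartbeats 400000

noncomputable section

namespace Groth.Agent.H21Red0

variable {S : Scheme.{u}} {K : Type u} [Field K] (g : Spec (CommRingCat.of K) ⟶ S) {G : Over S} [GrpObj G]

local notation "Γp" => (𝟙_ (Over (Sk K)) ⟶ Red.bc g G)

/-- the affine test object of the field is the terminal object -/
def e0 : affO (R := K) K ≅ 𝟙_ (Over (Sk K)) :=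
  Over.isoMk (Iso.refl (Spec (CommRingCat.of K))) (by
    have h : Spec.map (CommRingCat.ofHom (algebraMap K K)) = 𝟙 (Spec (CommRingCat.of K)) := by
      rw [Algebra.algebraMap_self, CommRingCat.ofHom_id, Spec.map_id]
    simp only [Iso.refl_hom, Over.tensorUnit_hom, Over.mk_hom, h]
    exact Category.id_comp _)

/-- rational points of the fibre as points of the group -/
def theta : Γp →* (pt g K ⟶ G) :=
  (fibHom g K G).comp (MonoidHom.mk' (fun x : Γp => e0.hom ≫ x) fun x y => MonObj.comp_mul e0.hom x y)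

theorem theta_bijective : Function.Bijective (theta (K := K) g (G := G)) := by
  refine ((fibEquiv g K G).bijective.comp ⟨fun x y h => (cancel_epi e0.hom).mp h, fun y => ⟨e0.inv ≫ y, ?_⟩⟩)
  exact e0.hom_inv_id_assoc y

/-- rational points of the fibre are points of the group -/
def thetaEquiv : Γp ≃* (pt g K ⟶ G) := MulEquiv.ofBijective (theta g) (theta_bijective g)

theorem toPb_theta (x : Γp) : toPb g (theta g x) = x.left := by
  refine pullback.hom_ext ?_ ?_
  · rw [toPb_fst]
    have h := H21Diag.bcEquiv_left_fst g G (affO K) (theta g x)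
    rw [show H21Diag.bcEquiv g G (affO K) (theta g x) = e0.hom ≫ x from
      (H21Diag.bcEquiv g G (affO K)).apply_symm_apply _] at h
    refine h.symm.trans ?_
    change (𝟙 _ ≫ x.left) ≫ _ = _
    rw [Category.id_comp]
  · rw [toPb_snd]
    refine Eq.trans ?_ (Over.w x).symm
    exact Spec.map_id _

theorem fn_theta (x : Γp) (F : Fn (Red.bc g G)) : fn g (theta g x) F = val x F := by
  change ((toPb g (theta g x)).appTop ≫ (Scheme.ΓSpecIso (CommRingCat.of K)).hom) F = _
  rw [toPb_theta]
  rfl

theorem val_symm (φ : pt g K ⟶ G) (F : Fn (Red.bc g G)) : val ((thetaEquiv g).symm φ) F = fn g φ F := by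
  rw [← fn_theta]
  exact congrArg (fun y => fn g y F) ((thetaEquiv g).apply_symm_apply φ)

variable (D : Red.SplitRed G)

/-- the torus points -/
def tauHom : Tpt K D.M →* Γp :=
  (thetaEquiv g).symm.toMonoidHom.comp
    (MonoidHom.mk' (fun χ : Tpt K D.M => tPt g D ((Units.coeHom K).comp χ)) fun χ χ' => by
      rw [← tPt_mul]; rfl)

theorem theta_tau (χ : Tpt K D.M) : theta g (tauHom g D χ) = tPt g D ((Units.coeHom K).comp χ) :=
  (thetaEquiv g).apply_symm_apply _

/-- the root points -/
def uFun (c : D.idx) (x : K) : Γp := (thetaEquiv g).symm (uPt g D c x)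

theorem theta_u (c : D.idx) (x : K) : theta g (uFun g D c x) = uPt g D c x := (thetaEquiv g).apply_symm_apply _

theorem poly_uFun (c : D.idx) (F : Fn (Red.bc g G)) :
    ∃ P : Polynomial K, ∀ x, val (uFun g D c x) F = P.eval x :=
  ⟨fn g (uPt g D c (Polynomial.X : Polynomial K)) F, fun x => by
    rw [uFun, val_symm, ← Polynomial.coe_aeval_eq_eval]
    conv_lhs => rw [show x = Polynomial.aeval x (Polynomial.X : Polynomial K) from (Polynomial.aeval_X x).symm,
      ← pmap_uPt, fn_pmap]
    rfl⟩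

theorem poly_tauHom (F : Fn (Red.bc g G)) : ∃ P : MonoidAlgebra K (Multiplicative D.M), ∀ χ : Tpt K D.M,
    val (tauHom g D χ) F = MonoidAlgebra.lift K K (Multiplicative D.M) ((Units.coeHom K).comp χ) P :=
  ⟨fn g (tPt g D (MonoidAlgebra.of K (Multiplicative D.M))) F, fun χ => by
    rw [← fn_theta, theta_tau]
    conv_lhs => rw [show (Units.coeHom K).comp χ =
      (MonoidAlgebra.lift K K (Multiplicative D.M) ((Units.coeHom K).comp χ)).toRingHom.toMonoidHom.comp
        (MonoidAlgebra.of K (Multiplicative D.M)) from MonoidHom.ext fun m => (MonoidAlgebra.lift_of _ _).symm,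
      ← pmap_tPt, fn_pmap]
    rfl⟩

theorem conj_uFun (χ : Tpt K D.M) (c : D.idx) (x : K) :
    tauHom g D χ * uFun g D c x * (tauHom g D χ)⁻¹ = uFun g D c (evH (D.P.root c) χ * x) := by
  apply (theta_bijective g).1
  simp only [map_mul, map_inv, theta_tau, theta_u, tPt_conj]
  rfl

theorem tauHom_injective : Function.Injective (tauHom g D) := fun χ χ' h => by
  have h1 := congrArg (theta g) h
  rw [theta_tau, theta_tau] at h1
  exact MonoidHom.ext fun m => Units.ext (DFunLike.congr_fun (tPt_injective g D h1) m)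

/-- the group of rational points generated by root groups on which a functional is positive -/
abbrev PosG (ν : D.M →+ ℤ) : Subgroup Γp :=
  Subgroup.closure {z | ∃ c x, 0 < ν (D.P.root c) ∧ uFun g D c x = z}

/-- the rational points of the big cell of a functional -/
def InCell (ν : D.M →+ ℤ) (z : Γp) : Prop :=
  ∃ v ∈ Subgroup.closure {z | ∃ c x, ν (D.P.root c) < 0 ∧ uFun g D c x = z}, ∃ χ,
    ∃ w ∈ PosG g D ν, z = v * tauHom g D χ * w

theorem theta_uProd_mem {p : D.idx → Prop} {n : ℕ} (e : Fin n → D.idx) (he : ∀ k, p (e k)) (x : Fin n → K) :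
    (thetaEquiv g).symm (uProd g D e x) ∈ Subgroup.closure {z | ∃ c x, p c ∧ uFun g D c x = z} := by
  rw [uProd, map_list_prod]
  refine list_prod_mem fun z hz => ?_
  rw [List.map_ofFn, List.mem_ofFn] at hz
  obtain ⟨k, rfl⟩ := hz
  exact Subgroup.subset_closure ⟨e k, x k, he k, rfl⟩

variable [IsAlgClosed K] [IsAffine (Red.bc g G).left] [Smooth (Red.bc g G).hom] [ConnectedSpace (Red.bc g G).left]

/-- the big cell of a regular functional contains a principal open set -/
theorem exists_cell_fn (ν : D.M →+ ℤ) (hν : ∀ c, ν (D.P.root c) ≠ 0) :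
    ∃ h : Fn (Red.bc g G), h ≠ 0 ∧ ∀ z : Γp, val z h ≠ 0 → InCell g D ν z := by
  classical
  haveI := D.fintypeIdx
  let n := Fintype.card {c // ν (D.P.root c) < 0}
  let m := Fintype.card {c // 0 < ν (D.P.root c)}
  let en : Fin n → D.idx := fun k => ((Fintype.equivFin {c // ν (D.P.root c) < 0}).symm k).1
  let ep : Fin m → D.idx := fun k => ((Fintype.equivFin {c // 0 < ν (D.P.root c)}).symm k).1
  have hren : Set.range en = {c | ν (D.P.root c) < 0} := by
    ext c
    exact ⟨by rintro ⟨k, rfl⟩; exact ((Fintype.equivFin {c // ν (D.P.root c) < 0}).symm k).2,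
      fun hc => ⟨Fintype.equivFin _ ⟨c, hc⟩, by simp [en]⟩⟩
  have hrep : Set.range ep = {c | 0 < ν (D.P.root c)} := by
    ext c
    exact ⟨by rintro ⟨k, rfl⟩; exact ((Fintype.equivFin {c // 0 < ν (D.P.root c)}).symm k).2,
      fun hc => ⟨Fintype.equivFin _ ⟨c, hc⟩, by simp [ep]⟩⟩
  have hen : ∀ k, ν (D.P.root (en k)) < 0 := fun k => ((Fintype.equivFin {c // ν (D.P.root c) < 0}).symm k).2
  have hep : ∀ k, 0 < ν (D.P.root (ep k)) := fun k => ((Fintype.equivFin {c // 0 < ν (D.P.root c)}).symm k).2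
  have hne : Function.Injective en := Subtype.val_injective.comp (Equiv.injective _)
  have hpe : Function.Injective ep := Subtype.val_injective.comp (Equiv.injective _)
  have hD : IsCellData D en ep := by
    refine ⟨hne, hpe, ⟨fun a b c ha hb he => ?_, fun a b ha he hb => ?_⟩,
      ⟨fun a b c ha hb he => ?_, fun a b ha he hb => ?_⟩, ⟨ν, hen, hep⟩⟩
    all_goals
      simp only [hren, hrep, Set.mem_ofPred_eq] at *
      have := congrArg ν he
      simp only [map_add, map_neg] at this
      omega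
  have hbij : Function.Bijective (Sum.elim en ep) :=
    ⟨hne.sumElim hpe fun k l e => absurd (e ▸ hen k) (not_lt.mpr (hep l).le), fun c => by
      rcases lt_or_gt_of_ne (hν c) with h | h
      · obtain ⟨k, hk⟩ : c ∈ Set.range en := hren ▸ h
        exact ⟨Sum.inl k, hk⟩
      · obtain ⟨k, hk⟩ : c ∈ Set.range ep := hrep ▸ h
        exact ⟨Sum.inr k, hk⟩⟩
  haveI := isOpenImmersion_cellMap D en ep hD hbij
  let f := (RedSub.cellMap D en ep).left
  let q : (Red.bc g G).left ⟶ G.left := pullback.fst G.hom g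
  let V : (Red.bc g G).left.Opens := q ⁻¹ᵁ f.opensRange
  have hfac : ∀ z : Γp, z.left (IsLocalRing.closedPoint K) ∈ V → InCell g D ν z := by
    intro z hz
    have hr : Set.range (theta g z).left ⊆ Set.range f := by
      rintro _ ⟨t, rfl⟩
      obtain rfl : t = IsLocalRing.closedPoint K := Subsingleton.elim (α := PrimeSpectrum K) _ _
      have he : (theta g z).left = z.left ≫ q := by rw [← toPb_theta, toPb_fst]
      rw [he]
      exact hz
    let w : pt g K ⟶ RedSub.pow (Red.Ga S) n ⊗ (D.T ⊗ RedSub.pow (Red.Ga S) m) :=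
      Over.homMk (IsOpenImmersion.lift f (theta g z).left hr) (by
        rw [← Over.w (RedSub.cellMap D en ep), ← Category.assoc, IsOpenImmersion.lift_fac]
        exact Over.w (theta g z))
    have hw : w ≫ RedSub.cellMap D en ep = theta g z :=
      Over.OverMorphism.ext (IsOpenImmersion.lift_fac f (theta g z).left hr)
    haveI := isAffineHom_hom D
    obtain ⟨χ, hχ⟩ := exists_tPt g D (w ≫ snd _ _ ≫ fst _ _)
    rw [comp_cellMap g D en ep w χ hχ, cellPt] at hw
    have hu : (Units.coeHom K).comp χ.toHomUnits = χ := MonoidHom.ext fun m => MonoidHom.coe_toHomUnits χ m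
    refine ⟨_, theta_uProd_mem g D en hen (gvs g (w ≫ fst _ _)), χ.toHomUnits,
      _, theta_uProd_mem g D ep hep (gvs g (w ≫ snd _ _ ≫ snd _ _)), (theta_bijective g).1 ?_⟩
    rw [← hw, map_mul, map_mul, theta_tau, hu, _root_.mul_assoc]
    congr 1
    · exact ((thetaEquiv g).apply_symm_apply _).symm
    · congr 1
      exact ((thetaEquiv g).apply_symm_apply _).symm
  have hone : (1 : Γp).left (IsLocalRing.closedPoint K) ∈ V := by
    haveI := isAffineHom_hom D
    let w : pt g K ⟶ RedSub.pow (Red.Ga S) n ⊗ (D.T ⊗ RedSub.pow (Red.Ga S) m) :=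
      lift (gas g 0) (lift (ds g 1 ≫ D.split.inv.hom.hom) (gas g 0))
    have hw : w ≫ RedSub.cellMap D en ep = 1 := by
      rw [comp_cellMap g D en ep w 1 (by simp only [w, lift_snd_assoc, lift_fst, tPt, Category.assoc]),
        cellPt, lift_fst, lift_snd_assoc, lift_snd, gvs_gas, gvs_gas, uProd_zero, uProd_zero, tPt_one, _root_.mul_one,
        _root_.mul_one]
    have he : (1 : Γp).left ≫ q = w.left ≫ f := by
      rw [← toPb_theta g (1 : Γp), toPb_fst, map_one, ← hw]
      rfl
    exact ⟨w.left (IsLocalRing.closedPoint K),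
      congrArg (fun r : Spec (CommRingCat.of K) ⟶ G.left => r (IsLocalRing.closedPoint K)) he.symm⟩
  obtain ⟨h, hle, hmem⟩ := (isAffineOpen_top (Red.bc g G).left).exists_basicOpen_le (V := V)
    ⟨(1 : Γp).left (IsLocalRing.closedPoint K), hone⟩ trivial
  refine ⟨h, fun h0 => ?_, fun z hz => hfac z (hle ?_)⟩
  · rw [show h = 0 from h0, Scheme.basicOpen_zero] at hmem
    exact hmem.elim
  · change IsLocalRing.closedPoint K ∈ z.left ⁻¹ᵁ (Red.bc g G).left.basicOpen h
    rw [Scheme.preimage_basicOpen]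
    have hu : IsUnit (z.left.appTop h) := by
      have := (isUnit_iff_ne_zero.mpr hz).map (struct (T0 K))
      rwa [show struct (T0 K) (val z h) = z.left.appTop h from struct_gamma _] at this
    exact (Scheme.basicOpen_of_isUnit _ hu).ge trivial

theorem exists_cell_meet (ν : D.M →+ ℤ) (hν : ∀ c, ν (D.P.root c) ≠ 0) (z : Γp) :
    ∃ x : Γp, InCell g D ν x ∧ InCell g D ν (z * x) := by
  haveI := Fn.isDomain (Red.bc g G)
  obtain ⟨h, hh, hcell⟩ := exists_cell_fn g D ν hν
  have hne : Fn.pull (H20Borel.lg _ z) h ≠ 0 := fun h0 => hh (Fn.ext_points fun (x : Γp) => by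
    have := congrArg (val (z⁻¹ * x)) h0
    rw [val_pull, H20Borel.comp_lg, mul_inv_cancel_left, map_zero] at this
    exact this.trans (map_zero (Fn.ev x)).symm)
  by_contra hcon
  push Not at hcon
  refine mul_ne_zero hh hne (Fn.ext_points fun (x : Γp) => ?_)
  show val x (h * _) = val x 0
  rw [map_mul, map_zero, val_pull, H20Borel.comp_lg]
  by_contra hx
  exact hcon x (hcell x (left_ne_zero_of_mul hx)) (hcell _ (right_ne_zero_of_mul hx))

theorem eq_zero_of_cell (ν : D.M →+ ℤ) (hν : ∀ c, ν (D.P.root c) ≠ 0) (F : Fn (Red.bc g G))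
    (hF : ∀ z : Γp, InCell g D ν z → val z F = 0) : F = 0 := by
  haveI := Fn.isDomain (Red.bc g G)
  obtain ⟨h, hh, hcell⟩ := exists_cell_fn g D ν hν
  refine (mul_eq_zero.mp (Fn.ext_points fun (x : Γp) => ?_ : h * F = 0)).resolve_left hh
  show val x (h * F) = val x 0
  rw [map_mul, map_zero]
  by_contra hx
  exact right_ne_zero_of_mul hx (hF x (hcell x (left_ne_zero_of_mul hx)))

/-- the evaluation of functions on rational points -/
def evalFn : Fn (Red.bc g G) →ₐ[K] (Γp → K) := AlgHom.pi fun z => val z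

theorem val_inv (z : Γp) (F : Fn (Red.bc g G)) : val z⁻¹ F = val z (Fn.pull (𝟙 (Red.bc g G))⁻¹ F) := by
  rw [val_pull, GrpObj.comp_inv, Category.comp_id]

theorem regFn_le {N : ℕ} (φ : Γp →* GLk K N) (F : Fin N → Fin N → Fn (Red.bc g G))
    (hF : ∀ z p q, (φ z : Mat K N) p q = val z (F p q)) : regFn φ ≤ (evalFn g).range := by
  refine Algebra.adjoin_le ?_
  rintro _ ⟨(pq | pq), rfl⟩
  · exact ⟨F pq.1 pq.2, funext fun z => (hF z _ _).symm⟩
  · exact ⟨Fn.pull (𝟙 (Red.bc g G))⁻¹ (F pq.1 pq.2), funext fun z => ((hF z⁻¹ _ _).trans (val_inv g z _)).symm⟩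

/-- the data of rational points -/
theorem exists_data : ∃ Δ : Data K D.M Γp D.idx, Δ.root = D.P.root ∧ Δ.tau = tauHom g D ∧ Δ.u = uFun g D ∧
    ∀ f ∈ Δ.R, ∃ F : Fn (Red.bc g G), ∀ z, f z = val z F := by
  obtain ⟨N, φ, F, hinj, hcl, hval⟩ := H20Conj.exists_rep (Red.bc g G)
  refine ⟨{
    N₀ := N
    φ₀ := φ
    inj := hinj
    closed := hcl
    root := D.P.root
    root_ne := fun c => D.P.ne_zero c
    tau := tauHom g D
    tau_inj := tauHom_injective g D
    u := uFun g D
    u_add := fun c x y => (theta_bijective g).1 (by rw [map_mul, theta_u, theta_u, theta_u, uPt_add])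
    conj := conj_uFun g D
    poly_u := fun c p q => ?_
    poly_tau := fun p q => ?_
    dense := fun ν hν f hf h0 => ?_
    meet := fun ν hν z => ?_ }, rfl, rfl, rfl, fun f hf => ?_⟩
  · obtain ⟨P, hP⟩ := poly_uFun g D c (F p q)
    exact ⟨P, fun x => (hval _ p q).trans (hP x)⟩
  · obtain ⟨P, hP⟩ := poly_tauHom g D (F p q)
    exact ⟨P, fun χ => (hval _ p q).trans (hP χ)⟩
  · obtain ⟨Ff, rfl⟩ := regFn_le g φ F hval hf
    rw [eq_zero_of_cell g D ν hν Ff fun z hz => ?_, map_zero]
    obtain ⟨v, hv, χ, w, hw, rfl⟩ := hz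
    exact h0 v hv χ w hw
  · obtain ⟨x, ⟨v, hv, χ, w, hw, rfl⟩, v', hv', χ', w', hw', h⟩ := exists_cell_meet g D ν hν z
    exact ⟨v, hv, χ, w, hw, v', hv', χ', w', hw', h⟩
  · obtain ⟨Ff, rfl⟩ := regFn_le g φ F hval hf
    exact ⟨Ff, fun z => rfl⟩

theorem mult_le_two {a c : D.idx} {k : ℕ} (hk : D.P.root c = (k : ℤ) • D.P.root a) : k ≤ 2 := by
  have h1 : D.P.toLinearMap (D.P.root c) (D.P.coroot c) = 2 := D.P.root_coroot_two c
  rw [hk, map_zsmul, LinearMap.smul_apply, smul_eq_mul] at h1
  have h2 : (k : ℤ) ∣ 2 := ⟨_, h1.symm⟩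
  have := Int.le_of_dvd (by norm_num) h2
  omega

theorem exists_pair (Δ : Data K D.M Γp D.idx) (hroot : Δ.root = D.P.root) (htau : Δ.tau = tauHom g D)
    (hu : Δ.u = uFun g D) {a b : D.idx} (hab : D.P.root b = D.P.root a + D.P.root a) :
    ∃ Q : Δ.Pair, Q.a = a ∧ Q.b = b := by
  haveI := isAffineHom_hom D
  have ha0 : D.P.root a ≠ 0 := D.P.ne_zero a
  haveI : IsAddTorsionFree D.M := .of_isTorsionFree ℤ D.M
  have hlin : ∀ p q : ℕ, (p : ℤ) • D.P.root a + (q : ℤ) • D.P.root b = ((p + 2 * q : ℕ) : ℤ) • D.P.root a := by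
    intro p q
    rw [hab]; push_cast; module
  obtain ⟨C, hC, -⟩ := existsUnique_comm_core D g a b (fun p q hp hq h0 => by
      rw [hlin, smul_eq_zero] at h0
      rcases h0 with h0 | h0
      · omega
      · exact ha0 h0) (Fin.elim0 : Fin 0 → D.idx) Fin.elim0 Fin.elim0 (fun i => i.elim0) (fun i => i.elim0)
    (fun c p q hp hq hc => absurd (mult_le_two D (hc.trans (hlin p q))) (by omega))
  obtain ⟨n, hn⟩ := D.refl b
  have hact := actsBy_of_global g D b n hn K
  have hs : ∀ m, sMap D b m = m - D.P.toLinearMap m (D.P.coroot b) • D.P.root b := fun m =>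
    D.P.reflection_apply b m
  have h1 : D.P.toLinearMap (D.P.root a) (D.P.coroot b) = 1 := by
    have h2 : D.P.toLinearMap (D.P.root b) (D.P.coroot b) = 2 := D.P.root_coroot_two b
    rw [hab, map_add, LinearMap.add_apply] at h2
    omega
  refine ⟨{
    a := a
    b := b
    two := by rw [hroot]; exact hab
    comm := fun x y => ?_
    nb := (thetaEquiv g).symm (pmap g (toBase K K) ≫ toUnit (pt g K) ≫ n)
    s := sMap D b
    s_inv := sMap_sMap D b
    nb_tau := fun χ => ?_
    s_neg := by
      rw [hroot, hs, h1, one_smul, hab]; abel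
    s_line := fun m ν hν => ?_ }, rfl, rfl⟩
  · rw [hu]
    apply (theta_bijective g).1
    rw [map_mul, map_mul, theta_u, theta_u]
    have := hC K x y
    rw [List.ofFn_zero, List.prod_nil, _root_.mul_one, mul_inv_eq_iff_eq_mul] at this
    exact this
  · rw [htau]
    apply (theta_bijective g).1
    rw [map_mul, map_mul, theta_tau, theta_tau, show ∀ y, theta g ((thetaEquiv g).symm y) = y from
      (thetaEquiv g).apply_symm_apply]
    exact mul_inv_eq_iff_eq_mul.mp (hact ((Units.coeHom K).comp χ))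
  · rw [hroot] at hν
    rw [hs, map_sub, map_zsmul, hab, map_add, hν, add_zero, smul_zero, sub_zero]

end Groth.Agent.H21Red0
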