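import Groth.Agent.H21Split.Red0.Data
import Groth.Agent.H21Split.Levi
import Groth.Agent.H20Conj.Main

/-!
Closed sets of points, moving vectors with equal cones, conjugating one-parameter subgroups into the centraliser
of the torus, the torus is its own centraliser, transport of one-parameter subgroups.
-/

universe u v

set_option linter.unusedSectionVars false
set_option linter.style.haveILetI false

noncomputable section

open scoped Matrix
open H20Conj (GLk Mat Vec evM EPoly IsZClosed IsLaurent coneIdeal)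

namespace Groth.Agent.H21Red0

variable {K : Type u} [Field K] {M : Type} [AddCommGroup M] {Γ : Type v} [Group Γ] {ι : Type}

namespace Data

variable (Δ : Data K M Γ ι)

/-- a set of points cut out by regular functions -/
def IsRClosed (S : Set Γ) : Prop := ∀ g, (∀ F ∈ Δ.R, (∀ s ∈ S, F s = 0) → F g = 0) → g ∈ S

theorem isRClosed_top : Δ.IsRClosed ((⊤ : Subgroup Γ) : Set Γ) := fun _ _ => trivial

theorem IsRClosed.inter {S S' : Set Γ} (h : Δ.IsRClosed S) (h' : Δ.IsRClosed S') : Δ.IsRClosed (S ∩ S') :=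
  fun g hg => ⟨h g fun F hF h0 => hg F hF fun s hs => h0 s hs.1, h' g fun F hF h0 => hg F hF fun s hs => h0 s hs.2⟩

/-- a set cut out by regular functions is closed -/
theorem isRClosed_of_eqs {κ : Type*} (F : κ → Γ → K) (hF : ∀ i, F i ∈ Δ.R) :
    Δ.IsRClosed {g | ∀ i, F i g = 0} := fun _ hg i => hg _ (hF i) fun _ hs => hs i

theorem isZClosed_map {S : Subgroup Γ} (hS : Δ.IsRClosed (S : Set Γ)) :
    IsZClosed ((S.map Δ.φ₀ : Subgroup (GLk K Δ.N₀)) : Set (GLk K Δ.N₀)) := by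
  intro x hx
  obtain ⟨g, rfl⟩ := Δ.closed x fun p hp => hx p (H20Conj.vIdeal_mono
    (by rintro _ ⟨s, -, rfl⟩; exact ⟨s, rfl⟩) hp)
  refine ⟨g, hS g fun F hF h0 => ?_, rfl⟩
  obtain ⟨k, P, hP⟩ := Δ.exists_epoly hF
  have h := hx P (H20Conj.mem_vIdeal.mpr fun y hy => by
    obtain ⟨s, hs, rfl⟩ := hy
    rw [← hP, h0 s hs, zero_mul])
  rw [← hP] at h
  exact (mul_eq_zero.mp h).resolve_right
    (pow_ne_zero _ ((Matrix.isUnit_iff_isUnit_det _).mp (Δ.φ₀ g).isUnit).ne_zero)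

variable {N : ℕ}

/-- block diagonal matrices -/
def blk (A : Mat K Δ.N₀) (B : Mat K N) : Mat K (Δ.N₀ + N) :=
  (Matrix.fromBlocks A 0 0 B).submatrix finSumFinEquiv.symm finSumFinEquiv.symm

/-- a vector in the second block -/
def ext (v : Vec K N) : Vec K (Δ.N₀ + N) := Sum.elim 0 v ∘ finSumFinEquiv.symm

theorem blk_apply (A : Mat K Δ.N₀) (B : Mat K N) (x y : Fin Δ.N₀ ⊕ Fin N) :
    Δ.blk A B (finSumFinEquiv x) (finSumFinEquiv y) = Matrix.fromBlocks A 0 0 B x y := by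
  rw [blk, Matrix.submatrix_apply, Equiv.symm_apply_apply, Equiv.symm_apply_apply]

theorem blk_mulVec (A : Mat K Δ.N₀) (B : Mat K N) (v : Vec K N) : Δ.blk A B *ᵥ Δ.ext v = Δ.ext (B *ᵥ v) := by
  rw [blk, Matrix.submatrix_mulVec_equiv, ext, Equiv.symm_symm, Function.comp_assoc, Equiv.symm_comp_self,
    Function.comp_id, Matrix.fromBlocks_mulVec]
  simp [ext]

theorem ext_smul (c : K) (v : Vec K N) : Δ.ext (c • v) = c • Δ.ext v := funext fun a => by
  rcases h : finSumFinEquiv.symm a with x | x <;> simp [ext, h]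

theorem ext_injective : Function.Injective (Δ.ext : Vec K N → Vec K (Δ.N₀ + N)) := fun v w h => funext fun a => by
  simpa [ext] using congrFun h (finSumFinEquiv (Sum.inr a))

/-- the sum of the embedding and a representation -/
def sumRep (φ : Γ →* GLk K N) : Γ →* GLk K (Δ.N₀ + N) :=
  MonoidHom.toHomUnits
    { toFun := fun g => Δ.blk (Δ.φ₀ g) (φ g)
      map_one' := by simp [blk]
      map_mul' := fun g h => by
        simp only [blk, map_mul, Units.val_mul]
        rw [Matrix.submatrix_mul_equiv, Matrix.fromBlocks_multiply]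
        simp }

theorem sumRep_coe (φ : Γ →* GLk K N) (g : Γ) : (Δ.sumRep φ g : Mat K (Δ.N₀ + N)) = Δ.blk (Δ.φ₀ g) (φ g) := rfl

variable {φ : Γ →* GLk K N}

theorem isZClosed_map_sumRep (hφ : Δ.IsRep φ) {S : Subgroup Γ} (hS : Δ.IsRClosed (S : Set Γ)) :
    IsZClosed ((S.map (Δ.sumRep φ) : Subgroup (GLk K (Δ.N₀ + N))) : Set (GLk K (Δ.N₀ + N))) := by
  intro x hx
  let e := finSumFinEquiv (m := Δ.N₀) (n := N)
  let B : Matrix (Fin Δ.N₀ ⊕ Fin N) (Fin Δ.N₀ ⊕ Fin N) K := (x : Mat K (Δ.N₀ + N)).submatrix e e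
  have hev : ∀ s : Γ, ∀ i j : Fin Δ.N₀ ⊕ Fin N,
      evM (Δ.sumRep φ s) (MvPolynomial.X (e i, e j)) = Matrix.fromBlocks (Δ.φ₀ s : Mat K Δ.N₀) 0 0 (φ s) i j :=
    fun s i j => by simp [evM, sumRep_coe, e, blk_apply]
  have hev' : ∀ i j, evM x (MvPolynomial.X (e i, e j)) = B i j := fun i j => by simp [evM, B]
  have hoff : ∀ i j, B (Sum.inl i) (Sum.inr j) = 0 ∧ B (Sum.inr j) (Sum.inl i) = 0 := fun i j => by
    constructor <;> rw [← hev'] <;> refine hx _ (H20Conj.mem_vIdeal.mpr ?_) <;> rintro _ ⟨s, -, rfl⟩ <;>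
      simp [hev]
  have hB : B = Matrix.fromBlocks B.toBlocks₁₁ 0 0 B.toBlocks₂₂ := by
    conv_lhs => rw [← Matrix.fromBlocks_toBlocks B]
    rw [show B.toBlocks₁₂ = 0 from Matrix.ext fun i j => (hoff i j).1,
      show B.toBlocks₂₁ = 0 from Matrix.ext fun j i => (hoff i j).2]
  have hdet : IsUnit B.toBlocks₁₁.det := by
    have h : IsUnit B.det := by
      rw [Matrix.det_submatrix_equiv_self]
      exact (Matrix.isUnit_iff_isUnit_det _).mp x.isUnit
    rw [hB, Matrix.det_fromBlocks_zero₂₁] at h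
    exact isUnit_of_mul_isUnit_left h
  let A : GLk K Δ.N₀ := ((Matrix.isUnit_iff_isUnit_det _).mpr hdet).unit
  let ren : EPoly K Δ.N₀ →ₐ[K] EPoly K (Δ.N₀ + N) :=
    MvPolynomial.rename fun ij => (e (Sum.inl ij.1), e (Sum.inl ij.2))
  have hren : ∀ (s : Γ) (p : EPoly K Δ.N₀), evM (Δ.sumRep φ s) (ren p) = evM (Δ.φ₀ s) p := fun s p => by
    show ((evM (Δ.sumRep φ s)).comp ren) p = _
    refine congrArg (fun f : EPoly K Δ.N₀ →ₐ[K] K => f p) (MvPolynomial.algHom_ext fun ij => ?_)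
    rw [AlgHom.comp_apply, MvPolynomial.rename_X, hev]
    simp [evM]
  have hren' : ∀ p : EPoly K Δ.N₀, evM x (ren p) = evM A p := fun p => by
    show ((evM x).comp ren) p = _
    refine congrArg (fun f : EPoly K Δ.N₀ →ₐ[K] K => f p) (MvPolynomial.algHom_ext fun ij => ?_)
    rw [AlgHom.comp_apply, MvPolynomial.rename_X, hev']
    simp [evM, A, Matrix.toBlocks₁₁]
  obtain ⟨g, hg, hgA⟩ := Δ.isZClosed_map hS A fun p hp => by
    rw [← hren']
    refine hx _ (H20Conj.mem_vIdeal.mpr ?_)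
    rintro _ ⟨s, hs, rfl⟩
    rw [hren]
    exact H20Conj.mem_vIdeal.mp hp _ ⟨s, hs, rfl⟩
  refine ⟨g, hg, Units.ext ?_⟩
  have h22 : B.toBlocks₂₂ = (φ g : Mat K N) := Matrix.ext fun p q => by
    obtain ⟨k, P, hP⟩ := Δ.exists_epoly (hφ p q)
    let X := Matrix.mvPolynomialX (Fin Δ.N₀) (Fin Δ.N₀) K
    have hd : ∀ y : GLk K Δ.N₀, evM y X.det = (y : Mat K Δ.N₀).det := fun y => by
      rw [AlgHom.map_det]; exact congrArg Matrix.det (H20Conj.map_evM_X _)
    have h := hx (MvPolynomial.X (e (Sum.inr p), e (Sum.inr q)) * ren (X.det ^ k) - ren P) (H20Conj.mem_vIdeal.mpr (by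
      rintro _ ⟨s, -, rfl⟩
      rw [map_sub, map_mul, hev, hren, hren, map_pow, hd, ← hP]
      simp))
    rw [map_sub, map_mul, hev', hren', hren', map_pow, hd, ← hgA, ← hP, sub_eq_zero] at h
    exact mul_right_cancel₀ (pow_ne_zero _ ((Matrix.isUnit_iff_isUnit_det _).mp (Δ.φ₀ g).isUnit).ne_zero) h
  have h11 : B.toBlocks₁₁ = (Δ.φ₀ g : Mat K Δ.N₀) := (congrArg Units.val hgA).symm
  rw [sumRep_coe, blk, ← h22, ← h11, ← hB]
  simp [B, e]

theorem coneIdeal_sumRep [IsAlgClosed K] (S : Subgroup Γ) (v : Vec K N) (f : MvPolynomial (Fin (Δ.N₀ + N)) K) :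
    f ∈ coneIdeal (S.map (Δ.sumRep φ)) ⊥ (Δ.ext v) ↔
      MvPolynomial.aeval (Sum.elim 0 MvPolynomial.X ∘ finSumFinEquiv.symm : _ → MvPolynomial (Fin N) K) f ∈
        coneIdeal (S.map φ) ⊥ v := by
  have hev : ∀ w : Vec K N, MvPolynomial.eval w
      (MvPolynomial.aeval (Sum.elim 0 MvPolynomial.X ∘ finSumFinEquiv.symm : _ → MvPolynomial (Fin N) K) f) =
        MvPolynomial.eval (Δ.ext w) f := fun w => by
    show MvPolynomial.aeval w (MvPolynomial.aeval _ f) = MvPolynomial.aeval (Δ.ext w) f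
    rw [← AlgHom.comp_apply, MvPolynomial.comp_aeval]
    refine congrArg (fun z => MvPolynomial.aeval z f) (funext fun a => ?_)
    rcases h : finSumFinEquiv.symm a with x | x <;> simp [ext, h]
  rw [H20Conj.mem_coneIdeal, H20Conj.mem_coneIdeal]
  constructor
  · rintro hf _ ⟨s, hs, rfl⟩ c w hw
    rw [(Submodule.mem_bot K).mp hw, add_zero, hev, ext_smul, ← blk_mulVec Δ (Δ.φ₀ s : Mat K Δ.N₀), ← sumRep_coe]
    simpa using hf _ ⟨s, hs, rfl⟩ c 0 (zero_mem _)
  · rintro hf _ ⟨s, hs, rfl⟩ c w hw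
    rw [(Submodule.mem_bot K).mp hw, add_zero, sumRep_coe, blk_mulVec, ← ext_smul, ← hev]
    simpa using hf _ ⟨s, hs, rfl⟩ c 0 (zero_mem _)

variable [IsAlgClosed K]

/-- vectors with the same cone are conjugate up to a scalar -/
theorem exists_move (hφ : Δ.IsRep φ) {S : Subgroup Γ} (hS : Δ.IsRClosed (S : Set Γ)) {y z : Vec K N}
    (h : coneIdeal (S.map φ) ⊥ y = coneIdeal (S.map φ) ⊥ z) :
    ∃ g ∈ S, ∃ c : Kˣ, (φ g : Mat K N) *ᵥ y = (c : K) • z := by
  obtain ⟨_, ⟨g, hg, rfl⟩, c, w, hw, e⟩ := H20Conj.exists_move (Δ.isZClosed_map_sumRep hφ hS)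
    (W := ⊥) (fun x _ v hv => by rw [Submodule.mem_bot] at hv ⊢; rw [hv, Matrix.mulVec_zero])
    (y := Δ.ext y) (z := Δ.ext z) (Ideal.ext fun f => by rw [coneIdeal_sumRep, coneIdeal_sumRep, h])
  rw [Submodule.mem_bot] at hw
  rw [hw, add_zero, sumRep_coe, blk_mulVec, ← ext_smul] at e
  exact ⟨g, hg, c, Δ.ext_injective e⟩

variable [Module.Finite ℤ M] [Module.Free ℤ M]

theorem isLaurent_cch (hφ : Δ.IsRep φ) (η : M →+ ℤ) : IsLaurent (φ.comp (Δ.tau.comp (cch η))) := by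
  classical
  obtain ⟨W⟩ := Δ.exists_wts hφ
  refine ⟨W.s.image η, fun i => ∑ m ∈ W.s with η m = i, W.E m, fun t => ?_⟩
  rw [show ((φ.comp (Δ.tau.comp (cch η))) t : Mat K N) = (φ (Δ.tau (cch η t)) : Mat K N) from rfl, W.tau_eq,
    ← Finset.sum_fiberwise_of_maps_to (fun m hm => Finset.mem_image_of_mem η hm)]
  refine Finset.sum_congr rfl fun i _ => ?_
  rw [Finset.smul_sum]
  exact Finset.sum_congr rfl fun m hm => by rw [evH_cch, (Finset.mem_filter.mp hm).2]

theorem commute_tau_of_coord {x : Γ} {r : ℕ} (b : Module.Basis (Fin r) ℤ M)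
    (h : ∀ (j : Fin r) (t : Kˣ), Commute x (Δ.tau (cch (b.coord j).toAddMonoidHom t))) (χ : Tpt K M) :
    Commute x (Δ.tau χ) := by
  classical
  have hχ : χ = ∏ j, cch (b.coord j).toAddMonoidHom (χ (Multiplicative.ofAdd (b j))) := by
    refine MonoidHom.ext fun m => ?_
    rw [MonoidHom.finsetProd_apply]
    conv_lhs => rw [← ofAdd_toAdd m, ← b.sum_repr m.toAdd, ofAdd_sum, map_prod]
    refine Finset.prod_congr rfl fun j _ => ?_
    rw [ofAdd_zsmul, map_zpow]
    rfl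
  rw [hχ]
  have hmem : ∏ j, cch (b.coord j).toAddMonoidHom (χ (Multiplicative.ofAdd (b j))) ∈
      (Subgroup.centralizer {x}).comap Δ.tau :=
    Subgroup.prod_mem _ fun j _ => Subgroup.mem_centralizer_singleton_iff.mpr (h j _).eq.symm
  exact (Subgroup.mem_centralizer_singleton_iff.mp hmem).symm

/-- a one-parameter subgroup of a closed subgroup is conjugate into the centraliser of the torus -/
theorem exists_conj_tau {S : Subgroup Γ} (hS : Δ.IsRClosed (S : Set Γ)) (hT : ∀ χ, Δ.tau χ ∈ S) (g : Γ)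
    (η : M →+ ℤ) (hg : ∀ t, g * Δ.tau (cch η t) * g⁻¹ ∈ S) :
    ∃ u ∈ S, ∀ t χ, Commute (u * g * Δ.tau (cch η t) * (u * g)⁻¹) (Δ.tau χ) := by
  let b := Module.finBasis ℤ M
  let e : Fin (Module.finrank ℤ M) → Kˣ →* GLk K Δ.N₀ :=
    fun j => Δ.φ₀.comp (Δ.tau.comp (cch (b.coord j).toAddMonoidHom))
  let f : Kˣ →* GLk K Δ.N₀ := (MulAut.conj (Δ.φ₀ g)).toMonoidHom.comp (Δ.φ₀.comp (Δ.tau.comp (cch η)))
  obtain ⟨_, ⟨u, hu, rfl⟩, hc⟩ := H20Conj.exists_conj_one (S.map Δ.φ₀) (Δ.isZClosed_map hS) e f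
    (fun j => Δ.isLaurent_cch Δ.isRep_φ₀ _) ((Δ.isLaurent_cch Δ.isRep_φ₀ η).conj _)
    (fun j t => ⟨_, hT _, rfl⟩) (fun t => ⟨_, hg t, by simp [f]⟩)
    (fun i j s t => ((((Commute.all (cch (b.coord i).toAddMonoidHom s) (cch (b.coord j).toAddMonoidHom t)).map
      Δ.tau).map Δ.φ₀).map (Units.coeHom _)))
  refine ⟨u, hu, fun t χ => Δ.commute_tau_of_coord b (fun j s => Δ.inj (Units.ext ?_)) χ⟩
  have := (hc t j s).eq
  simpa [e, f, Units.val_mul, mul_assoc] using this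

namespace Wts

variable {Δ}

/-- block triangular with respect to a functional -/
def IsUp (W : Δ.Wts φ) (η : M →+ ℤ) (X : Mat K N) : Prop :=
  ∀ m m', m' ≠ m → η m' ≤ η m → W.E m' * X * W.E m = 0

theorem IsUp.mul {W : Δ.Wts φ} {η : M →+ ℤ} {X Y : Mat K N} (hX : W.IsUp η X) (hY : W.IsUp η Y) :
    W.IsUp η (X * Y) ∧ ∀ m, W.E m * (X * Y) * W.E m = (W.E m * X * W.E m) * (W.E m * Y * W.E m) := by
  classical
  have e : ∀ m m', W.E m' * (X * Y) * W.E m = ∑ l ∈ W.s, (W.E m' * X * W.E l) * (W.E l * Y * W.E m) := by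
    intro m m'
    conv_lhs => rw [show X * Y = X * (∑ l ∈ W.s, W.E l) * Y by rw [W.sum_one, Matrix.mul_one]]
    rw [Finset.mul_sum, Finset.sum_mul, Finset.mul_sum, Finset.sum_mul]
    refine Finset.sum_congr rfl fun l _ => ?_
    conv_lhs => rw [← W.idem l]
    simp only [mul_assoc]
  have key : ∀ m m' l, (l ≠ m ∨ m' ≠ l) → η m' ≤ η m → (W.E m' * X * W.E l) * (W.E l * Y * W.E m) = 0 := by
    intro m m' l hl hle
    by_cases h1 : m' ≠ l ∧ η m' ≤ η l
    · rw [hX l m' h1.1 h1.2, Matrix.zero_mul]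
    by_cases h2 : l ≠ m ∧ η l ≤ η m
    · rw [hY m l h2.1 h2.2, Matrix.mul_zero]
    exfalso
    push Not at h1 h2
    rcases hl with hl | hl
    · have := h2 hl
      by_cases h : m' = l
      · subst h; omega
      · have := h1 h; omega
    · have := h1 hl
      by_cases h : l = m
      · subst h; omega
      · have := h2 h; omega
  refine ⟨fun m m' hne hle => ?_, fun m => ?_⟩
  · rw [e]
    refine Finset.sum_eq_zero fun l _ => key m m' l ?_ hle
    by_cases h : l = m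
    · exact Or.inr (h ▸ hne)
    · exact Or.inl h
  · rw [e, Finset.sum_eq_single m (fun l _ hl => key m m l (Or.inl hl) le_rfl)]
    intro hm
    simp [W.out m hm]

theorem isUp_tau (W : Δ.Wts φ) (η : M →+ ℤ) (χ : Tpt K M) :
    W.IsUp η (φ (Δ.tau χ)) ∧ ∀ m, W.E m * (φ (Δ.tau χ) : Mat K N) * W.E m = evH m χ • W.E m :=
  ⟨fun m m' hne _ => by rw [W.mul_tau, Matrix.smul_mul, W.orth m' m hne, smul_zero],
    fun m => by rw [W.mul_tau, Matrix.smul_mul, W.idem]⟩

/-- positive root groups are unitriangular -/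
theorem isUp_of_mem (W : Δ.Wts φ) (hφ : Δ.IsRep φ) {η : M →+ ℤ} {g : Γ} (hg : g ∈ Δ.Pos η) :
    W.IsUp η (φ g) ∧ ∀ m, W.E m * (φ g : Mat K N) * W.E m = W.E m := by
  suffices step : ∀ g, (∃ c x, 0 < η (Δ.root c) ∧ Δ.u c x = g) →
      W.IsUp η (φ g) ∧ ∀ m, W.E m * (φ g : Mat K N) * W.E m = W.E m by
    have hone : W.IsUp η (φ 1) ∧ ∀ m, W.E m * (φ 1 : Mat K N) * W.E m = W.E m := by
      refine ⟨fun m m' hne _ => ?_, fun m => ?_⟩ <;>
        rw [map_one, Units.val_one, Matrix.mul_one]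
      exacts [W.orth m' m hne, W.idem m]
    induction hg using Subgroup.closure_induction_left with
    | one => exact hone
    | mul_left x hx y _ ih =>
      obtain ⟨h1, h2⟩ := (step x hx).1.mul ih.1
      rw [map_mul, Units.val_mul]
      exact ⟨h1, fun m => by rw [h2, (step x hx).2, ih.2, W.idem]⟩
    | inv_mul_cancel x hx y _ ih =>
      obtain ⟨c, z, hc, rfl⟩ := hx
      rw [← Δ.u_neg]
      obtain ⟨h1, h2⟩ := (step _ ⟨c, -z, hc, rfl⟩).1.mul ih.1
      rw [map_mul, Units.val_mul]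
      exact ⟨h1, fun m => by rw [h2, (step _ ⟨c, -z, hc, rfl⟩).2, ih.2, W.idem]⟩
  rintro _ ⟨c, x, hc, rfl⟩
  refine ⟨fun m m' hne hle => ?_, fun m => (W.raise hφ c m m x).2⟩
  by_contra h
  obtain ⟨j, hj⟩ := (W.raise hφ c m m' x).1 h
  have := congrArg η hj
  rw [map_add, map_nsmul, nsmul_eq_mul] at this
  rcases Nat.eq_zero_or_pos j with hj0 | hj0
  · exact hne (by rw [hj, hj0, zero_smul, add_zero])
  · nlinarith [mul_pos (show (0 : ℤ) < j by exact_mod_cast hj0) hc]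

end Wts

variable [Finite ι]

theorem exists_regular : ∃ η : M →+ ℤ, ∀ c, η (Δ.root c) ≠ 0 := by
  obtain ⟨f, hf⟩ := H21Split.exists_dual_ne_zero Δ.root
  exact ⟨f, fun c => hf c (Δ.root_ne c)⟩

/-- the torus is its own centraliser -/
theorem exists_tau_of_commute {z : Γ} (hz : ∀ χ, Commute z (Δ.tau χ)) : ∃ χ, Δ.tau χ = z := by
  obtain ⟨η, hη⟩ := Δ.exists_regular
  obtain ⟨W⟩ := Δ.exists_wts Δ.isRep_φ₀
  obtain ⟨v, hv, χ, w, hw, v', hv', χ', w', hw', e⟩ := Δ.meet η hη z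
  rw [Δ.closure_neg] at hv hv'
  refine ⟨χ' * χ⁻¹, Δ.inj (Units.ext (W.ext_blocks fun m _ m' _ => ?_))⟩
  have hZ : ∀ m m', m' ≠ m → W.E m' * (Δ.φ₀ z : Mat K Δ.N₀) * W.E m = 0 := fun m m' hne => by
    obtain ⟨ξ, hξ⟩ := DFunLike.ne_iff.mp ((evH_injective (K := K)).ne hne)
    have h := congrArg (fun X => W.E m' * X * W.E m) (congrArg Units.val ((hz ξ).map Δ.φ₀).eq)
    simp only [Units.val_mul] at h
    rw [← mul_assoc (W.E m'), mul_assoc _ _ (W.E m), W.tau_mul, Matrix.mul_smul,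
      ← mul_assoc (W.E m'), W.mul_tau, Matrix.smul_mul, Matrix.smul_mul, ← sub_eq_zero, ← sub_smul] at h
    exact (smul_eq_zero.mp h).resolve_left (sub_ne_zero.mpr (Ne.symm hξ))
  by_cases hne : m' = m
  · subst hne
    rw [(W.isUp_tau η _).2]
    have h : v'⁻¹ * z * v = Δ.tau χ' * w' * w⁻¹ * (Δ.tau χ)⁻¹ := by
      have e' : z = v' * Δ.tau χ' * w' * (v * Δ.tau χ * w)⁻¹ := eq_mul_inv_of_mul_eq e
      rw [e']; group
    have hl1 := W.isUp_of_mem Δ.isRep_φ₀ (inv_mem hv')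
    have hl2 := W.isUp_of_mem Δ.isRep_φ₀ hv
    have hzU : W.IsUp (-η) (Δ.φ₀ z : Mat K Δ.N₀) := fun m m' hne _ => hZ m m' hne
    have hL := (hl1.1.mul hzU).1.mul hl2.1
    have hr1 := W.isUp_tau η χ'
    have hr2 := W.isUp_of_mem Δ.isRep_φ₀ (mul_mem hw' (inv_mem hw))
    have hr3 := W.isUp_tau η χ⁻¹
    have hR := (hr1.1.mul hr2.1).1.mul hr3.1
    have h' := congrArg (fun X => W.E m' * X * W.E m') (congrArg (fun g => (Δ.φ₀ g : Mat K Δ.N₀)) h)
    simp only [map_mul, Units.val_mul] at h'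
    rw [hL.2, (hl1.1.mul hzU).2, hl1.2, hl2.2] at h'
    rw [mul_assoc (Δ.φ₀ (Δ.tau χ') : Mat K Δ.N₀), ← Units.val_mul _ (Δ.φ₀ w⁻¹), ← map_mul Δ.φ₀ w', ← map_inv Δ.tau,
      hR.2, (hr1.1.mul hr2.1).2, hr1.2, hr2.2, hr3.2] at h'
    simp only [Matrix.smul_mul, Matrix.mul_smul, W.idem, ← mul_assoc] at h'
    simp only [mul_assoc, W.idem] at h'
    rw [map_mul, mul_comm]
    rw [smul_smul] at h'
    simpa [mul_assoc] using h'.symm
  · rw [hZ m m' hne, W.mul_tau, Matrix.smul_mul, W.orth m' m hne, smul_zero]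

/-- a one-parameter subgroup conjugated into the centraliser of the torus is, up to a multiple, one of the torus -/
theorem exists_transport {n : Γ} {η : M →+ ℤ}
    (h : ∀ t χ, Commute (n * Δ.tau (cch η t) * n⁻¹) (Δ.tau χ)) :
    ∃ (p : ℕ) (η' : M →+ ℤ), 0 < p ∧ ∀ t, n * Δ.tau (cch (p • η) t) = Δ.tau (cch η' t) * n := by
  classical
  obtain ⟨W⟩ := Δ.exists_wts Δ.isRep_φ₀
  choose χ hχ using fun t => Δ.exists_tau_of_commute (h t)
  have hχmul : ∀ s t, χ (s * t) = χ s * χ t := fun s t => Δ.tau_inj (by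
    rw [map_mul, hχ, hχ, hχ, map_mul, map_mul]; group)
  have hχone : χ 1 = 1 := Δ.tau_inj (by rw [hχ, map_one, map_one]; group)
  let χH : Kˣ →* Tpt K M := { toFun := χ, map_one' := hχone, map_mul' := hχmul }
  let L : AddSubgroup M :=
    { carrier := {m | ∃ k : ℤ, ∀ t, evH m (χ t) = ((t ^ k : Kˣ) : K)}
      zero_mem' := ⟨0, fun t => by rw [evH_zero, zpow_zero, Units.val_one]⟩
      add_mem' := by
        rintro a b ⟨k, hk⟩ ⟨l, hl⟩
        exact ⟨k + l, fun t => by rw [evH_add, hk, hl, zpow_add, Units.val_mul]⟩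
      neg_mem' := by
        rintro a ⟨k, hk⟩
        refine ⟨-k, fun t => ?_⟩
        have h0 := evH_add a (-a) (χ t)
        rw [add_neg_cancel, evH_zero, hk] at h0
        rw [zpow_neg, Units.val_inv_eq_inv_val]
        exact eq_inv_of_mul_eq_one_right h0.symm }
  have hLs : ∀ m ∈ W.s, m ∈ L := by
    intro m hm
    obtain ⟨p, q, hpq⟩ : ∃ p q, W.E m p q ≠ 0 := by
      by_contra hh
      push Not at hh
      exact W.ne m hm (Matrix.ext hh)
    obtain ⟨s, P, hP⟩ := (Δ.isLaurent_cch Δ.isRep_φ₀ η).conj (Δ.φ₀ n)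
    have hf : ∀ t, evH m (χ t) = ∑ i ∈ s, ((W.E m * P i * W.E m) p q / W.E m p q) * ((t ^ i : Kˣ) : K) := by
      intro t
      have e1 : W.E m * (Δ.φ₀ (Δ.tau (χ t)) : Mat K Δ.N₀) * W.E m = evH m (χ t) • W.E m := by
        rw [W.mul_tau, Matrix.smul_mul, W.idem]
      have e2 : ((MulAut.conj (Δ.φ₀ n)).toMonoidHom.comp (Δ.φ₀.comp (Δ.tau.comp (cch η)))) t = Δ.φ₀ (Δ.tau (χ t)) := by
        rw [hχ]; simp
      rw [← e2, hP, Finset.mul_sum, Finset.sum_mul] at e1
      have e3 := congrFun (congrFun e1 p) q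
      rw [Matrix.sum_apply, Matrix.smul_apply, smul_eq_mul] at e3
      rw [← mul_div_cancel_right₀ (evH m (χ t)) hpq, ← e3, Finset.sum_div]
      refine Finset.sum_congr rfl fun i _ => ?_
      rw [Matrix.mul_smul, Matrix.smul_mul, Matrix.smul_apply, smul_eq_mul]
      ring
    obtain ⟨i, hi, hci⟩ : ∃ i ∈ s, (W.E m * P i * W.E m) p q / W.E m p q ≠ 0 := by
      by_contra hh
      push Not at hh
      refine evH_ne (χ 1) m ?_
      rw [hf 1]
      exact Finset.sum_eq_zero fun i hi => by rw [hh i hi, zero_mul]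
    refine ⟨i, fun u => ?_⟩
    have h0 := H20Conj.laurent_zero (s := s)
      (c := fun l => (W.E m * P l * W.E m) p q / W.E m p q * (((u ^ l : Kˣ) : K) - evH m (χ u))) (fun t => by
        simp only [mul_sub, sub_mul, Finset.sum_sub_distrib, sub_eq_zero]
        calc ∑ l ∈ s, (W.E m * P l * W.E m) p q / W.E m p q * ((u ^ l : Kˣ) : K) * ((t ^ l : Kˣ) : K)
            = evH m (χ (u * t)) := by
              rw [hf]
              exact Finset.sum_congr rfl fun l _ => by rw [mul_zpow, Units.val_mul]; ring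
          _ = evH m (χ u) * evH m (χ t) := by rw [hχmul, map_mul]
          _ = _ := by
              rw [hf t, Finset.mul_sum]
              exact Finset.sum_congr rfl fun l _ => by ring) i hi
    exact (sub_eq_zero.mp ((mul_eq_zero.mp h0).resolve_left hci)).symm
  have hfull : ∀ m : M, ∃ N : ℕ, 0 < N ∧ N • m ∈ L := by
    intro m
    by_contra hh
    push Not at hh
    let L' : Submodule ℤ M := Submodule.span ℤ (W.s : Set M)
    have hL' : ∀ x ∈ L', x ∈ L := fun x hx =>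
      (Submodule.span_le (p := AddSubgroup.toIntSubmodule L)).mpr hLs hx
    let Q := (M ⧸ L') ⧸ Submodule.torsion ℤ (M ⧸ L')
    let π : M →ₗ[ℤ] Q := (Submodule.mkQ _).comp (Submodule.mkQ L')
    have hπ : π m ≠ 0 := by
      intro h0
      obtain ⟨⟨a, ha⟩, ha'⟩ : L'.mkQ m ∈ Submodule.torsion ℤ (M ⧸ L') := (Submodule.Quotient.mk_eq_zero _).mp h0
      have ha0 : a ≠ 0 := nonZeroDivisors.ne_zero ha
      have h1 : a • m ∈ L' := (Submodule.Quotient.mk_eq_zero L').mp ha'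
      refine hh a.natAbs (Int.natAbs_pos.mpr ha0) (hL' _ ?_)
      rw [← natCast_zsmul]
      rcases Int.natAbs_eq a with he | he
      · rwa [← he]
      · rw [show ((a.natAbs : ℤ)) = -a by omega, neg_smul]; exact neg_mem h1
    haveI : Module.Free ℤ Q := Module.free_of_finite_type_torsion_free'
    obtain ⟨ψ, hψ⟩ := Module.Projective.exists_dual_ne_zero ℤ hπ
    let ξ : M →+ ℤ := (ψ.comp π).toAddMonoidHom
    obtain ⟨t, ht⟩ := exists_zpow_ne_one (K := K) (i := ξ m) hψ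
    have hξ : ∀ x ∈ W.s, ξ x = 0 := fun x hx => by
      show ψ (π x) = 0
      rw [show π x = (Submodule.mkQ _) (L'.mkQ x) from rfl,
        show L'.mkQ x = 0 from (Submodule.Quotient.mk_eq_zero L').mpr (Submodule.subset_span hx), map_zero, map_zero]
    have h1 : Δ.tau (cch ξ t) = 1 := Δ.inj (Units.ext (W.ext_blocks fun x hx y _ => by
      rw [map_one, Units.val_one, Matrix.mul_one, mul_assoc, W.tau_mul, evH_cch, hξ x hx, zpow_zero, Units.val_one,
        one_smul]))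
    refine ht ?_
    have h2 : cch (K := K) ξ t = 1 := Δ.tau_inj (by rw [h1, map_one])
    have h3 := congrArg (evH m) h2
    rwa [map_one, evH_cch] at h3
  let b := Module.finBasis ℤ M
  choose Nb hNb0 hNb using fun j => hfull (b j)
  let p := ∏ j, Nb j
  have hp : ∀ j, p • b j ∈ L := fun j => by
    obtain ⟨d, hd⟩ := Finset.dvd_prod_of_mem Nb (Finset.mem_univ j)
    rw [show p = d * Nb j by rw [mul_comm]; exact hd, mul_smul]
    exact nsmul_mem (hNb j) d
  choose k hk using hp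
  refine ⟨p, (b.constr ℤ k).toAddMonoidHom, Finset.prod_pos fun j _ => hNb0 j, fun t => ?_⟩
  have hev : ∀ x, evH x (χ (t ^ p)) = evH x (cch (K := K) (b.constr ℤ k).toAddMonoidHom t) := by
    have hj : ∀ j, evH (b j) (χ (t ^ p)) = evH (b j) (cch (K := K) (b.constr ℤ k).toAddMonoidHom t) := fun j => by
      rw [show χ (t ^ p) = χH (t ^ p) from rfl, map_pow, map_pow, ← evH_nsmul]
      refine (hk j t).trans ?_
      rw [evH_cch]
      simp [b.constr_basis]
    have : ((χ (t ^ p)) : Tpt K M) = cch (b.constr ℤ k).toAddMonoidHom t := by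
      refine MonoidHom.ext fun m => ?_
      rw [← ofAdd_toAdd m, ← b.sum_repr m.toAdd, ofAdd_sum, map_prod, map_prod]
      refine Finset.prod_congr rfl fun j _ => ?_
      rw [ofAdd_zsmul, map_zpow, map_zpow]
      exact congrArg (· ^ _) (Units.ext (hj j))
    intro x; rw [this]
  rw [cch_nsmul, ← show χ (t ^ p) = cch (b.constr ℤ k).toAddMonoidHom t from
    MonoidHom.ext fun m => Units.ext (hev m.toAdd), hχ]
  group

end Data

end Groth.Agent.H21Red0
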