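import Groth.Agent.H21Split.Red0.GeomSplit
import Groth.Agent.H21Split.Red0.IsoThm
import Groth.Agent.S3901
import Groth.Agent.S2963

/-!
Conjugacy of maximal tori over algebraically closed fields, and the type of a split group.
-/

open CategoryTheory MonoidalCategory CartesianMonoidalCategory MonObj GrpObj AlgebraicGeometry
open CategoryTheory.Limits

universe u

set_option backward.isDefEq.respectTransparency false
set_option linter.style.haveILetI false
set_option linter.unusedSectionVars false
set_option synthInstance.maxHeartbeats 400000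
set_option maxHeartbeats 1000000

noncomputable section

namespace Groth.Agent.H21Red0

variable {K : Type u} [Field K] [IsAlgClosed K]

theorem connectedSpace_of_isReductive {H : Over (Spec (CommRingCat.of K))} [GrpObj H] (hH : Red.IsReductive H) :
    ConnectedSpace ↥H.left := by
  let t : ↥(Spec (CommRingCat.of K)) := (IsLocalRing.closedPoint K : PrimeSpectrum K)
  haveI := H20Conj.isIso_geomPt t
  haveI : ConnectedSpace ↥(pullback H.hom (Red.geomPt t)) := (hH.2.2 t).2.2.1
  exact (pullback.fst H.hom (Red.geomPt t)).surjective.connectedSpace (pullback.fst H.hom (Red.geomPt t)).continuous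

/-- maximal tori of a reductive group over an algebraically closed field are conjugate -/
theorem exists_conj {H : Over (Spec (CommRingCat.of K))} [GrpObj H] (hH : Red.IsReductive H)
    (T T' : Over (Spec (CommRingCat.of K))) [GrpObj T] [GrpObj T'] (i : T ⟶ H) (i' : T' ⟶ H)
    (hi : Red.IsMaximalTorus i) (hi' : Red.IsMaximalTorus i') :
    ∃ g : 𝟙_ (Over (Spec (CommRingCat.of K))) ⟶ H, ∀ (X : Over (Spec (CommRingCat.of K))) (t : X ⟶ T),
      ∃ t' : X ⟶ T', (toUnit X ≫ g) * (t ≫ i) * (toUnit X ≫ g)⁻¹ = t' ≫ i' := by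
  haveI := hH.1
  haveI := hH.2.1
  haveI : IsAffine H.left := isAffine_of_isAffineHom H.hom
  haveI := connectedSpace_of_isReductive hH
  obtain ⟨g, f, hf⟩ := S3901.result K H T T' i i' (H20Conj.isMaxTorus_of_isMaximalTorus hi)
    (H20Conj.isMaxTorus_of_isMaximalTorus hi')
  refine ⟨g, fun X t => ⟨t ≫ f.hom, ?_⟩⟩
  rw [Category.assoc, hf, H20Conj.comp_conjBy]

variable {S : Scheme.{u}} {G : Over S} [GrpObj G]

/-- the root datum of a splitting is the type of every geometric fibre -/
theorem nonempty_equiv_of_isSplitOfType (D : Red.SplitRed G) (s : S) {ι' M' N' : Type} [AddCommGroup M'] [Module ℤ M']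
    [AddCommGroup N'] [Module ℤ N'] {Q : RootPairing ι' ℤ M' N'} (h : Red.IsSplitOfType Q (Red.geomFibre s G)) :
    Nonempty (RootPairing.Equiv D.P Q) := by
  obtain ⟨E, ⟨eE⟩⟩ := h
  obtain ⟨e⟩ := S2963.result (AlgebraicClosure (S.residueField s)) (Red.geomFibre s G) E.reductive
    (fun T T' _ _ i i' hi hi' => exists_conj E.reductive T T' i i' hi hi') (geomSplit D s) E
  exact ⟨RootPairing.Equiv.comp eE e⟩

/-- split groups with a geometric fibre of the same type -/
theorem nonempty_iso_of_geomFibre {G' : Over S} [GrpObj G'] (D : Red.SplitRed G) (D' : Red.SplitRed G') (s : S)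
    {ι' M' N' : Type} [AddCommGroup M'] [Module ℤ M'] [AddCommGroup N'] [Module ℤ N'] (Q : RootPairing ι' ℤ M' N')
    (hs : Red.IsSplitOfType Q (Red.geomFibre s G)) (hs' : Red.IsSplitOfType Q (Red.geomFibre s G')) :
    Nonempty (Grp.mk G ≅ Grp.mk G') := by
  obtain ⟨e⟩ := nonempty_equiv_of_isSplitOfType D s hs
  obtain ⟨e'⟩ := nonempty_equiv_of_isSplitOfType D' s hs'
  exact nonempty_iso D D' (RootPairing.Equiv.comp (RootPairing.Equiv.symm _ _ e) e')

end Groth.Agent.H21Red0
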