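import Groth.Agent.H21Split.Corad.Main
import Groth.Agent.H21Split.Basis
import Groth.Agent.H21Split.Red0.BaseExists

/-!
Characters of root homomorphisms of a split group are roots.
-/

open CategoryTheory MonoidalCategory CartesianMonoidalCategory MonObj GrpObj AlgebraicGeometry
open CategoryTheory.Limits
open TrivSqZeroExt (inl inr)

universe u

set_option backward.isDefEq.respectTransparency false
set_option linter.style.haveILetI false
set_option linter.unusedSectionVars false
set_option synthInstance.maxHeartbeats 400000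

noncomputable section

namespace Groth.Agent.H21Red0

open H21Split

variable {S : Scheme.{u}} {G : Over S} [GrpObj G]

/-- the character of a monomorphism from the additive group normalised by the torus through it is a root -/
theorem root_mem [Nonempty S] (D : Red.SplitRed G) (m : D.M) (hm : m ≠ 0) (v : Red.Ga S ⟶ G) [IsMonHom v] [Mono v]
    (hv : ∀ (R : Type u) [CommRing R] (g : Spec (CommRingCat.of R) ⟶ S) (B : Type u) [CommRing B] [Algebra R B]
      (χ : Multiplicative D.M →* B) (b : B),
      tPt g D χ * (ga g b ≫ v) * (tPt g D χ)⁻¹ = ga g (χ (Multiplicative.ofAdd m) * b) ≫ v) :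
    m ∈ Set.range D.P.root := by
  by_contra hnot
  haveI := isAffineHom_hom D
  obtain ⟨s⟩ := ‹Nonempty S›
  let g : Spec (CommRingCat.of (S.residueField s)) ⟶ S := S.fromSpecResidueField s
  let K : Type u := S.residueField s
  let φ : pt g (DualNumber K) ⟶ G := ga g (inr (1 : K) : DualNumber K) ≫ v
  have hφ : IsLie g φ := by
    unfold IsLie
    change pmap g _ ≫ ga g _ ≫ v = 1
    rw [← Category.assoc, pmap_ga, fstA_apply, TrivSqZeroExt.fst_inr, ga_zero, MonObj.one_comp]
  have hw : tPt g D (univChar K D) * (pmap g (dnMap (constMap K K D)) ≫ φ) * (tPt g D (univChar K D))⁻¹ =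
      pmap g ((scl (MonoidAlgebra.single (Multiplicative.ofAdd m) 1)).comp (dnMap (constMap K K D))) ≫ φ := by
    change tPt g D (univChar K D) * (pmap g (dnMap (constMap K K D)) ≫ ga g _ ≫ v) * (tPt g D (univChar K D))⁻¹ =
      pmap g ((scl (MonoidAlgebra.single (Multiplicative.ofAdd m) 1)).comp (dnMap (constMap K K D))) ≫ ga g _ ≫ v
    rw [← Category.assoc, pmap_ga, hv, ← Category.assoc, pmap_ga]
    congr 2
    refine TrivSqZeroExt.ext ?_ ?_
    · simp [univChar, fst_scl, fst_dnMap]
    · simp [univChar, snd_dnMap, scl]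
  have h1 : φ = 1 := (eq_of_weight g D hφ m hm hw).1 hnot
  have h2 : φ = ga g (0 : DualNumber K) ≫ v := by rw [h1, ga_zero, MonObj.one_comp]
  have h3 := congrArg (gv g) ((cancel_mono v).mp h2)
  rw [gv_ga, gv_ga] at h3
  have h4 := congrArg TrivSqZeroExt.snd h3
  simp only [TrivSqZeroExt.snd_inr, TrivSqZeroExt.snd_zero] at h4
  exact one_ne_zero (α := K) h4

end Groth.Agent.H21Red0
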